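import Cfsg.Agent.Lib.Known.MinIndexOrth.Num

/-!
Sufficient inequalities for the numerical conditions.
-/

set_option autoImplicit false

namespace CfsgLib.MinIndexOrth

variable {q p f g d i B S S₂ : ℕ}

theorem nPairs_le (p a : ℕ) : nPairs p a ≤ a * a :=
  Nat.mul_le_mul (Nat.sub_le _ _) (Nat.sub_le _ _)

theorem pair_le_of_mul {a T : ℕ} (h : B * a ≤ T) : B * nPairs p a ≤ a * T :=
  (Nat.mul_le_mul_left B (nPairs_le p a)).trans
    (le_trans (le_of_eq (by ring)) (Nat.mul_le_mul_left a h))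

theorem pair_le_of_cube {a k T : ℕ} (hak : a * k = q ^ d) (hk : 0 < k)
    (h : B * k ^ 3 ≤ q ^ d * T) : B * nPairs p k ≤ a * T := by
  refine (Nat.mul_le_mul_left B (nPairs_le p k)).trans (Nat.le_of_mul_le_mul_right ?_ hk)
  calc B * (k * k) * k = B * k ^ 3 := by ring
    _ ≤ q ^ d * T := h
    _ = a * T * k := by rw [← hak]; ring

theorem ns_of_sq (h : B ^ 2 * q ^ d ≤ tNs q g d ^ 2) :
    ∀ a k, a * k = q ^ d → p < a → p < k →
      B * nPairs p a ≤ a * tNs q g d ∨ B * nPairs p k ≤ a * tNs q g d ∨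
        MidCond q p d i B S S₂ a k := by
  intro a k hak ha hk
  obtain ⟨T, hT⟩ : ∃ T, T = tNs q g d := ⟨_, rfl⟩
  rw [← hT] at h ⊢
  by_cases h1 : B * a ≤ T
  · exact Or.inl (pair_le_of_mul h1)
  refine Or.inr (Or.inl (pair_le_of_cube hak (by omega) ?_))
  by_contra h2
  push Not at h1 h2
  -- `T k < B q ^ d` and `q ^ d T < B k ^ 3`
  have e1 : T * k < B * q ^ d := by
    rw [← hak, ← mul_assoc]
    exact Nat.mul_lt_mul_of_pos_right h1 (by omega)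
  have e3 : (T * k) ^ 3 ≤ (B * q ^ d) ^ 3 := Nat.pow_le_pow_left e1.le 3
  have e4 : q ^ d * T * T ^ 3 ≤ B * (B * q ^ d) ^ 3 :=
    calc q ^ d * T * T ^ 3 ≤ B * k ^ 3 * T ^ 3 := Nat.mul_le_mul_right _ h2.le
      _ = B * (T * k) ^ 3 := by ring
      _ ≤ _ := Nat.mul_le_mul_left _ e3
  rcases Nat.eq_zero_or_pos T with hT0 | hTpos
  · subst hT0
    have hqd : 0 < q ^ d := by rw [← hak]; exact Nat.mul_pos (by omega) (by omega)
    have hB0 : B ^ 2 * q ^ d = 0 := by simpa using h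
    rcases mul_eq_zero.1 hB0 with hB | hB
    · rw [pow_eq_zero_iff two_ne_zero] at hB
      simp [hB] at h1
    · omega
  · -- strictness
    have e5 : q ^ d * T * T ^ 3 < B * (B * q ^ d) ^ 3 := by
      refine lt_of_lt_of_le ?_ (Nat.mul_le_mul_left B e3)
      calc q ^ d * T * T ^ 3 < B * k ^ 3 * T ^ 3 := Nat.mul_lt_mul_of_pos_right h2 (pow_pos hTpos 3)
        _ = B * (T * k) ^ 3 := by ring
    have e6 : B * (B * q ^ d) ^ 3 = q ^ d * (B ^ 2 * q ^ d) ^ 2 := by ring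
    rw [e6, show q ^ d * T * T ^ 3 = q ^ d * (T ^ 2) ^ 2 by ring] at e5
    exact absurd (Nat.mul_le_mul_left (q ^ d) (Nat.pow_le_pow_left h 2)) (not_le.2 e5)

theorem small_of (hd : 5 ≤ d) (hq : 2 ≤ q) (hg : (q - 1) / g ≥ 1)
    (hB : B * (q - 1) * q ^ 2 ≤ (q ^ 3 + 1) * q ^ d) (hS : (q ^ 2 - 1) * q ^ (d - 3) ≤ S) :
    ∀ a k, a * k = q ^ d → 1 < k → k ≤ q →
      B * (k - 1) ≤ a * S ∧ B * (k - 1) ≤ a * ((q - 1) / g * ((q ^ 2 - 1) * q ^ (d - 3))) := by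
  intro a k hak hk1 hkq
  have key : B * (k - 1) ≤ a * ((q ^ 2 - 1) * q ^ (d - 3)) := by
    refine (Nat.mul_le_mul_left B (show k - 1 ≤ q - 1 by omega)).trans
      (Nat.le_of_mul_le_mul_right ?_ (pow_pos (by omega : 0 < q) 2))
    refine hB.trans ?_
    obtain ⟨e, rfl⟩ : ∃ e, d = e + 5 := ⟨d - 5, by omega⟩
    have ha : q ^ (e + 4) ≤ a := by
      refine Nat.le_of_mul_le_mul_right ?_ (show 0 < q by omega)
      rw [← pow_succ, ← hak]
      exact Nat.mul_le_mul_left a hkq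
    obtain ⟨w, rfl⟩ : ∃ w, q = w + 2 := ⟨q - 2, by omega⟩
    rw [show (w + 2) ^ 2 - 1 = w ^ 2 + 4 * w + 3 by ring_nf; omega,
      show e + 5 - 3 = e + 2 by omega]
    calc ((w + 2) ^ 3 + 1) * (w + 2) ^ (e + 5)
        = (w + 2) ^ (e + 4) * (((w + 2) ^ 3 + 1) * (w + 2)) := by ring
      _ ≤ a * (((w + 2) ^ 3 + 1) * (w + 2)) := Nat.mul_le_mul_right _ ha
      _ ≤ a * ((w ^ 2 + 4 * w + 3) * (w + 2) ^ 4) := by
          refine Nat.mul_le_mul_left _ ?_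
          rw [show (w + 2) ^ 4 = (w + 2) ^ 3 * (w + 2) by ring, ← mul_assoc]
          refine Nat.mul_le_mul_right _ ?_
          have h3 : 1 ≤ (w + 2) ^ 3 := Nat.one_le_pow _ _ (by omega)
          calc (w + 2) ^ 3 + 1 ≤ 2 * (w + 2) ^ 3 := by omega
            _ ≤ _ := Nat.mul_le_mul_right _ (by omega)
      _ ≤ a * ((w ^ 2 + 4 * w + 3) * (w + 2) ^ (e + 2) * (w + 2) ^ 2) := by
          rw [mul_assoc _ _ ((w + 2) ^ 2), ← pow_add]
          exact Nat.mul_le_mul_left _ (Nat.mul_le_mul_left _ (Nat.pow_le_pow_right (by omega) (by omega)))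
      _ = _ := by ring
  exact ⟨key.trans (Nat.mul_le_mul_left _ hS),
    key.trans (Nat.mul_le_mul_left _ (Nat.le_mul_of_pos_left _ hg))⟩

theorem two_mul_le_of_lt (hp : p.Prime) (hq : q = p ^ f) {a k : ℕ} (hak : a * k = q ^ d)
    (hk : k < q ^ i) : 2 * k ≤ q ^ i := by
  subst hq
  rw [← pow_mul] at hak hk ⊢
  obtain ⟨α, -, rfl⟩ := (Nat.dvd_prime_pow hp).1 (hak ▸ Dvd.intro_left a rfl)
  have h1 : α < f * i := (Nat.pow_lt_pow_iff_right hp.one_lt).1 hk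
  calc 2 * p ^ α ≤ p * p ^ α := Nat.mul_le_mul_right _ hp.two_le
    _ = p ^ (α + 1) := by ring
    _ ≤ p ^ (f * i) := Nat.pow_le_pow_right hp.pos h1

theorem perpK_of (h : B * q ^ (3 * i) ≤ q ^ d * tPerp q S S₂) :
    ∀ a k, a * k = q ^ d → p < k → k ≤ q ^ i →
      B * nPairs p k ≤ a * tPerp q S S₂ ∨ (k = q ^ i ∧ a ≤ k) := by
  intro a k hak hk hki
  refine Or.inl (pair_le_of_cube hak (by omega) (le_trans (Nat.mul_le_mul_left B ?_) h))
  rw [mul_comm 3, pow_mul]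
  exact Nat.pow_le_pow_left hki 3

theorem perpK_half (hp : p.Prime) (hq : q = p ^ f) (hd : d ≤ 2 * i)
    (h : B * q ^ (3 * i) ≤ 8 * (q ^ d * tPerp q S S₂)) :
    ∀ a k, a * k = q ^ d → p < k → k ≤ q ^ i →
      B * nPairs p k ≤ a * tPerp q S S₂ ∨ (k = q ^ i ∧ a ≤ k) := by
  intro a k hak hk hki
  rcases hki.lt_or_eq with hlt | heq
  · refine Or.inl (pair_le_of_cube hak (by omega) ?_)
    have h2 := Nat.pow_le_pow_left (two_mul_le_of_lt hp hq hak hlt) 3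
    rw [← pow_mul, mul_comm i 3] at h2
    have h3 := (Nat.mul_le_mul_left B h2).trans h
    rw [mul_pow, mul_left_comm] at h3
    exact Nat.le_of_mul_le_mul_left h3 (by norm_num)
  · refine Or.inr ⟨heq, Nat.le_of_mul_le_mul_right ?_ (show 0 < k by omega)⟩
    rw [hak, heq, ← pow_add]
    exact Nat.pow_le_pow_right (by
      rcases Nat.eq_zero_or_pos q with h0 | h0
      · subst h0
        have := pow_pos hp.pos f
        omega
      · exact h0) (by omega)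

theorem perpA_of (h : B * q ^ i ≤ tPerp q S S₂) :
    ∀ a k, a * k = q ^ d → p < a → a ≤ q ^ i →
      B * nPairs p a ≤ a * tPerp q S S₂ ∨ (a = q ^ i ∧ 4 ≤ q ∧
        B * nPairs p a ≤ 2 * (a * tPerp q S S₂) ∧ (q ^ d + 1) * nPairs p a ≤ a * tPerp q S S₂) :=
  fun a k _ _ hai => Or.inl (pair_le_of_mul ((Nat.mul_le_mul_left B hai).trans h))

theorem perpA_half (hp : p.Prime) (hq : q = p ^ f) (h4 : 4 ≤ q)
    (h : B * q ^ i ≤ 2 * tPerp q S S₂)
    (h2 : (q ^ d + 1) * ((q ^ i - 1) * (q ^ i - 2)) ≤ q ^ i * tPerp q S S₂) :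
    ∀ a k, a * k = q ^ d → p < a → a ≤ q ^ i →
      B * nPairs p a ≤ a * tPerp q S S₂ ∨ (a = q ^ i ∧ 4 ≤ q ∧
        B * nPairs p a ≤ 2 * (a * tPerp q S S₂) ∧ (q ^ d + 1) * nPairs p a ≤ a * tPerp q S S₂) := by
  intro a k hak ha hai
  rcases hai.lt_or_eq with hlt | heq
  · refine Or.inl (pair_le_of_mul ?_)
    have h5 := (Nat.mul_le_mul_left B
      (two_mul_le_of_lt hp hq (mul_comm a k ▸ hak : k * a = q ^ d) hlt)).trans h
    rw [mul_left_comm] at h5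
    exact Nat.le_of_mul_le_mul_left h5 two_pos
  · refine Or.inr ⟨heq, h4, ?_, ?_⟩
    · refine (Nat.mul_le_mul_left B (nPairs_le p a)).trans ?_
      rw [heq]
      calc B * (q ^ i * q ^ i) = q ^ i * (B * q ^ i) := by ring
        _ ≤ q ^ i * (2 * tPerp q S S₂) := Nat.mul_le_mul_left _ h
        _ = _ := by ring
    · rw [heq]
      refine le_trans (Nat.mul_le_mul_left _ ?_) h2
      exact Nat.mul_le_mul_left _ (by have := hp.two_le; omega)

theorem sub_of (h : q ^ (3 * i + 1) ≤ (q - 1) * tPerp q S S₂) :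
    ∀ r, 3 ≤ r → r ≤ i + 1 →
      (q ^ r - 1) * ((q ^ (r - 1) - 1) * (q ^ (r - 1) - q)) ≤ (q - 1) * tPerp q S S₂ := by
  intro r hr hri
  rcases Nat.eq_zero_or_pos q with h0 | h0
  · subst h0
    rw [zero_pow (by omega : r ≠ 0)]
    simp
  calc (q ^ r - 1) * ((q ^ (r - 1) - 1) * (q ^ (r - 1) - q))
      ≤ q ^ r * (q ^ (r - 1) * q ^ (r - 1)) :=
        Nat.mul_le_mul (Nat.sub_le _ _) (Nat.mul_le_mul (Nat.sub_le _ _) (Nat.sub_le _ _))
    _ = q ^ (r + ((r - 1) + (r - 1))) := by rw [pow_add, pow_add]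
    _ ≤ q ^ (3 * i + 1) := Nat.pow_le_pow_right h0 (by omega)
    _ ≤ _ := h

/-! ### Small cases over a prime field -/

/-- The conditions at one factorisation, decidable. -/
def CellOK (p g d i B S S₂ α : ℕ) : Prop :=
  let a := p ^ α
  let k := p ^ (d - α)
  (p < a → p < k → B * nPairs p a ≤ a * tNs p g d ∨ B * nPairs p k ≤ a * tNs p g d ∨
    (p ≤ 3 ∧ ∃ e ∈ [α, d - α], 3 ≤ e ∧ B * nHyp p e ≤ a * (S * p ^ (d - 2)) ∧
      B * (p - 1) ≤ a * S ∧ ∀ r < e + 1, 2 ≤ r → r ≤ i →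
        B * ((p ^ r - 1) * (p ^ r - p)) ≤ a * tPerp p S S₂)) ∧
  (1 < k → k ≤ p →
    B * (k - 1) ≤ a * S ∧ B * (k - 1) ≤ a * ((p - 1) / g * ((p ^ 2 - 1) * p ^ (d - 3)))) ∧
  (p < k → k ≤ p ^ i → B * nPairs p k ≤ a * tPerp p S S₂ ∨ (k = p ^ i ∧ a ≤ k)) ∧
  (p < a → a ≤ p ^ i → B * nPairs p a ≤ a * tPerp p S S₂ ∨ (a = p ^ i ∧ 4 ≤ p ∧
    B * nPairs p a ≤ 2 * (a * tPerp p S S₂) ∧ (p ^ d + 1) * nPairs p a ≤ a * tPerp p S S₂))

set_option synthInstance.maxSize 2000 in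
set_option maxHeartbeats 2000000 in
set_option synthInstance.maxHeartbeats 400000 in
instance (p g d i B S S₂ α : ℕ) : Decidable (CellOK p g d i B S S₂ α) := by
  dsimp only [CellOK]; infer_instance

theorem num_of_check (hp : p.Prime) (h1 : B ≤ 2 * p ^ d) (h2 : p ^ 2 - 1 ≤ S)
    (h3 : (B - 1) * (p - 1) < (p - 1) * p ^ d + p * S + (p - 1))
    (h4 : ∀ α < d + 1, CellOK p g d i B S S₂ α)
    (h5 : ∀ r < i + 2, 3 ≤ r →
      (p ^ r - 1) * ((p ^ (r - 1) - 1) * (p ^ (r - 1) - p)) ≤ (p - 1) * tPerp p S S₂) :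
    Num p p g d i B S S₂ := by
  have cell : ∀ a k, a * k = p ^ d → ∃ α < d + 1, a = p ^ α ∧ k = p ^ (d - α) := by
    intro a k hak
    obtain ⟨α, hα, rfl⟩ := (Nat.dvd_prime_pow hp).1 (hak ▸ Dvd.intro k rfl)
    refine ⟨α, by omega, rfl, Nat.eq_of_mul_eq_mul_left (pow_pos hp.pos α) ?_⟩
    rw [hak, ← pow_add, Nat.add_sub_cancel' hα]
  refine ⟨h1, h2, h3, ?_, ?_, ?_, ?_, fun r hr hri => h5 r (by omega) hr⟩
  · intro a k hak ha hk
    obtain ⟨α, hα, rfl, rfl⟩ := cell a k hak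
    rcases (h4 α hα).1 ha hk with h | h | ⟨hp3, e, he, he3, m1, m2, m3⟩
    · exact Or.inl h
    · exact Or.inr (Or.inl h)
    · refine Or.inr (Or.inr ⟨rfl, hp3, e, he3, ?_, m1, m2,
        fun r hr hri hre => m3 r (by omega) hr hri⟩)
      simp only [List.mem_cons, List.not_mem_nil, or_false] at he
      rcases he with rfl | rfl
      · exact Or.inl rfl
      · exact Or.inr rfl
  · intro a k hak hk1 hk
    obtain ⟨α, hα, rfl, rfl⟩ := cell a k hak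
    exact (h4 α hα).2.1 hk1 hk
  · intro a k hak hk1 hk
    obtain ⟨α, hα, rfl, rfl⟩ := cell a k hak
    exact (h4 α hα).2.2.1 hk1 hk
  · intro a k hak hk1 hk
    obtain ⟨α, hα, rfl, rfl⟩ := cell a k hak
    exact (h4 α hα).2.2.2 hk1 hk

end CfsgLib.MinIndexOrth
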