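import Cfsg.Agent.Lib.Known.MinIndexOrth.Families

/-!
The subgroups attaining the bounds for the standard families.
-/

set_option autoImplicit false

namespace CfsgLib.MinIndexOrth

open CfsgLib.Classical.Quad
open scoped _root_.Classical

noncomputable section

variable {F : Type*} [Field F] [Fintype F] {q : ℕ}

theorem pred_dvd (q n : ℕ) : q - 1 ∣ q ^ n - 1 :=
  Nat.sub_one_dvd_pow_sub_one q n

theorem exists_point_odd (hF : Fintype.card F = q) (h2 : (2 : F) ≠ 0) (e : ℕ) {B : ℕ}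
    (hB : B * (q - 1) + 1 = q ^ (2 * e + 6)) :
    ∃ H : Subgroup (commutator (OQ (qOdd (e + 3) F))),
      Subgroup.center (commutator (OQ (qOdd (e + 3) F))) ≤ H ∧ H.index = B := by
  refine exists_index_point (big_qOdd h2 e) ?_
  simp only [coe_qOdd]
  rw [card_zero_odd hF, (field_data hF).2.1, hB, show 2 * (e + 3) = 2 * e + 6 by ring]

theorem exists_vector_odd (hF : Fintype.card F = q) (h2 : (2 : F) ≠ 0) (e : ℕ) {B : ℕ}
    (hB : 2 * B + q ^ (e + 3) = q ^ (2 * e + 6)) :
    ∃ H : Subgroup (commutator (OQ (qOdd (e + 3) F))),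
      Subgroup.center (commutator (OQ (qOdd (e + 3) F))) ≤ H ∧ H.index = B := by
  obtain ⟨c, hc⟩ : ∃ c : F, ¬ IsSquare c := FiniteField.exists_nonsquare fun h => h2 (by
    have := ringChar.eq_iff.1 h
    exact CharTwo.two_eq_zero)
  have hc0 : c ≠ 0 := by rintro rfl; exact hc IsSquare.zero
  refine exists_index_vector (big_qOdd h2 e) hc0 ?_
  have : IsEmpty {x : F // x * x = c} := ⟨fun x => hc ⟨x.1, x.2.symm⟩⟩
  have hv := value_odd hF (e + 3) c
  rw [Nat.card_of_isEmpty (α := {x : F // x * x = c}), Nat.cast_zero, zero_mul, add_zero] at hv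
  have h : Nat.card {v // qOdd (e + 3) F v = c} + q ^ (e + 3) = q ^ (2 * (e + 3)) := by
    exact_mod_cast hv
  rw [show 2 * (e + 3) = 2 * e + 6 by ring] at h
  rw [card_sq_one h2]
  omega

theorem exists_point_plus (hF : Fintype.card F = q) (e : ℕ) {B : ℕ}
    (hB : B * (q - 1) + 1 + q ^ (e + 3) = q ^ (2 * e + 7) + q ^ (e + 4)) :
    ∃ H : Subgroup (commutator (OQ (qPlus (e + 4) F))),
      Subgroup.center (commutator (OQ (qPlus (e + 4) F))) ≤ H ∧ H.index = B := by
  refine exists_index_point ⟨qPlus_nondeg _, by have := finrank_qPlus (F := F) e; omega⟩ ?_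
  have h := card_quadFormPlus_zero hF (e + 4) (by omega)
  simp only [coe_qPlus]
  rw [h, (field_data hF).2.1, show 2 * (e + 4) - 1 = 2 * e + 7 by omega,
    show e + 4 - 1 = e + 3 by omega]
  omega

theorem exists_vector_plus (hF : Fintype.card F = 2) (e : ℕ) {B : ℕ}
    (hB : B + 2 ^ (e + 3) = 2 ^ (2 * e + 7)) :
    ∃ H : Subgroup (commutator (OQ (qPlus (e + 4) F))),
      Subgroup.center (commutator (OQ (qPlus (e + 4) F))) ≤ H ∧ H.index = B := by
  refine exists_index_vector ⟨qPlus_nondeg _, by have := finrank_qPlus (F := F) e; omega⟩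
    (one_ne_zero (α := F)) ?_
  have hv := value_plus hF (e + 4) (one_ne_zero (α := F))
  have h : Nat.card {v // qPlus (e + 4) F v = 1} * 2 + 2 ^ (e + 4) = 2 ^ (2 * (e + 4)) := by
    exact_mod_cast hv
  rw [show 2 * (e + 4) = 2 * e + 7 + 1 by ring,
    show (2 : ℕ) ^ (e + 4) = 2 ^ (e + 3) * 2 by ring,
    show (2 : ℕ) ^ (2 * e + 7 + 1) = 2 ^ (2 * e + 7) * 2 by ring] at h
  have h2 : (2 : F) = 0 := by
    have : ((2 : ℕ) : F) = 0 := by rw [← hF]; exact FiniteField.cast_card_eq_zero F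
    exact_mod_cast this
  have : Nonempty {b : F // b * b = 1} := ⟨⟨1, one_mul 1⟩⟩
  rw [show Nat.card {b : F // b * b = 1} = 1 from le_antisymm (card_sq_one_le_one h2) Nat.card_pos]
  omega

theorem exists_point_minus (hF : Fintype.card F = q) {a b : F}
    (hab : ∀ z₁ z₂ : F, z₁ ^ 2 + a * z₁ * z₂ + b * z₂ ^ 2 = 0 → z₁ = 0 ∧ z₂ = 0) (e : ℕ) {B : ℕ}
    (hB : B * (q - 1) + 1 + q ^ (e + 4) = q ^ (2 * e + 7) + q ^ (e + 3)) :
    ∃ H : Subgroup (commutator (OQ (qMinus (e + 3) F a b))),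
      Subgroup.center (commutator (OQ (qMinus (e + 3) F a b))) ≤ H ∧ H.index = B := by
  refine exists_index_point ⟨qMinus_nondeg hab _, by have := finrank_qMinus (F := F) e; omega⟩ ?_
  have h := card_zero_minus hF (e + 3) hab
  simp only [coe_qMinus]
  rw [(field_data hF).2.1]
  have hq : 1 ≤ q := hF ▸ Fintype.card_pos
  zify [hq] at hB ⊢
  rw [h, show 2 * (e + 3) + 1 = 2 * e + 7 by ring]
  linear_combination hB

end

end CfsgLib.MinIndexOrth
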