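import Cfsg.Agent.Lib.Classical.Quad.OmegaStructure

/-!
Eichler elements of `Ω(Q)` and the parts of them lying in a subgroup.
-/

set_option autoImplicit false

namespace CfsgLib.MinIndexOrth

open CfsgLib.Classical.Quad
open QuadraticMap (polar polarBilin)
open scoped _root_.Classical

noncomputable section

variable {F : Type*} [Field F] {V : Type*} [AddCommGroup V] [Module F V] {Q : QuadraticForm F V}

/-- Standing hypothesis: non-degenerate, dimension at least seven. -/
structure Big (Q : QuadraticForm F V) : Prop where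
  nd : (polarBilin Q).Nondegenerate
  dim : 7 ≤ Module.finrank F V

variable [FiniteDimensional F V] [Finite F]

/-- The action of an element of `Ω` on the space. -/
def ap (g : commutator (OQ Q)) : V ≃ₗ[F] V := ((g : OQ Q) : V ≃ₗ[F] V)

theorem ap_mul (g h : commutator (OQ Q)) (z : V) : ap (g * h) z = ap g (ap h z) := rfl

theorem ap_one (z : V) : ap (1 : commutator (OQ Q)) z = z := rfl

theorem ap_inv_apply (g : commutator (OQ Q)) (z : V) : ap g⁻¹ (ap g z) = z := by
  rw [← ap_mul, inv_mul_cancel, ap_one]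

theorem ap_apply_inv (g : commutator (OQ Q)) (z : V) : ap g (ap g⁻¹ z) = z := by
  rw [← ap_mul, mul_inv_cancel, ap_one]

theorem ap_Q (g : commutator (OQ Q)) (z : V) : Q (ap g z) = Q z := OQ.map_apply (g : OQ Q) z

theorem ap_polar (g : commutator (OQ Q)) (y z : V) : polar Q (ap g y) (ap g z) = polar Q y z :=
  OQ.map_polar (g : OQ Q) y z

theorem ap_ext {g h : commutator (OQ Q)} (e : ∀ z, ap g z = ap h z) : g = h :=
  Subtype.ext (Subtype.ext (LinearEquiv.ext e))

/-- The Eichler element, trivial on irrelevant arguments. -/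
def El (Q : QuadraticForm F V) (u x : V) : commutator (OQ Q) :=
  if h : (polarBilin Q).Nondegenerate ∧ 5 ≤ Module.finrank F V ∧ Q u = 0 ∧ polar Q u x = 0 then
    eichΩ h.1 h.2.1 h.2.2.1 h.2.2.2
  else 1

theorem Big.five (hb : Big Q) : 5 ≤ Module.finrank F V := by have := hb.dim; omega

theorem ap_El (hb : Big Q) {u x : V} (hu : Q u = 0) (hx : polar Q u x = 0) (z : V) :
    ap (El Q u x) z = z + (polar Q z x - Q x * polar Q z u) • u + (-polar Q z u) • x := by
  rw [El, dif_pos ⟨hb.nd, hb.five, hu, hx⟩]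
  exact eich_apply hb.nd hu hx z

theorem El_fix (hb : Big Q) {u x z : V} (hu : Q u = 0) (hx : polar Q u x = 0)
    (h1 : polar Q z u = 0) (h2 : polar Q z x = 0) : ap (El Q u x) z = z := by
  rw [ap_El hb hu hx, h1, h2]
  simp

theorem El_zero_right (u : V) : (El Q u 0 : commutator (OQ Q)) = 1 := by
  rw [El]
  split
  · rename_i h
    exact Subtype.ext (eich_zero_right h.1 h.2.2.1)
  · rfl

theorem El_add {u x y : V} (hx : polar Q u x = 0) (hy : polar Q u y = 0) :
    (El Q u (x + y) : commutator (OQ Q)) = El Q u x * El Q u y := by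
  by_cases h : (polarBilin Q).Nondegenerate ∧ 5 ≤ Module.finrank F V ∧ Q u = 0
  · obtain ⟨h1, h2, h3⟩ := h
    rw [El, El, El, dif_pos ⟨h1, h2, h3, by rw [polar_add_right', hx, hy, add_zero]⟩,
      dif_pos ⟨h1, h2, h3, hx⟩, dif_pos ⟨h1, h2, h3, hy⟩]
    exact Subtype.ext (eich_mul h1 h3 hx hy).symm
  · rw [El, El, El, dif_neg (fun h' => h ⟨h'.1, h'.2.1, h'.2.2.1⟩),
      dif_neg (fun h' => h ⟨h'.1, h'.2.1, h'.2.2.1⟩), dif_neg (fun h' => h ⟨h'.1, h'.2.1, h'.2.2.1⟩),
      mul_one]

theorem El_zero_left (hb : Big Q) (x : V) : (El Q 0 x : commutator (OQ Q)) = 1 := by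
  refine ap_ext fun z => ?_
  rw [ap_El hb (QuadraticMap.map_zero _) (QuadraticMap.polar_zero_left _ _)]
  simp [ap_one]

theorem polar_neg' {u x : V} (hx : polar Q u x = 0) : polar Q u (-x) = 0 := by
  rw [QuadraticMap.polar_neg_right, hx, neg_zero]

theorem El_inv {u x : V} (hx : polar Q u x = 0) :
    (El Q u x : commutator (OQ Q))⁻¹ = El Q u (-x) := by
  refine inv_eq_of_mul_eq_one_right ?_
  rw [← El_add hx (polar_neg' hx), add_neg_cancel, El_zero_right]

theorem El_self (hb : Big Q) {u : V} (hu : Q u = 0) (c : F) :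
    (El Q u (c • u) : commutator (OQ Q)) = 1 := by
  have h : polar Q u (c • u) = 0 := by rw [polar_smul_right', polar_self', hu]; ring
  refine ap_ext fun z => ?_
  rw [ap_El hb hu h, apply_smul, hu, polar_smul_right', ap_one]
  module

theorem El_smul_left (hb : Big Q) {u x : V} (hu : Q u = 0) (hx : polar Q u x = 0) (c : F) :
    (El Q (c • u) x : commutator (OQ Q)) = El Q u (c • x) := by
  refine ap_ext fun z => ?_
  rw [ap_El hb (by rw [apply_smul, hu, mul_zero]) (by rw [polar_smul_left', hx, mul_zero]),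
    ap_El hb hu (by rw [polar_smul_right', hx, mul_zero]), apply_smul, polar_smul_right',
    polar_smul_right']
  match_scalars <;> ring

theorem El_flip (hb : Big Q) {u y : V} (hu : Q u = 0) (hy : Q y = 0) (h : polar Q u y = 0) :
    (El Q u y : commutator (OQ Q)) = El Q y (-u) := by
  have h' : polar Q y (-u) = 0 := by
    rw [QuadraticMap.polar_neg_right, QuadraticMap.polar_comm, h, neg_zero]
  refine ap_ext fun z => ?_
  rw [ap_El hb hu h, ap_El hb hy h', QuadraticMap.map_neg, hu, hy, QuadraticMap.polar_neg_right]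
  module

theorem conj_El (hb : Big Q) (g : commutator (OQ Q)) {u x : V} (hu : Q u = 0)
    (hx : polar Q u x = 0) : g * El Q u x * g⁻¹ = El Q (ap g u) (ap g x) := by
  refine ap_ext fun z => ?_
  rw [ap_mul, ap_mul, ap_El hb hu hx, ap_El hb (by rw [ap_Q, hu]) (by rw [ap_polar, hx]),
    map_add, map_add, map_smul, map_smul, ap_Q, ap_apply_inv]
  conv_rhs => rw [← ap_apply_inv g z, ap_polar, ap_polar]
  rw [ap_apply_inv]

theorem closure_El (hb : Big Q) :
    Subgroup.closure {g : commutator (OQ Q) | ∃ u x, Q u = 0 ∧ polar Q u x = 0 ∧ g = El Q u x} = ⊤ := by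
  refine eq_top_iff.2 fun g _ => ?_
  have hg : (g : OQ Q) ∈ eichGroup hb.nd := by
    rw [eichGroup_eq_commutator hb.nd hb.five]; exact g.2
  have hle : eichGroup hb.nd ≤ (Subgroup.closure
      {g : commutator (OQ Q) | ∃ u x, Q u = 0 ∧ polar Q u x = 0 ∧ g = El Q u x}).map
        (commutator (OQ Q)).subtype := by
    refine (Subgroup.closure_le _).2 ?_
    rintro _ ⟨u, x, hu, hx, -, rfl⟩
    refine ⟨El Q u x, Subgroup.subset_closure ⟨u, x, hu, hx, rfl⟩, ?_⟩
    rw [El, dif_pos ⟨hb.nd, hb.five, hu, hx⟩]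
    rfl
  obtain ⟨g', hg', e⟩ := hle hg
  rwa [← Subtype.ext (show ((g' : commutator (OQ Q)) : OQ Q) = g from e)]

variable (H : Subgroup (commutator (OQ Q)))

/-- The `x` with `El Q u x` in the subgroup. -/
def XS (u : V) : AddSubgroup V where
  carrier := {x | polar Q u x = 0 ∧ El Q u x ∈ H}
  add_mem' := fun {x y} hx hy =>
    ⟨by rw [polar_add_right', hx.1, hy.1, add_zero], by
      rw [El_add hx.1 hy.1]; exact H.mul_mem hx.2 hy.2⟩
  zero_mem' := ⟨QuadraticMap.polar_zero_right _ _, by rw [El_zero_right]; exact H.one_mem⟩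
  neg_mem' := fun {x} hx => ⟨polar_neg' hx.1, by rw [← El_inv hx.1]; exact H.inv_mem hx.2⟩

theorem mem_XS {u x : V} : x ∈ XS H u ↔ polar Q u x = 0 ∧ El Q u x ∈ H := Iff.rfl

/-- The largest subspace inside `XS`. -/
def core (u : V) : Submodule F V where
  carrier := {x | ∀ a : F, a • x ∈ XS H u}
  add_mem' := fun {x y} hx hy a => by rw [smul_add]; exact (XS H u).add_mem (hx a) (hy a)
  zero_mem' := fun a => by rw [smul_zero]; exact (XS H u).zero_mem
  smul_mem' := fun c x hx a => by rw [smul_smul]; exact hx (a * c)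

variable {H}

theorem mem_core {u x : V} : x ∈ core H u ↔ ∀ a : F, a • x ∈ XS H u := Iff.rfl

theorem core_perp {u x : V} (hx : x ∈ core H u) : polar Q u x = 0 := by
  have h := (mem_core.1 hx 1).1
  rwa [one_smul] at h

theorem core_El {u x : V} (hx : x ∈ core H u) : El Q u x ∈ H := by
  have h := (mem_core.1 hx 1).2
  rwa [one_smul] at h

theorem self_mem_core (hb : Big Q) {u : V} (hu : Q u = 0) : u ∈ core H u :=
  fun a => ⟨by rw [polar_smul_right', polar_self', hu]; ring, by
    rw [El_self hb hu]; exact H.one_mem⟩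

theorem core_symm (hb : Big Q) {u y : V} (hu : Q u = 0) (hy : Q y = 0) (h : y ∈ core H u) :
    u ∈ core H y := by
  have hp : polar Q u y = 0 := core_perp h
  have hp' : polar Q y u = 0 := by rw [QuadraticMap.polar_comm]; exact hp
  intro a
  refine ⟨by rw [polar_smul_right', hp', mul_zero], ?_⟩
  have h1 := (mem_core.1 h (-a)).2
  rw [← El_smul_left hb hu hp, El_flip hb (by rw [apply_smul, hu, mul_zero]) hy
    (by rw [polar_smul_left', hp, mul_zero]), neg_smul, neg_neg] at h1
  exact h1

theorem core_smul (hb : Big Q) {u : V} (hu : Q u = 0) {c : F} (hc : c ≠ 0) :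
    core H (c • u) = core H u := by
  ext x
  constructor
  · intro h a
    have hp : polar Q u (a • x) = 0 := by
      have h1 := (mem_core.1 h a).1
      rw [polar_smul_left'] at h1
      exact (mul_eq_zero.1 h1).resolve_left hc
    refine ⟨hp, ?_⟩
    have h1 := (mem_core.1 h (c⁻¹ * a)).2
    rw [El_smul_left hb hu (by rw [← smul_smul, polar_smul_right', hp, mul_zero]), smul_smul,
      ← mul_assoc, mul_inv_cancel₀ hc, one_mul] at h1
    exact h1
  · intro h a
    have hp : polar Q u (a • x) = 0 := (mem_core.1 h a).1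
    refine ⟨by rw [polar_smul_left', hp, mul_zero], ?_⟩
    rw [El_smul_left hb hu hp, smul_smul]
    exact (mem_core.1 h (c * a)).2

theorem mem_core_map (hb : Big Q) {u x : V} (hu : Q u = 0) {h : commutator (OQ Q)} (hh : h ∈ H)
    (hx : x ∈ core H u) : ap h x ∈ core H (ap h u) := by
  intro a
  have h1 := mem_core.1 hx a
  refine ⟨by rw [← map_smul, ap_polar, h1.1], ?_⟩
  rw [← map_smul, ← conj_El hb h hu h1.1]
  exact H.mul_mem (H.mul_mem hh h1.2) (H.inv_mem hh)

theorem core_map_iff (hb : Big Q) {u x : V} (hu : Q u = 0) {h : commutator (OQ Q)} (hh : h ∈ H) :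
    ap h x ∈ core H (ap h u) ↔ x ∈ core H u := by
  refine ⟨fun hx => ?_, mem_core_map hb hu hh⟩
  have h1 := mem_core_map hb (by rw [ap_Q, hu]) (H.inv_mem hh) hx
  rwa [ap_inv_apply, ap_inv_apply] at h1

variable (H)

/-- All Eichler elements at `u` lie in the subgroup. -/
def Full (u : V) : Prop := u ≠ 0 ∧ Q u = 0 ∧ ∀ x, polar Q u x = 0 → El Q u x ∈ H

/-- No non-trivial Eichler element at `u` lies in the subgroup. -/
def Reg (u : V) : Prop := ∀ x, polar Q u x = 0 → El Q u x ∈ H → x ∈ Submodule.span F ({u} : Set V)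

/-- The core at `u` is cut out by `u` and `w`. -/
def LineT (u w : V) : Prop :=
  u ≠ 0 ∧ Q u = 0 ∧ polar Q u w = 0 ∧ w ∉ Submodule.span F ({u} : Set V) ∧
    ∀ x, x ∈ core H u ↔ polar Q u x = 0 ∧ polar Q w x = 0

variable {H}

theorem Full.mem_core {u : V} (h : Full H u) {x : V} (hx : polar Q u x = 0) : x ∈ core H u :=
  fun a => ⟨by rw [polar_smul_right', hx, mul_zero],
    h.2.2 _ (by rw [polar_smul_right', hx, mul_zero])⟩

theorem Full.map (hb : Big Q) {u : V} (h : Full H u) {g : commutator (OQ Q)} (hg : g ∈ H) :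
    Full H (ap g u) := by
  refine ⟨fun e => h.1 ((ap g).injective (e.trans (map_zero _).symm)), by rw [ap_Q]; exact h.2.1,
    fun x hx => ?_⟩
  have hx' : polar Q u (ap g⁻¹ x) = 0 := by rw [← ap_polar g, ap_apply_inv]; exact hx
  have e := conj_El hb g h.2.1 hx'
  rw [ap_apply_inv] at e
  rw [← e]
  exact H.mul_mem (H.mul_mem hg (h.2.2 _ hx')) (H.inv_mem hg)

theorem Full.smul (hb : Big Q) {u : V} (h : Full H u) {c : F} (hc : c ≠ 0) : Full H (c • u) := by
  refine ⟨smul_ne_zero hc h.1, by rw [apply_smul, h.2.1, mul_zero], fun x hx => ?_⟩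
  have hx' : polar Q u x = 0 := by
    rw [polar_smul_left'] at hx; exact (mul_eq_zero.1 hx).resolve_left hc
  rw [El_smul_left hb h.2.1 hx']
  exact h.2.2 _ (by rw [polar_smul_right', hx', mul_zero])

theorem mem_span_of_perp (hb : Big Q) {U : Submodule F V} {z : V}
    (h : ∀ a, (∀ u ∈ U, polar Q u a = 0) → polar Q z a = 0) : z ∈ U := by
  by_contra hz
  obtain ⟨a, ha, haU⟩ := exists_sep_polar hb.nd hz
  exact one_ne_zero (ha.symm.trans (h a haU))

theorem perp_pair {a b x : V} (ha : polar Q a x = 0) (hb' : polar Q b x = 0) :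
    ∀ u ∈ Submodule.span F ({a, b} : Set V), polar Q u x = 0 := by
  intro u hu
  obtain ⟨s, t, rfl⟩ := Submodule.mem_span_pair.1 hu
  rw [polar_add_left', polar_smul_left', polar_smul_left', ha, hb']; ring

theorem LineT.ne_span {u w : V} (h : LineT H u w) (a : F) : w ≠ a • u :=
  fun e => h.2.2.2.1 (Submodule.mem_span_singleton.2 ⟨a, e.symm⟩)

theorem LineT.map (hb : Big Q) {u w : V} (h : LineT H u w) {g : commutator (OQ Q)} (hg : g ∈ H) :
    LineT H (ap g u) (ap g w) := by
  obtain ⟨hu0, hu, huw, hw, hcore⟩ := h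
  refine ⟨fun e => hu0 ((ap g).injective (e.trans (map_zero _).symm)), by rw [ap_Q]; exact hu,
    by rw [ap_polar, huw], fun e => hw ?_, fun x => ?_⟩
  · obtain ⟨a, ha⟩ := Submodule.mem_span_singleton.1 e
    exact Submodule.mem_span_singleton.2 ⟨a, (ap g).injective (by rw [map_smul]; exact ha)⟩
  · obtain ⟨x', rfl⟩ := (ap g).surjective x
    rw [core_map_iff hb hu hg, hcore, ap_polar, ap_polar]

theorem LineT.unique (hb : Big Q) {u w u' w' : V} (h : LineT H u w) (h' : LineT H u' w')
    (e : core H u = core H u') : w' ∈ Submodule.span F ({u, w} : Set V) := by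
  refine mem_span_of_perp hb fun a ha => ?_
  have : a ∈ core H u := (h.2.2.2.2 a).2 ⟨ha u (Submodule.subset_span (Set.mem_insert _ _)),
    ha w (Submodule.subset_span (Set.mem_insert_of_mem _ rfl))⟩
  rw [e] at this
  exact ((h'.2.2.2.2 a).1 this).2

theorem LineT.shift {u w : V} (h : LineT H u w) {b : F} (hb' : b ≠ 0) (a : F) :
    LineT H u (b • w + a • u) := by
  obtain ⟨hu0, hu, huw, hw, hcore⟩ := h
  refine ⟨hu0, hu, ?_, fun e => hw ?_, fun x => ?_⟩
  · rw [polar_add_right', polar_smul_right', polar_smul_right', huw, polar_self', hu]; ring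
  · obtain ⟨c, hc⟩ := Submodule.mem_span_singleton.1 e
    refine Submodule.mem_span_singleton.2 ⟨b⁻¹ * (c - a), ?_⟩
    rw [← smul_smul, sub_smul, hc, add_sub_cancel_right, inv_smul_smul₀ hb']
  · rw [hcore, polar_add_left', polar_smul_left', polar_smul_left']
    constructor
    · rintro ⟨h1, h2⟩; exact ⟨h1, by rw [h1, h2]; ring⟩
    · rintro ⟨h1, h2⟩
      rw [h1, mul_zero, add_zero] at h2
      exact ⟨h1, (mul_eq_zero.1 h2).resolve_left hb'⟩

/-- Elements of the core at `u` fixing a line point preserve its line. -/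
theorem LineT.key (hb : Big Q) {u y z x : V} (hu : Q u = 0) (hy : LineT H y z)
    (huy : y ∈ core H u) (hx : x ∈ core H u) (hxy : polar Q y x = 0) :
    u ∈ Submodule.span F ({y, z} : Set V) ∨ polar Q z x = 0 := by
  have hyu : polar Q y u = 0 := by rw [QuadraticMap.polar_comm]; exact core_perp huy
  have hzu : polar Q z u = 0 :=
    ((hy.2.2.2.2 u).1 (core_symm hb hu hy.2.1 huy)).2
  have hgy : ap (El Q u x) y = y := El_fix hb hu (core_perp hx) hyu hxy
  have hgz : ap (El Q u x) z = z + polar Q z x • u := by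
    rw [ap_El hb hu (core_perp hx), hzu]
    simp
  have h' := hy.map hb (core_El hx)
  rw [hgy, hgz] at h'
  have hm := hy.unique hb h' rfl
  by_cases h0 : polar Q z x = 0
  · exact Or.inr h0
  left
  have h1 : polar Q z x • u ∈ Submodule.span F ({y, z} : Set V) := by
    have := Submodule.sub_mem _ hm (Submodule.subset_span (Set.mem_insert_of_mem y rfl))
    rwa [add_sub_cancel_left] at this
  exact (Submodule.smul_mem_iff _ h0).1 h1

end

end CfsgLib.MinIndexOrth
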