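import Cfsg.Agent.Lib.Known.MinIndexOrth.Main
import Cfsg.Agent.Lib.Classical.Quad.POmega

/-!
Building the standing data, the subgroups attaining the bound, and the passage to the quotient.
-/

set_option autoImplicit false

namespace CfsgLib.MinIndexOrth

open CfsgLib.Classical.Quad
open QuadraticMap (polar polarBilin)
open scoped _root_.Classical

noncomputable section

variable {F : Type*} [Field F] {V : Type*} [AddCommGroup V] [Module F V] [FiniteDimensional F V]
  [Finite F] {Q : QuadraticForm F V} {p g i S S₂ : ℕ}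

theorem squares_le (hg : g = 2 ∨ ((2 : F) = 0 ∧ g = 1)) {c : F} (hc : c ≠ 0) :
    (Nat.card F - 1) / g ≤ Nat.card {d : F // ∃ μ : F, μ ≠ 0 ∧ d = μ * μ * c} := by
  have : Fintype F := Fintype.ofFinite F
  obtain ⟨f, hf⟩ : ∃ f : {μ : F // μ ≠ 0} → {d : F // ∃ μ : F, μ ≠ 0 ∧ d = μ * μ * c},
      ∀ μ, (f μ : F) = μ.1 * μ.1 * c :=
    ⟨fun μ => ⟨_, μ.1, μ.2, rfl⟩, fun _ => rfl⟩
  have hA : Nat.card {μ : F // μ ≠ 0} = Nat.card F - 1 := by
    rw [Nat.card_eq_fintype_card, Nat.card_eq_fintype_card, Fintype.card_subtype_compl,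
      Fintype.card_subtype_eq]
  have hsign : ∀ μ ν : {μ : F // μ ≠ 0}, f μ = f ν → μ.1 = ν.1 ∨ μ.1 = -ν.1 := by
    intro μ ν e
    have e' := congrArg Subtype.val e
    rw [hf, hf] at e'
    exact mul_self_eq_mul_self_iff.1 (mul_right_cancel₀ hc e')
  rcases hg with rfl | ⟨h2, rfl⟩
  · rw [← hA]
    refine Nat.div_le_of_le_mul ?_
    have hcount : ∀ y ∈ (Finset.univ : Finset {μ : F // μ ≠ 0}).image f,
        ((Finset.univ : Finset {μ : F // μ ≠ 0}).filter fun μ => f μ = y).card ≤ 2 := by
      intro y hy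
      obtain ⟨ν, -, rfl⟩ := Finset.mem_image.1 hy
      refine le_trans (Finset.card_le_card
        (t := ({ν, ⟨-ν.1, neg_ne_zero.2 ν.2⟩} : Finset {μ : F // μ ≠ 0})) ?_) Finset.card_le_two
      intro μ hμ
      rcases hsign μ ν (Finset.mem_filter.1 hμ).2 with h | h
      · rw [Finset.mem_insert]; exact Or.inl (Subtype.ext h)
      · rw [Finset.mem_insert, Finset.mem_singleton]; exact Or.inr (Subtype.ext h)
    have := Finset.card_le_mul_card_image (Finset.univ : Finset {μ : F // μ ≠ 0}) 2 hcount
    rw [Finset.card_univ, ← Nat.card_eq_fintype_card] at this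
    refine this.trans (Nat.mul_le_mul_left 2 ?_)
    rw [Nat.card_eq_fintype_card]
    exact Finset.card_le_univ _
  · rw [Nat.div_one, ← hA]
    refine Nat.card_le_card_of_injective f fun μ ν e => Subtype.ext ?_
    rcases hsign μ ν e with h | h
    · exact h
    · rw [h]; linear_combination (-ν.1) * h2

/-- The standing data from the number of singular vectors. -/
theorem Ctx.mk' (hb : Big Q) (hp : p.Prime) (hchar : CharP F p)
    (h7 : Module.finrank F V = 7 → (2 : F) ≠ 0) (hg : g = 2 ∨ ((2 : F) = 0 ∧ g = 1))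
    (hN : Nat.card {x : V // Q x = 0} =
      Nat.card F * (S + 1) + (Nat.card F - 1) * Nat.card F ^ (Module.finrank F V - 2))
    (hS : S + 1 = Nat.card F * (S₂ + 1) + (Nat.card F - 1) * Nat.card F ^ (Module.finrank F V - 4))
    (hts : ∀ E : Submodule F V, (∀ x ∈ E, Q x = 0) → Module.finrank F E ≤ i + 1) :
    Ctx Q p g i S S₂ := by
  have : Finite V := Module.finite_of_finite F
  have hq : 0 < Nat.card F := Nat.card_pos
  have hsing : ∀ u v : V, Q u = 0 → Q v = 0 → polar Q u v = 1 →
      Nat.card {x : WW Q u v // Q (x : V) = 0} = S + 1 := by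
    intro u v hu hv huv
    have h := card_value_split (U := (⊤ : Submodule F V)) hu hv huv Submodule.mem_top
      Submodule.mem_top 0
    rw [PP_top, card_WW hb hu huv,
      Nat.card_congr (show {x : (⊤ : Submodule F V) // Q (x : V) = 0} ≃ {x : V // Q x = 0} from
        Submodule.topEquiv.toEquiv.subtypeEquiv fun x => Iff.rfl), hN] at h
    exact (Nat.eq_of_mul_eq_mul_left hq (Nat.add_right_cancel h)).symm
  refine
    { big := hb
      odd_of_seven := h7
      prime := hp
      char := hchar
      squares := fun c hc => squares_le hg hc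
      sing := hsing
      sing₂ := ?_
      ts := ?_ }
  · intro u v e e' hu hv huv he he' hQe hQe' hee
    have h := card_value_split (U := WW Q u v) hQe hQe' hee he he' 0
    rw [hsing u v hu hv huv, hS, card_PP_WW hb hu huv he he' hQe hQe' hee] at h
    exact (Nat.eq_of_mul_eq_mul_left hq (Nat.add_right_cancel h)).symm
  · intro u v hu hv huv E hE hEs
    have hu0 : u ≠ 0 := fun e => by simp [e] at huv
    have hdisj : Submodule.span F ({u} : Set V) ⊓ E = ⊥ := by
      rw [eq_bot_iff]
      rintro x ⟨hx, hxE⟩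
      exact eq_zero_of_mem_span_WW huv hx (hE hxE)
    have h1 := Submodule.finrank_sup_add_finrank_inf_eq (Submodule.span F ({u} : Set V)) E
    rw [hdisj, finrank_bot, finrank_span_singleton hu0] at h1
    have h2 := hts (Submodule.span F ({u} : Set V) ⊔ E) (by
      intro x hx
      obtain ⟨y, hy, z, hz, rfl⟩ := Submodule.mem_sup.1 hx
      obtain ⟨a, rfl⟩ := Submodule.mem_span_singleton.1 hy
      rw [apply_add, apply_smul, hu, hEs z hz, polar_smul_left', (mem_WW.1 (hE hz)).1]
      ring)
    omega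

/-- The stabiliser of a vector up to sign. -/
def VS (Q : QuadraticForm F V) (w : V) : Subgroup (commutator (OQ Q)) where
  carrier := {k | ∃ b : F, b * b = 1 ∧ ap k w = b • w}
  mul_mem' := by
    rintro k l ⟨b, hb, e⟩ ⟨c, hc, e'⟩
    exact ⟨c * b, by linear_combination (b * b) * hc + hb, by
      rw [ap_mul, e', map_smul, e, smul_smul]⟩
  one_mem' := ⟨1, one_mul 1, by rw [one_smul]; rfl⟩
  inv_mem' := by
    rintro k ⟨b, hb, e⟩
    refine ⟨b, hb, (ap k).injective ?_⟩
    rw [ap_apply_inv, map_smul, e, smul_smul, hb, one_smul]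

theorem mem_VS {w : V} {k : commutator (OQ Q)} : k ∈ VS Q w ↔ ∃ b : F, b * b = 1 ∧ ap k w = b • w :=
  Iff.rfl

theorem index_VS_mul (hb : Big Q) {w : V} (hw : Q w ≠ 0) :
    (VS Q w).index * Nat.card {b : F // b * b = 1} = Nat.card {x : V // Q x = Q w} := by
  have := finite_OQ (Q := Q)
  have : Finite V := Module.finite_of_finite F
  refine le_antisymm ?_ (card_value_le_index hb hw fun k hk => hk)
  have hw0 : w ≠ 0 := fun e => hw (by rw [e, QuadraticMap.map_zero])
  rw [Subgroup.index, ← Nat.card_prod]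
  refine Nat.card_le_card_of_injective (fun q => (⟨(q.2 : F) • ap (Quotient.out q.1) w, by
    rw [apply_smul, ap_Q, q.2.2, one_mul]⟩ : {x : V // Q x = Q w})) fun q q' e => ?_
  have e' : (q.2 : F) • ap (Quotient.out q.1) w = (q'.2 : F) • ap (Quotient.out q'.1) w :=
    congrArg Subtype.val e
  have h1 : q.1 = q'.1 := by
    rw [← QuotientGroup.out_eq' q.1, ← QuotientGroup.out_eq' q'.1, QuotientGroup.eq, mem_VS]
    refine ⟨(q'.2 : F) * q.2, by
      linear_combination ((q.2 : F) * q.2) * q'.2.2 + q.2.2, ?_⟩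
    have e2 : ap (Quotient.out q'.1) w = ((q'.2 : F) * q.2) • ap (Quotient.out q.1) w := by
      rw [mul_smul, e', smul_smul, q'.2.2, one_smul]
    rw [ap_mul, e2, map_smul, ap_inv_apply]
  refine Prod.ext h1 (Subtype.ext ?_)
  rw [h1] at e'
  exact smul_left_injective F (fun e => hw0 ((ap _).injective (e.trans (map_zero _).symm))) e'

theorem center_scalar (hb : Big Q) {k : commutator (OQ Q)}
    (hk : k ∈ Subgroup.center (commutator (OQ Q))) :
    ∃ c : F, c * c = 1 ∧ ∀ x, ap k x = c • x :=
  (center_Omega_iff hb.nd hb.five).1 hk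

theorem center_le_VS (hb : Big Q) (w : V) : Subgroup.center (commutator (OQ Q)) ≤ VS Q w :=
  fun k hk => by
    obtain ⟨c, hc, h⟩ := center_scalar hb hk
    exact ⟨c, hc, h w⟩

theorem center_le_PS (hb : Big Q) (u : V) : Subgroup.center (commutator (OQ Q)) ≤ PS Q u :=
  fun k hk => by
    obtain ⟨c, hc, h⟩ := center_scalar hb hk
    exact ⟨c, fun e => by simp [e] at hc, h u⟩

/-- The singular points attain their number. -/
theorem exists_index_point (hb : Big Q) {B : ℕ}
    (hB : B * (Nat.card F - 1) + 1 = Nat.card {x : V // Q x = 0}) :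
    ∃ H : Subgroup (commutator (OQ Q)), Subgroup.center (commutator (OQ Q)) ≤ H ∧ H.index = B := by
  have : Finite V := Module.finite_of_finite F
  obtain ⟨u, hu0, hu⟩ := exists_singular hb.nd (by have := hb.dim; omega)
  refine ⟨PS Q u, center_le_PS hb u, ?_⟩
  have hq : 2 ≤ Nat.card F := Finite.one_lt_card
  have h1 := index_PS_mul hb hu hu0
  have h2 : Nat.card {x : V // Q x = 0} = Nat.card {x : V // x ≠ 0 ∧ Q x = 0} + 1 := by
    rw [← Finite.card_option]
    refine Nat.card_congr
      { toFun := fun x => if hx : x.1 = 0 then none else some ⟨x.1, hx, x.2⟩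
        invFun := fun o => o.elim ⟨0, QuadraticMap.map_zero Q⟩ fun x => ⟨x.1, x.2.2⟩
        left_inv := fun x => by
          by_cases hx : x.1 = 0
          · simp only [hx, dite_true, Option.elim]
            exact Subtype.ext hx.symm
          · simp [hx]
        right_inv := fun o => by
          cases o with
          | none => simp
          | some x => simp [x.2.1] }
  exact Nat.eq_of_mul_eq_mul_right (show 0 < Nat.card F - 1 by omega) (by omega)

/-- The non-singular vectors attain their number. -/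
theorem exists_index_vector (hb : Big Q) {B : ℕ} {c : F} (hc : c ≠ 0)
    (hB : B * Nat.card {b : F // b * b = 1} = Nat.card {x : V // Q x = c}) :
    ∃ H : Subgroup (commutator (OQ Q)), Subgroup.center (commutator (OQ Q)) ≤ H ∧ H.index = B := by
  obtain ⟨w, hw⟩ := exists_apply_eq hb.nd (by have := hb.dim; omega) hc
  subst hw
  refine ⟨VS Q w, center_le_VS hb w, ?_⟩
  have : Nonempty {b : F // b * b = 1} := ⟨⟨1, one_mul 1⟩⟩
  exact Nat.eq_of_mul_eq_mul_right (Nat.card_pos (α := {b : F // b * b = 1}))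
    ((index_VS_mul hb hc).trans hB.symm)

section Quotient

variable {ι : Type} [Fintype ι] [DecidableEq ι] {R : QuadraticForm F (ι → F)}

/-- Passage to the quotient by the centre. -/
theorem transfer {B : ℕ} (hle : ∀ H : Subgroup (commutator (OQ R)), H ≠ ⊤ → B ≤ H.index)
    (hex : ∃ H : Subgroup (commutator (OQ R)), Subgroup.center (commutator (OQ R)) ≤ H ∧ H.index = B) :
    (∀ H : Subgroup (Cfsg.POmega F (⇑R)), H ≠ ⊤ → B ≤ H.index) ∧
      ∃ H : Subgroup (Cfsg.POmega F (⇑R)), H.index = B := by
  obtain ⟨π, hπ, hker⟩ : ∃ π : commutator (OQ R) →* Cfsg.POmega F (⇑R),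
      Function.Surjective π ∧ π.ker = Subgroup.center (commutator (OQ R)) := by
    refine ⟨(pOmegaEquiv R).symm.toMonoidHom.comp (QuotientGroup.mk' _),
      (pOmegaEquiv R).symm.surjective.comp (QuotientGroup.mk'_surjective _), ?_⟩
    ext x
    rw [MonoidHom.mem_ker, MonoidHom.comp_apply, MulEquiv.coe_toMonoidHom,
      EmbeddingLike.map_eq_one_iff, ← MonoidHom.mem_ker, QuotientGroup.ker_mk']
  refine ⟨fun H hH => ?_, ?_⟩
  · rw [← Subgroup.index_comap_of_surjective (f := π) H hπ]
    refine hle _ fun h => hH ?_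
    rw [← Subgroup.map_comap_eq_self_of_surjective hπ H, h, Subgroup.map_top_of_surjective _ hπ]
  · obtain ⟨H, hZ, hH⟩ := hex
    exact ⟨H.map π, by rw [Subgroup.index_map_eq _ hπ (hker ▸ hZ), hH]⟩

end Quotient

end

end CfsgLib.MinIndexOrth
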