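import Cfsg.Agent.Lib.Known.MinIndexOrth.RegCase
import Cfsg.Agent.Lib.Classical.Quad.Hyperbolic

/-!
Numbers of vectors and pairs of given values in the complement of a hyperbolic pair.
-/

set_option autoImplicit false

namespace CfsgLib.MinIndexOrth

open CfsgLib.Classical.Quad
open CfsgLib.Known.SpinMinus (orth mem_orth mem_orth_span finrank_orth)
open QuadraticMap (polar polarBilin)
open scoped _root_.Classical

noncomputable section

variable {F : Type*} [Field F] {V : Type*} [AddCommGroup V] [Module F V] [FiniteDimensional F V]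
  [Finite F] {Q : QuadraticForm F V}

/-- The part of a subspace perpendicular to a pair. -/
def PP (Q : QuadraticForm F V) (U : Submodule F V) (e e' : V) : Submodule F V :=
  U ⊓ orth Q (Submodule.span F ({e, e'} : Set V))

theorem mem_PP {U : Submodule F V} {e e' x : V} :
    x ∈ PP Q U e e' ↔ x ∈ U ∧ polar Q e x = 0 ∧ polar Q e' x = 0 := by
  rw [PP, Submodule.mem_inf, mem_orth_span]
  simp

theorem PP_top (u v : V) : PP Q ⊤ u v = WW Q u v := by
  ext x
  rw [mem_PP, mem_WW]
  simp

section Split

variable {U : Submodule F V} {e e' : V}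

/-- Coordinates along a pair. -/
def splitEquiv (he : Q e = 0) (he' : Q e' = 0) (hee : polar Q e e' = 1) (heU : e ∈ U)
    (he'U : e' ∈ U) : U ≃ F × F × PP Q U e e' where
  toFun x := (polar Q (x : V) e', polar Q (x : V) e,
    ⟨(x : V) + (-polar Q (x : V) e') • e + (-polar Q (x : V) e) • e', by
      have hee' : polar Q e' e = 1 := by rw [QuadraticMap.polar_comm]; exact hee
      rw [mem_PP]
      refine ⟨add_mem (add_mem x.2 (U.smul_mem _ heU)) (U.smul_mem _ he'U), ?_, ?_⟩
      · simp only [polar_add_right', polar_smul_right', polar_self', he, hee,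
          QuadraticMap.polar_comm (⇑Q) (x : V) e]
        ring
      · simp only [polar_add_right', polar_smul_right', polar_self', he', hee',
          QuadraticMap.polar_comm (⇑Q) (x : V) e']
        ring⟩)
  invFun z := ⟨z.1 • e + z.2.1 • e' + (z.2.2 : V),
    add_mem (add_mem (U.smul_mem _ heU) (U.smul_mem _ he'U)) (mem_PP.1 z.2.2.2).1⟩
  left_inv x := by
    refine Subtype.ext ?_
    show _ • e + _ • e' + _ = (x : V)
    module
  right_inv z := by
    obtain ⟨a, b, r, hr⟩ := z
    obtain ⟨-, h1, h2⟩ := mem_PP.1 hr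
    have hee' : polar Q e' e = 1 := by rw [QuadraticMap.polar_comm]; exact hee
    have r1 : polar Q r e = 0 := by rw [QuadraticMap.polar_comm]; exact h1
    have r2 : polar Q r e' = 0 := by rw [QuadraticMap.polar_comm]; exact h2
    have ha : polar Q (a • e + b • e' + r) e' = a := by
      simp only [polar_add_left', polar_smul_left', polar_self', he', hee, r2]; ring
    have hb' : polar Q (a • e + b • e' + r) e = b := by
      simp only [polar_add_left', polar_smul_left', polar_self', he, hee', r1]; ring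
    simp only [ha, hb', Prod.mk.injEq, true_and, Subtype.mk.injEq]
    module

theorem apply_splitEquiv_symm (he : Q e = 0) (he' : Q e' = 0) (hee : polar Q e e' = 1) (heU : e ∈ U)
    (he'U : e' ∈ U) (z : F × F × PP Q U e e') :
    Q (((splitEquiv he he' hee heU he'U).symm z : U) : V) = z.1 * z.2.1 + Q (z.2.2 : V) := by
  obtain ⟨a, b, r, hr⟩ := z
  obtain ⟨-, h1, h2⟩ := mem_PP.1 hr
  show Q (a • e + b • e' + r) = a * b + Q r
  simp only [apply_add, apply_smul, polar_add_left', polar_smul_left', polar_smul_right', he, he',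
    hee, h1, h2]
  ring

theorem card_value_split (he : Q e = 0) (he' : Q e' = 0) (hee : polar Q e e' = 1) (heU : e ∈ U)
    (he'U : e' ∈ U) (c : F) :
    Nat.card {x : U // Q (x : V) = c} =
      Nat.card F * Nat.card {x : PP Q U e e' // Q (x : V) = c} +
        (Nat.card F - 1) * Nat.card (PP Q U e e') := by
  have : Finite V := Module.finite_of_finite F
  have h := card_zero_hyp (F := F) fun x : PP Q U e e' => Q (x : V) - c
  simp only [sub_eq_zero] at h
  rw [← h]
  refine Nat.card_congr ((splitEquiv he he' hee heU he'U).subtypeEquiv fun x => ?_)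
  rw [← add_sub_assoc, sub_eq_zero, ← apply_splitEquiv_symm he he' hee heU he'U,
    Equiv.symm_apply_apply]

theorem card_U_split (he : Q e = 0) (he' : Q e' = 0) (hee : polar Q e e' = 1) (heU : e ∈ U)
    (he'U : e' ∈ U) : Nat.card U = Nat.card F ^ 2 * Nat.card (PP Q U e e') := by
  rw [Nat.card_congr (splitEquiv he he' hee heU he'U), Nat.card_prod, Nat.card_prod, pow_two,
    mul_assoc]

end Split

theorem card_fibre_le {A B : Type*} [Finite A] [Finite B] (P : A → B → Prop) (N : ℕ)
    (hN : ∀ a, N ≤ Nat.card {b // P a b}) : Nat.card A * N ≤ Nat.card {p : A × B // P p.1 p.2} := by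
  have e : {p : A × B // P p.1 p.2} ≃ Σ a, {b // P a b} :=
    { toFun := fun p => ⟨p.1.1, p.1.2, p.2⟩
      invFun := fun p => ⟨(p.1, p.2.1), p.2.2⟩
      left_inv := fun _ => rfl
      right_inv := fun _ => rfl }
  have := Fintype.ofFinite A
  rw [Nat.card_congr e, Nat.card_sigma, Nat.card_eq_fintype_card, ← Finset.card_univ,
    ← smul_eq_mul, ← Finset.sum_const]
  exact Finset.sum_le_sum fun a _ => hN a

variable {u v : V}

theorem exists_pair_in_WW (hb : Big Q) (hu : Q u = 0) (hv : Q v = 0) :
    ∃ e e', e ∈ WW Q u v ∧ e' ∈ WW Q u v ∧ Q e = 0 ∧ Q e' = 0 ∧ polar Q e e' = 1 := by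
  obtain ⟨x, y, hx, hy, h1, h2, h3, h4, h5⟩ := exists_zero_pair hb u v
  exact ⟨x, y, mem_WW.2 ⟨h1, h2⟩, mem_WW.2 ⟨h3, h4⟩, hx, hy, h5⟩

theorem card_PP_WW (hb : Big Q) (hu : Q u = 0) (huv : polar Q u v = 1) {e e' : V}
    (heW : e ∈ WW Q u v) (he'W : e' ∈ WW Q u v) (he : Q e = 0) (he' : Q e' = 0)
    (hee : polar Q e e' = 1) :
    Nat.card (PP Q (WW Q u v) e e') = Nat.card F ^ (Module.finrank F V - 4) := by
  have h := card_U_split he he' hee heW he'W
  rw [card_WW hb hu huv, show Module.finrank F V - 2 = 2 + (Module.finrank F V - 4) by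
    have := hb.dim; omega, pow_add] at h
  exact (Nat.eq_of_mul_eq_mul_left (pow_pos Nat.card_pos 2) h).symm

/-- Number of vectors of a value in the complement. -/
theorem le_card_value_WW (hb : Big Q) (hu : Q u = 0) (hv : Q v = 0) (huv : polar Q u v = 1) (c : F) :
    (Nat.card F ^ 2 - 1) * Nat.card F ^ (Module.finrank F V - 5) ≤
      Nat.card {x : WW Q u v // Q (x : V) = c} := by
  have hdim := hb.dim
  have : Finite V := Module.finite_of_finite F
  obtain ⟨e, e', heW, he'W, he, he', hee⟩ := exists_pair_in_WW hb hu hv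
  have hcard := card_PP_WW hb hu huv heW he'W he he' hee
  obtain ⟨k, k', hk, hk', hQk, hQk', hkk⟩ : ∃ k k', k ∈ PP Q (WW Q u v) e e' ∧
      k' ∈ PP Q (WW Q u v) e e' ∧ Q k = 0 ∧ Q k' = 0 ∧ polar Q k k' = 1 := by
    rw [mem_WW] at heW he'W
    have hS : ∀ x ∈ Submodule.span F ({u, v, e, e'} : Set V),
        (∀ y ∈ Submodule.span F ({u, v, e, e'} : Set V), polar Q y x = 0) → x = 0 := by
      intro x hx h
      simp only [Submodule.mem_span_insert, Submodule.mem_span_singleton] at hx
      obtain ⟨a, _, ⟨b, _, ⟨c, _, ⟨d, rfl⟩, rfl⟩, rfl⟩, rfl⟩ := hx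
      have e1 := h u (Submodule.subset_span (by simp))
      have e2 := h v (Submodule.subset_span (by simp))
      have e3 := h e (Submodule.subset_span (by simp))
      have e4 := h e' (Submodule.subset_span (by simp))
      have hvu : polar Q v u = 1 := by rw [QuadraticMap.polar_comm]; exact huv
      have he'e : polar Q e' e = 1 := by rw [QuadraticMap.polar_comm]; exact hee
      simp only [polar_add_right', polar_smul_right', polar_self', hu, hv, he, he', huv, hvu, hee,
        he'e, heW.1, heW.2, he'W.1, he'W.2, QuadraticMap.polar_comm (⇑Q) e u,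
        QuadraticMap.polar_comm (⇑Q) e v, QuadraticMap.polar_comm (⇑Q) e' u,
        QuadraticMap.polar_comm (⇑Q) e' v, mul_zero, mul_one, add_zero, zero_add] at e1 e2 e3 e4
      simp [e1, e2, e3, e4]
    obtain ⟨k, k', hk, hk', h1, h2, h3⟩ := exists_pair_perp_nondeg hb _ hS (by
      have := CfsgLib.Known.SpinMinus.finrank_span_four hb.nd u v e e'
      omega)
    rw [mem_orth_span] at hk hk'
    exact ⟨k, k', mem_PP.2 ⟨mem_WW.2 ⟨hk u (by simp), hk v (by simp)⟩, hk e (by simp), hk e' (by simp)⟩,
      mem_PP.2 ⟨mem_WW.2 ⟨hk' u (by simp), hk' v (by simp)⟩, hk' e (by simp), hk' e' (by simp)⟩,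
      h1, h2, h3⟩
  have h1 := card_value_split he he' hee heW he'W c
  have h2 := card_value_split hQk hQk' hkk hk hk' c
  have h3 := card_U_split hQk hQk' hkk hk hk'
  rw [hcard] at h1 h3
  obtain ⟨j, hj⟩ : ∃ j, Module.finrank F V = j + 5 := ⟨Module.finrank F V - 5, by omega⟩
  rw [hj, show j + 5 - 5 = j by omega]
  rw [hj, show j + 5 - 4 = j + 1 by omega] at h1 h3
  obtain ⟨w, hw⟩ : ∃ w, Nat.card F = w + 1 := ⟨Nat.card F - 1, by
    have := Nat.card_pos (α := F); omega⟩
  have h2' : w * Nat.card (PP Q (PP Q (WW Q u v) e e') k k') ≤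
      Nat.card {x : PP Q (WW Q u v) e e' // Q (x : V) = c} := by
    rw [h2, hw, Nat.add_sub_cancel]
    exact Nat.le_add_left _ _
  rw [h1, hw, Nat.add_sub_cancel]
  rw [hw] at h3
  obtain ⟨X, hX⟩ : ∃ X, Nat.card (PP Q (PP Q (WW Q u v) e e') k k') = X := ⟨_, rfl⟩
  rw [hX] at h2' h3
  calc ((w + 1) ^ 2 - 1) * (w + 1) ^ j = w * (w + 1) ^ (j + 1) + w * (w + 1) ^ j := by
        rw [show (w + 1) ^ 2 - 1 = w * (w + 1) + w by
          rw [show (w + 1) ^ 2 = w * (w + 1) + w + 1 by ring]; omega]
        ring
    _ ≤ (w + 1) * Nat.card {x : PP Q (WW Q u v) e e' // Q (x : V) = c} + w * (w + 1) ^ (j + 1) := by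
        have e4 : (w + 1) ^ j = (w + 1) * X := by
          refine Nat.eq_of_mul_eq_mul_left (show 0 < w + 1 by omega) ?_
          rw [← pow_succ', h3]; ring
        rw [e4, add_comm]
        refine Nat.add_le_add_right ?_ _
        calc w * ((w + 1) * X) = (w + 1) * (w * X) := by ring
          _ ≤ _ := Nat.mul_le_mul_left _ h2'

/-- Number of vectors of given value and given inner product with a fixed vector. -/
theorem le_card_fibre_WW (hb : Big Q) (hu : Q u = 0) (hv : Q v = 0) (huv : polar Q u v = 1) {w : V}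
    (hw : w ∈ WW Q u v) (hw0 : w ≠ 0) (b c : F) :
    (Nat.card F - 1) * Nat.card F ^ (Module.finrank F V - 5) ≤
      Nat.card {x : V // x ∈ WW Q u v ∧ polar Q w x = b ∧ Q x = c ∧
        x ∉ Submodule.span F ({w} : Set V)} := by
  have hdim := hb.dim
  have : Finite V := Module.finite_of_finite F
  obtain ⟨e, e', hee0, hee0', he, he', hee⟩ := CfsgLib.Known.SpinMinus.exists_pair_perp hb.nd
    (Submodule.span F ({u, v, w} : Set V)) (by
      have h1 := CfsgLib.Known.SpinMinus.finrank_span_three hb.nd u v w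
      have h2 := Submodule.finrank_mono
        (rad_le_span' (Q := Q) hu hv huv hw : _ ≤ Submodule.span F ({w} : Set V))
      rw [finrank_span_singleton hw0] at h2
      omega)
  rw [mem_orth_span] at hee0 hee0'
  have heW : e ∈ WW Q u v := mem_WW.2 ⟨hee0 u (by simp), hee0 v (by simp)⟩
  have he'W : e' ∈ WW Q u v := mem_WW.2 ⟨hee0' u (by simp), hee0' v (by simp)⟩
  have hwe : polar Q w e = 0 := hee0 w (by simp)
  have hwe' : polar Q w e' = 0 := hee0' w (by simp)
  have hwU : w ∈ PP Q (WW Q u v) e e' := mem_PP.2 ⟨hw, by rw [QuadraticMap.polar_comm]; exact hwe,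
    by rw [QuadraticMap.polar_comm]; exact hwe'⟩
  -- the functional on the smaller complement
  let ψ : PP Q (WW Q u v) e e' →ₗ[F] F := (polarBilin Q w).comp (Submodule.subtype _)
  obtain ⟨r₁, hr₁⟩ : ∃ r, ψ r ≠ 0 := by
    by_contra hc
    push Not at hc
    obtain ⟨z, hz, -⟩ := exists_sep_polar hb.nd (U := ⊥) (x := w) (by simpa using hw0)
    have hvu : polar Q v u = 1 := by rw [QuadraticMap.polar_comm]; exact huv
    have he'e : polar Q e' e = 1 := by rw [QuadraticMap.polar_comm]; exact hee
    obtain ⟨z', hz'⟩ : ∃ z', z' = z + (-polar Q z v) • u + (-polar Q z u) • v := ⟨_, rfl⟩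
    have hz'W : z' ∈ WW Q u v := by
      rw [mem_WW, hz']
      constructor
      · simp only [polar_add_right', polar_smul_right', polar_self', hu, huv,
          QuadraticMap.polar_comm (⇑Q) z u]
        ring
      · simp only [polar_add_right', polar_smul_right', polar_self', hv, hvu,
          QuadraticMap.polar_comm (⇑Q) z v]
        ring
    obtain ⟨p, hp⟩ : ∃ p, p = z' + (-polar Q z' e') • e + (-polar Q z' e) • e' := ⟨_, rfl⟩
    have hpP : p ∈ PP Q (WW Q u v) e e' := by
      rw [mem_PP, hp]
      refine ⟨add_mem (add_mem hz'W (Submodule.smul_mem _ _ heW)) (Submodule.smul_mem _ _ he'W), ?_, ?_⟩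
      · simp only [polar_add_right', polar_smul_right', polar_self', he, hee,
          QuadraticMap.polar_comm (⇑Q) z' e]
        ring
      · simp only [polar_add_right', polar_smul_right', polar_self', he', he'e,
          QuadraticMap.polar_comm (⇑Q) z' e']
        ring
    have h0 : polar Q w p = 0 := hc ⟨p, hpP⟩
    have hwu : polar Q w u = 0 := by rw [QuadraticMap.polar_comm]; exact (mem_WW.1 hw).1
    have hwv : polar Q w v = 0 := by rw [QuadraticMap.polar_comm]; exact (mem_WW.1 hw).2
    rw [hp, hz'] at h0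
    simp only [polar_add_right', polar_smul_right', hwu, hwv, hwe, hwe', hz] at h0
    simp at h0
  obtain ⟨r₀, hr₀⟩ : ∃ r, ψ r = b :=
    ⟨(b / ψ r₁) • r₁, by rw [map_smul, smul_eq_mul, div_mul_cancel₀ _ hr₁]⟩
  have hkc : Nat.card (LinearMap.ker ψ) = Nat.card F ^ (Module.finrank F V - 5) := by
    have h1 := LinearMap.finrank_range_add_finrank_ker ψ
    have hsurj : LinearMap.range ψ = ⊤ := LinearMap.range_eq_top.2 fun a =>
      ⟨(a / ψ r₁) • r₁, by rw [map_smul, smul_eq_mul, div_mul_cancel₀ _ hr₁]⟩
    rw [hsurj, finrank_top, Module.finrank_self] at h1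
    have h2 := card_PP_WW hb hu huv heW he'W he he' hee
    rw [Module.natCard_eq_pow_finrank (K := F)] at h2
    have h3 := Nat.pow_right_injective (show 2 ≤ Nat.card F from Finite.one_lt_card) h2
    rw [Module.natCard_eq_pow_finrank (K := F)]
    congr 1
    omega
  let A := {a : F // a ≠ 0} × LinearMap.ker ψ
  have hA : Nat.card A = (Nat.card F - 1) * Nat.card F ^ (Module.finrank F V - 5) := by
    rw [Nat.card_prod, hkc]
    congr 1
    have := Fintype.ofFinite F
    rw [Nat.card_eq_fintype_card, Nat.card_eq_fintype_card, Fintype.card_subtype_compl,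
      Fintype.card_subtype_eq]
  rw [← hA]
  let E := splitEquiv he he' hee heW he'W
  let g : A → {x : V // x ∈ WW Q u v ∧ polar Q w x = b ∧ Q x = c ∧
      x ∉ Submodule.span F ({w} : Set V)} := fun p =>
    ⟨(E.symm ((p.1 : F), (c - Q ((r₀ + p.2 : PP Q (WW Q u v) e e') : V)) / (p.1 : F), r₀ + p.2) : V),
      Subtype.coe_prop _, by
        show polar Q w ((p.1 : F) • e + _ • e' + ((r₀ + p.2 : PP Q (WW Q u v) e e') : V)) = b
        rw [polar_add_right', polar_add_right', polar_smul_right', polar_smul_right', hwe, hwe',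
          mul_zero, mul_zero, zero_add, zero_add]
        show ψ (r₀ + p.2) = b
        rw [map_add, hr₀, LinearMap.mem_ker.1 p.2.2, add_zero], by
        rw [apply_splitEquiv_symm]
        show (p.1 : F) * ((c - _) / (p.1 : F)) + _ = c
        rw [mul_div_cancel₀ _ p.1.2, sub_add_cancel], fun h => p.1.2 (by
          obtain ⟨k, hk⟩ := Submodule.mem_span_singleton.1 h
          have e1 := congrArg (fun x => polar Q x e') hk
          have e2 : polar Q (r₀ + p.2 : PP Q (WW Q u v) e e').1 e' = 0 := by
            rw [QuadraticMap.polar_comm]; exact (mem_PP.1 (r₀ + p.2 : PP Q (WW Q u v) e e').2).2.2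
          change polar Q (k • w) e' = polar Q ((p.1 : F) • e + _ • e' + _) e' at e1
          rw [polar_smul_left', hwe', polar_add_left', polar_add_left', polar_smul_left',
            polar_smul_left', hee, polar_self', he', e2] at e1
          simpa using e1.symm)⟩
  refine Nat.card_le_card_of_injective g ?_
  intro p p' h
  have h' := congrArg (fun x : {x : V // x ∈ WW Q u v ∧ polar Q w x = b ∧ Q x = c ∧
    x ∉ Submodule.span F ({w} : Set V)} => (x : V)) h
  have h'' := E.symm.injective (Subtype.ext h')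
  simp only [Prod.mk.injEq, add_right_inj] at h''
  exact Prod.ext (Subtype.ext h''.1) (Subtype.ext h''.2.2)
where
  rad_le_span' {Q : QuadraticForm F V} {u v w : V} (hu : Q u = 0) (hv : Q v = 0)
      (huv : polar Q u v = 1) (hw : w ∈ WW Q u v) :
      (Submodule.span F ({u, v, w} : Set V) ⊓ orth Q (Submodule.span F ({u, v, w} : Set V))) ≤
        Submodule.span F ({w} : Set V) := by
    rintro x ⟨hx, hx'⟩
    simp only [SetLike.mem_coe, Submodule.mem_span_insert, Submodule.mem_span_singleton] at hx
    obtain ⟨a, _, ⟨b, _, ⟨c, rfl⟩, rfl⟩, rfl⟩ := hx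
    rw [SetLike.mem_coe, mem_orth_span] at hx'
    rw [mem_WW] at hw
    have e1 := hx' u (by simp)
    have e2 := hx' v (by simp)
    have hvu : polar Q v u = 1 := by rw [QuadraticMap.polar_comm]; exact huv
    simp only [polar_add_right', polar_smul_right', polar_self', hu, hv, huv, hvu, hw.1, hw.2,
      mul_zero, mul_one, add_zero, zero_add] at e1 e2
    rw [e1, e2, zero_smul, zero_smul, zero_add, zero_add]
    exact Submodule.smul_mem _ _ (Submodule.mem_span_singleton_self w)

/-- Number of singular vectors perpendicular to a given one, away from its line. -/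
theorem le_card_perp_WW {e e' : V} (heW : e ∈ WW Q u v) (he'W : e' ∈ WW Q u v) (he : Q e = 0)
    (he' : Q e' = 0) (hee : polar Q e e' = 1) :
    Nat.card F * (Nat.card {x : PP Q (WW Q u v) e e' // Q (x : V) = 0} - 1) ≤
      Nat.card {x : V // x ∈ WW Q u v ∧ polar Q e x = 0 ∧ Q x = 0 ∧
        x ∉ Submodule.span F ({e} : Set V)} := by
  have : Finite V := Module.finite_of_finite F
  have h1 : Nat.card {x : {x : PP Q (WW Q u v) e e' // Q (x : V) = 0} //
      x ≠ ⟨0, QuadraticMap.map_zero Q⟩} =
      Nat.card {x : PP Q (WW Q u v) e e' // Q (x : V) = 0} - 1 := by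
    have := Fintype.ofFinite {x : PP Q (WW Q u v) e e' // Q (x : V) = 0}
    rw [Nat.card_eq_fintype_card, Nat.card_eq_fintype_card, Fintype.card_subtype_compl,
      Fintype.card_subtype_eq]
  rw [← h1, ← Nat.card_prod]
  have hee' : polar Q e' e = 1 := by rw [QuadraticMap.polar_comm]; exact hee
  refine Nat.card_le_card_of_injective (fun p => ⟨p.1 • e + (p.2.1.1 : V), ?_, ?_, ?_, ?_⟩) ?_
  · exact add_mem (Submodule.smul_mem _ _ heW) (mem_PP.1 p.2.1.1.2).1
  · rw [polar_add_right', polar_smul_right', polar_self', he, (mem_PP.1 p.2.1.1.2).2.1]; ring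
  · rw [apply_add, apply_smul, polar_smul_left', he, p.2.1.2, (mem_PP.1 p.2.1.1.2).2.1]; ring
  · intro h
    obtain ⟨k, hk⟩ := Submodule.mem_span_singleton.1 h
    refine p.2.2 (Subtype.ext (Subtype.ext ?_))
    have e1 := congrArg (polar Q e') hk
    rw [polar_smul_right', polar_add_right', polar_smul_right', hee', (mem_PP.1 p.2.1.1.2).2.2,
      mul_one, mul_one, add_zero] at e1
    rw [e1] at hk
    simpa using hk.symm
  · intro p p' h
    have h' : p.1 • e + (p.2.1.1 : V) = p'.1 • e + (p'.2.1.1 : V) := congrArg Subtype.val h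
    have e1 := congrArg (polar Q e') h'
    rw [polar_add_right', polar_add_right', polar_smul_right', polar_smul_right', hee',
      (mem_PP.1 p.2.1.1.2).2.2, (mem_PP.1 p'.2.1.1.2).2.2, mul_one, mul_one, add_zero, add_zero] at e1
    rw [e1] at h'
    exact Prod.ext e1 (Subtype.ext (Subtype.ext (Subtype.ext (add_left_cancel h'))))

/-- Number of singular partners. -/
theorem le_card_partner_WW {e e' : V} (heW : e ∈ WW Q u v) (he'W : e' ∈ WW Q u v) (he : Q e = 0)
    (he' : Q e' = 0) (hee : polar Q e e' = 1) :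
    Nat.card (PP Q (WW Q u v) e e') ≤
      Nat.card {x : V // x ∈ WW Q u v ∧ polar Q e x = 1 ∧ Q x = 0} := by
  have : Finite V := Module.finite_of_finite F
  have hee' : polar Q e' e = 1 := by rw [QuadraticMap.polar_comm]; exact hee
  refine Nat.card_le_card_of_injective (fun r => ⟨(-Q (r : V)) • e + e' + (r : V), ?_, ?_, ?_⟩) ?_
  · exact add_mem (add_mem (Submodule.smul_mem _ _ heW) he'W) (mem_PP.1 r.2).1
  · rw [polar_add_right', polar_add_right', polar_smul_right', polar_self', he, hee,
      (mem_PP.1 r.2).2.1]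
    ring
  · simp only [apply_add, apply_smul, polar_add_left', polar_smul_left', he, he', hee,
      (mem_PP.1 r.2).2.1, (mem_PP.1 r.2).2.2]
    ring
  · intro r r' h
    have h' : (-Q (r : V)) • e + e' + (r : V) = (-Q (r' : V)) • e + e' + (r' : V) :=
      congrArg Subtype.val h
    have e1 := congrArg (polar Q e') h'
    simp only [polar_add_right', polar_smul_right', polar_self', he', hee', (mem_PP.1 r.2).2.2,
      (mem_PP.1 r'.2).2.2, mul_one, mul_zero, add_zero, neg_inj] at e1
    rw [e1] at h'
    exact Subtype.ext (add_left_cancel h')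

end

end CfsgLib.MinIndexOrth
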