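import Cfsg.Agent.Lib.Known.MinIndexOrth.Orbit

/-!
Annihilators and covering of pairs.
-/

set_option autoImplicit false

namespace CfsgLib.MinIndexOrth

open CfsgLib.Classical.Quad
open CfsgLib.Known.SpinMinus (orth mem_orth mem_orth_span finrank_orth)
open QuadraticMap (polar polarBilin)
open scoped _root_.Classical

noncomputable section

variable {F : Type*} [Field F] {V : Type*} [AddCommGroup V] [Module F V] [FiniteDimensional F V]
  [Finite F] {Q : QuadraticForm F V}

/-- `x ↦ f l • g x` as an additive map. -/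
def scaled (f : F → F) (g : commutator (OQ Q)) (l : F) : V →+ V where
  toFun x := f l • ap g x
  map_zero' := by simp
  map_add' x y := by rw [map_add, smul_add]

theorem scaled_injective {f : F → F} (hf : ∀ l, l ≠ 0 → f l ≠ 0) (g : commutator (OQ Q)) {l : F}
    (hl : l ≠ 0) : Function.Injective (scaled f g l) := fun x y e =>
  (ap g).injective (smul_right_injective V (hf l hl) e)

theorem cover_bound {f : F → F} (hf : ∀ l, l ≠ 0 → f l ≠ 0) {u v : V} (S : Set V)
    (T : Set (V × V)) (Good : V → V → Prop)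
    (hgood : ∀ (g : commutator (OQ Q)) (l : F) (a b : V), Lev u v g l →
      Good (f l • ap g a) (f l • ap g b) → Good a b)
    (hT : ∀ t ∈ T, Good t.1 t.2)
    (hcov : ∀ t ∈ T, ∃ (g : commutator (OQ Q)) (l : F) (a : V) (b : V), Lev u v g l ∧ a ∈ S ∧
      b ∈ S ∧ f l • ap g a = t.1 ∧ f l • ap g b = t.2) :
    Nat.card T ≤ Nat.card (orb Q f u v S) * Nat.card {p : V × V // p.1 ∈ S ∧ p.2 ∈ S ∧ Good p.1 p.2} := by
  have : Finite V := Module.finite_of_finite F
  choose g l hg hS using fun A : orb Q f u v S => A.2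
  choose g' l' a b hg' ha hb hta htb using hcov
  let A : T → orb Q f u v S := fun t =>
    ⟨_, g' t.1 t.2, l' t.1 t.2, hg' t.1 t.2, rfl⟩
  have hmem : ∀ t : T, ∀ x ∈ ({(t.1).1, (t.1).2} : Set V),
      ∃ c ∈ S, f (l (A t)) • ap (g (A t)) c = x := by
    intro t x hx
    have : x ∈ (A t : Set V) := by
      rcases hx with rfl | rfl
      · exact ⟨_, ha t.1 t.2, hta t.1 t.2⟩
      · exact ⟨_, hb t.1 t.2, htb t.1 t.2⟩
    rw [hS (A t)] at this
    exact this
  choose c hcS hc using hmem
  have key : ∀ t : T, Good (c t _ (Set.mem_insert _ _)) (c t _ (Set.mem_insert_of_mem _ rfl)) := by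
    intro t
    refine hgood _ _ _ _ (hg (A t)) ?_
    rw [hc, hc]
    exact hT t.1 t.2
  rw [← Nat.card_prod]
  refine Nat.card_le_card_of_injective (fun t : T => (A t,
    (⟨(c t _ (Set.mem_insert _ _), c t _ (Set.mem_insert_of_mem _ rfl)), hcS t _ _, hcS t _ _, key t⟩ :
      {p : V × V // p.1 ∈ S ∧ p.2 ∈ S ∧ Good p.1 p.2}))) ?_
  intro t t' e
  obtain ⟨e1, e2⟩ := Prod.ext_iff.1 e
  simp only at e1 e2
  have e3 := congrArg Subtype.val e2
  simp only [Prod.mk.injEq] at e3
  have h1 := hc t _ (Set.mem_insert _ _)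
  have h2 := hc t _ (Set.mem_insert_of_mem _ rfl)
  rw [e3.1, e1, hc] at h1
  rw [e3.2, e1, hc] at h2
  exact Subtype.ext (Prod.ext h1.symm h2.symm)

omit [FiniteDimensional F V] [Finite F] in
/-- The pairs of a subgroup independent over the prime field. -/
theorem card_indep_pairs [Finite V] {p : ℕ} (hp : p.Prime) (hchar : ∀ x : V, p • x = 0) (S : AddSubgroup V) :
    Nat.card {q : V × V // q.1 ∈ S ∧ q.2 ∈ S ∧ q.1 ≠ 0 ∧ q.2 ∉ AddSubgroup.zmultiples q.1} =
      (Nat.card S - 1) * (Nat.card S - p) := by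
  have e : {q : V × V // q.1 ∈ S ∧ q.2 ∈ S ∧ q.1 ≠ 0 ∧ q.2 ∉ AddSubgroup.zmultiples q.1} ≃
      Σ a : {a : S // a ≠ 0}, {b : S // b ∉ AddSubgroup.zmultiples (a.1 : S)} :=
    { toFun := fun q => ⟨⟨⟨q.1.1, q.2.1⟩, fun h => q.2.2.2.1 (congrArg Subtype.val h)⟩,
        ⟨⟨q.1.2, q.2.2.1⟩, fun h => by
          obtain ⟨n, hn⟩ := AddSubgroup.mem_zmultiples_iff.1 h
          exact q.2.2.2.2 (AddSubgroup.mem_zmultiples_iff.2 ⟨n, congrArg Subtype.val hn⟩)⟩⟩
      invFun := fun q => ⟨((q.1.1 : V), (q.2.1 : V)), q.1.1.2, q.2.1.2,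
        fun h => q.1.2 (Subtype.ext h), fun h => by
          obtain ⟨n, hn⟩ := AddSubgroup.mem_zmultiples_iff.1 h
          exact q.2.2 (AddSubgroup.mem_zmultiples_iff.2 ⟨n, Subtype.ext hn⟩)⟩
      left_inv := fun _ => rfl
      right_inv := fun _ => rfl }
  have := Fintype.ofFinite {a : S // a ≠ 0}
  rw [Nat.card_congr e, Nat.card_sigma]
  have : Fact p.Prime := ⟨hp⟩
  have hfib : ∀ a : {a : S // a ≠ 0},
      Nat.card {b : S // b ∉ AddSubgroup.zmultiples (a.1 : S)} = Nat.card S - p := by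
    intro a
    have ho : addOrderOf (a.1 : S) = p := addOrderOf_eq_prime
      (Subtype.ext (by rw [AddSubgroup.coe_nsmul, hchar]; rfl)) a.2
    have hc : Nat.card {b : S // b ∈ AddSubgroup.zmultiples (a.1 : S)} = p := by
      rw [show Nat.card {b : S // b ∈ AddSubgroup.zmultiples (a.1 : S)} =
        Nat.card (AddSubgroup.zmultiples (a.1 : S)) from rfl, Nat.card_zmultiples, ho]
    have := Fintype.ofFinite S
    rw [Nat.card_eq_fintype_card] at hc
    rw [Nat.card_eq_fintype_card, Fintype.card_subtype_compl, Nat.card_eq_fintype_card, hc]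
  simp only [hfib, finsum_eq_sum_of_fintype, Finset.sum_const, Finset.card_univ, smul_eq_mul]
  congr 1
  have := Fintype.ofFinite S
  rw [Fintype.card_subtype_compl, Fintype.card_subtype_eq, Nat.card_eq_fintype_card]

/-! ### Annihilators -/

/-- The annihilator inside the complement, through an additive functional. -/
def ann (Q : QuadraticForm F V) {p : ℕ} (τ : F →+ ZMod p) (u v : V) (S : Set V) : AddSubgroup V where
  carrier := {a | a ∈ WW Q u v ∧ ∀ x ∈ S, τ (polar Q x a) = 0}
  add_mem' := fun {a b} ha hb' => ⟨add_mem ha.1 hb'.1, fun x hx => by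
    rw [polar_add_right', map_add, ha.2 x hx, hb'.2 x hx, add_zero]⟩
  zero_mem' := ⟨zero_mem _, fun x _ => by rw [QuadraticMap.polar_zero_right, map_zero]⟩
  neg_mem' := fun {a} ha => ⟨neg_mem ha.1, fun x hx => by
    rw [QuadraticMap.polar_neg_right, map_neg, ha.2 x hx, neg_zero]⟩

theorem mem_ann {p : ℕ} {τ : F →+ ZMod p} {u v a : V} {S : Set V} :
    a ∈ ann Q τ u v S ↔ a ∈ WW Q u v ∧ ∀ x ∈ S, τ (polar Q x a) = 0 := Iff.rfl

theorem WW_nondeg (hb : Big Q) {u v : V} (hu : Q u = 0) (hv : Q v = 0) (huv : polar Q u v = 1)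
    {x : V} (hx : x ∈ WW Q u v) (h : ∀ a ∈ WW Q u v, polar Q x a = 0) : x = 0 := by
  rw [mem_WW] at hx
  refine hb.nd.1 x fun z => ?_
  show polar Q x z = 0
  have hvu : polar Q v u = 1 := by rw [QuadraticMap.polar_comm]; exact huv
  have hz : z + (-polar Q z v) • u + (-polar Q z u) • v ∈ WW Q u v := by
    rw [mem_WW]
    constructor
    · simp only [polar_add_right', polar_smul_right', polar_self', hu, huv,
        QuadraticMap.polar_comm (⇑Q) z u]
      ring
    · simp only [polar_add_right', polar_smul_right', polar_self', hv, hvu,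
        QuadraticMap.polar_comm (⇑Q) z v]
      ring
  have := h _ hz
  rwa [polar_add_right', polar_add_right', polar_smul_right', polar_smul_right',
    QuadraticMap.polar_comm (⇑Q) x u, QuadraticMap.polar_comm (⇑Q) x v, hx.1, hx.2, mul_zero,
    mul_zero, add_zero, add_zero] at this

variable {p : ℕ} [Fact p.Prime]

theorem card_ann_mul (hb : Big Q) (hchar : ∀ x : V, p • x = 0) {τ : F →+ ZMod p} (hτ : τ ≠ 0)
    {u v : V} (hu : Q u = 0) (hv : Q v = 0) (huv : polar Q u v = 1) (S : AddSubgroup V)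
    (hS : ∀ x ∈ S, x ∈ WW Q u v) :
    Nat.card (ann Q τ u v (S : Set V)) * Nat.card S = Nat.card (WW Q u v) := by
  have : Finite V := Module.finite_of_finite F
  let φ : (WW Q u v).toAddSubgroup →+ (S →+ ZMod p) :=
    { toFun := fun a =>
        { toFun := fun x => τ (polar Q (x : V) (a : V))
          map_zero' := by simp
          map_add' := fun x y => by rw [AddSubgroup.coe_add, polar_add_left', map_add] }
      map_zero' := by ext x; simp
      map_add' := fun a b => by ext x; simp [polar_add_right'] }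
  have hker : Nat.card φ.ker = Nat.card (ann Q τ u v (S : Set V)) := by
    refine Nat.card_congr
      { toFun := fun a => ⟨(a.1 : V), a.1.2, fun x hx => DFunLike.congr_fun a.2 ⟨x, hx⟩⟩
        invFun := fun a => ⟨⟨(a : V), a.2.1⟩, AddMonoidHom.ext fun x => a.2.2 x x.2⟩
        left_inv := fun _ => rfl
        right_inv := fun _ => rfl }
  have hmul : Nat.card φ.range * Nat.card φ.ker = Nat.card (WW Q u v) := by
    rw [← Nat.card_congr (QuotientAddGroup.quotientKerEquivRange φ).toEquiv, mul_comm,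
      ← AddSubgroup.index, AddSubgroup.card_mul_index]
    rfl
  have : Module (ZMod p) S := AddCommGroup.zmodModule fun x =>
    Subtype.ext (by rw [AddSubgroup.coe_nsmul, hchar]; rfl)
  have : Finite (S →+ ZMod p) := DFunLike.finite _
  have h1 : Nat.card φ.range ≤ Nat.card S :=
    (Nat.card_le_card_of_injective _ Subtype.val_injective).trans (le_of_eq (card_hom_zmod' S))
  have h2 : Nat.card S ≤ Nat.card φ.range := by
    have : Module (ZMod p) φ.range := AddCommGroup.zmodModule fun x =>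
      Subtype.ext (AddMonoidHom.ext fun s => by
        rw [AddSubgroup.coe_nsmul]
        simp [nsmul_eq_mul])
    have : Finite (φ.range →+ ZMod p) := DFunLike.finite _
    rw [← card_hom_zmod' φ.range]
    refine Nat.card_le_card_of_injective
      (fun x : S => ((AddMonoidHom.eval x).comp φ.range.subtype : φ.range →+ ZMod p)) fun x y e => ?_
    have hall : ∀ a ∈ WW Q u v, τ (polar Q ((x : V) - y) a) = 0 := by
      intro a ha
      have := DFunLike.congr_fun e ⟨φ ⟨a, ha⟩, _, rfl⟩
      rw [QuadraticMap.polar_sub_left, map_sub, sub_eq_zero]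
      exact this
    refine Subtype.ext (sub_eq_zero.1 (WW_nondeg hb hu hv huv
      (Submodule.sub_mem _ (hS _ x.2) (hS _ y.2)) fun a ha => ?_))
    by_contra hne
    refine hτ (AddMonoidHom.ext fun c => ?_)
    have := hall ((c * (polar Q ((x : V) - y) a)⁻¹) • a) (Submodule.smul_mem _ _ ha)
    rwa [polar_smul_right', mul_assoc, inv_mul_cancel₀ hne, mul_one] at this
  rw [← hmul, hker, le_antisymm h1 h2, mul_comm]
where
  card_hom_zmod' (A : Type _) [AddCommGroup A] [Finite A] [Module (ZMod p) A] :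
      Nat.card (A →+ ZMod p) = Nat.card A := by
    rw [Nat.card_congr (⟨fun f => f.toZModLinearMap p, fun f => f.toAddMonoidHom,
        fun _ => AddMonoidHom.ext fun _ => rfl, fun _ => LinearMap.ext fun _ => rfl⟩ :
        (A →+ ZMod p) ≃ Module.Dual (ZMod p) A),
      Module.natCard_eq_pow_finrank (K := ZMod p),
      Module.natCard_eq_pow_finrank (K := ZMod p) (V := A), Subspace.dual_finrank_eq]

theorem ann_ann (hb : Big Q) (hchar : ∀ x : V, p • x = 0) {τ : F →+ ZMod p} (hτ : τ ≠ 0)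
    {u v : V} (hu : Q u = 0) (hv : Q v = 0) (huv : polar Q u v = 1) (S : AddSubgroup V)
    (hS : ∀ x ∈ S, x ∈ WW Q u v) : ann Q τ u v (ann Q τ u v (S : Set V) : Set V) = S := by
  have : Finite V := Module.finite_of_finite F
  have hle : S ≤ ann Q τ u v (ann Q τ u v (S : Set V) : Set V) := fun x hx =>
    ⟨hS x hx, fun a ha => by rw [QuadraticMap.polar_comm]; exact ha.2 x hx⟩
  have h1 := card_ann_mul hb hchar hτ hu hv huv S hS
  have h2 := card_ann_mul hb hchar hτ hu hv huv (ann Q τ u v (S : Set V)) fun a ha => ha.1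
  have hpos : 0 < Nat.card (ann Q τ u v (S : Set V)) := Nat.card_pos
  rw [← h1, mul_comm (Nat.card (ann Q τ u v (S : Set V))) (Nat.card S)] at h2
  exact (AddSubgroup.eq_of_le_of_card_ge hle (le_of_eq (Nat.eq_of_mul_eq_mul_right hpos h2))).symm

theorem ann_image {τ : F →+ ZMod p} {u v : V} {g : commutator (OQ Q)} {l : F} (hg : Lev u v g l)
    (S : Set V) :
    (ann Q τ u v ((fun x => l • ap g x) '' S) : Set V) =
      (fun x => l⁻¹ • ap g x) '' (ann Q τ u v S : Set V) := by
  ext a
  constructor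
  · rintro ⟨ha, h⟩
    refine ⟨l • ap g⁻¹ a, ⟨(WW Q u v).smul_mem _ (hg.inv.mem_WW ha), fun x hx => ?_⟩, ?_⟩
    · have := h _ ⟨x, hx, rfl⟩
      rwa [polar_smul_left', ← ap_apply_inv g a, ap_polar, ← polar_smul_right'] at this
    · show l⁻¹ • ap g _ = a
      rw [map_smul, ap_apply_inv, inv_smul_smul₀ hg.1]
  · rintro ⟨b, ⟨hb, h⟩, rfl⟩
    refine ⟨(WW Q u v).smul_mem _ (hg.mem_WW hb), ?_⟩
    rintro _ ⟨x, hx, rfl⟩
    rw [polar_smul_left', polar_smul_right', ap_polar, ← mul_assoc, mul_inv_cancel₀ hg.1, one_mul]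
    exact h x hx

theorem card_orb_ann {τ : F →+ ZMod p} {u v : V} (S : Set V) :
    Nat.card (orb Q (fun l => l⁻¹) u v (ann Q τ u v S : Set V)) ≤ Nat.card (orb Q id u v S) := by
  have : Finite V := Module.finite_of_finite F
  refine Nat.card_le_card_of_surjective
    (fun A : orb Q id u v S => (⟨(ann Q τ u v (A : Set V) : Set V), by
      obtain ⟨g, l, hg, e⟩ := A.2
      exact ⟨g, l, hg, by rw [e]; exact ann_image hg S⟩⟩ :
        orb Q (fun l => l⁻¹) u v (ann Q τ u v S : Set V))) ?_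
  rintro ⟨T, g, l, hg, rfl⟩
  exact ⟨⟨_, g, l, hg, rfl⟩, Subtype.ext (ann_image hg S)⟩

theorem exists_functional [CharP F p] : ∃ τ : F →+ ZMod p, τ ≠ 0 := by
  letI := ZMod.algebra F p
  obtain ⟨φ, hφ⟩ := exists_ne (0 : Module.Dual (ZMod p) F)
  exact ⟨φ.toAddMonoidHom, fun h => hφ (LinearMap.ext fun x => DFunLike.congr_fun h x)⟩

end

end CfsgLib.MinIndexOrth
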