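import Cfsg.Agent.Lib.Known.MinIndexOrth.Arith

/-!
The numerical conditions for the three families.
-/

set_option autoImplicit false

namespace CfsgLib.MinIndexOrth

variable {q p f g d i B S S₂ : ℕ}

/-- The divisor in the number of square classes. -/
def gq (q : ℕ) : ℕ := if q % 2 = 0 then 1 else 2

theorem gq_spec (hq : 2 ≤ q) : gq q ∣ q - 1 ∧ 1 ≤ (q - 1) / gq q ∧ gq q ≤ 2 := by
  unfold gq
  split
  · exact ⟨one_dvd _, by rw [Nat.div_one]; omega, by omega⟩
  · exact ⟨by omega, by omega, le_rfl⟩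

theorem shift {A C x y a b : ℕ} (hq : 0 < q) (h : A * q ^ x ≤ C * q ^ y) (hab : a + y ≤ b + x) :
    A * q ^ a ≤ C * q ^ b := by
  refine Nat.le_of_mul_le_mul_right ?_ (pow_pos hq y)
  calc A * q ^ a * q ^ y = A * q ^ (a + y) := by rw [pow_add, mul_assoc]
    _ ≤ A * q ^ (b + x) := Nat.mul_le_mul_left _ (Nat.pow_le_pow_right hq hab)
    _ = A * q ^ x * q ^ b := by rw [pow_add]; ring
    _ ≤ C * q ^ y * q ^ b := Nat.mul_le_mul_right _ h
    _ = C * q ^ b * q ^ y := by ring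

theorem mul_bound {X e : ℕ} (hq : 2 ≤ q) (hB : B * (q - 1) * q ^ 2 ≤ (q ^ 3 + 1) * q ^ d)
    (h : (q ^ 3 + 1) * q ^ (d + e) ≤ X * (q - 1) * q ^ 2) : B * q ^ e ≤ X := by
  have hpos : 0 < (q - 1) * q ^ 2 := Nat.mul_pos (by omega) (pow_pos (by omega) 2)
  refine Nat.le_of_mul_le_mul_right ?_ hpos
  calc B * q ^ e * ((q - 1) * q ^ 2) = B * (q - 1) * q ^ 2 * q ^ e := by ring
    _ ≤ (q ^ 3 + 1) * q ^ d * q ^ e := Nat.mul_le_mul_right _ hB
    _ = (q ^ 3 + 1) * q ^ (d + e) := by rw [pow_add, mul_assoc]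
    _ ≤ _ := h
    _ = _ := by ring

theorem ns_bound (hq : 2 ≤ q) (hd : 5 ≤ d) (hg : g ∣ q - 1)
    (hB : B * (q - 1) * q ^ 2 ≤ (q ^ 3 + 1) * q ^ d) {d₀ : ℕ} (hd₀ : d₀ ≤ d)
    (h : (q ^ 3 + 1) ^ 2 * g ^ 2 * q ^ 8 ≤ ((q - 1) ^ 3 * (q ^ 2 - 1)) ^ 2 * q ^ d₀) :
    ∀ a k, a * k = q ^ d → p < a → p < k →
      B * nPairs p a ≤ a * tNs q g d ∨ B * nPairs p k ≤ a * tNs q g d ∨
        MidCond q p d i B S S₂ a k := by
  refine ns_of_sq ?_
  obtain ⟨t, ht⟩ := hg
  have hgpos : 0 < g := by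
    rcases Nat.eq_zero_or_pos g with h0 | h0
    · subst h0; omega
    · exact h0
  obtain ⟨s, rfl⟩ : ∃ s, d = s + 3 := ⟨d - 3, by omega⟩
  have hT : g * tNs q g (s + 3) = (q - 1) ^ 2 * (q ^ 2 - 1) * q ^ (2 * s) := by
    rw [tNs, ht, Nat.mul_div_cancel_left _ hgpos, Nat.add_sub_cancel]
    ring
  obtain ⟨T, hTdef⟩ : ∃ T, T = tNs q g (s + 3) := ⟨_, rfl⟩
  rw [← hTdef] at hT ⊢
  have hpos : 0 < ((q - 1) * q ^ 2 * g) ^ 2 :=
    pow_pos (Nat.mul_pos (Nat.mul_pos (by omega) (pow_pos (by omega) 2)) hgpos) 2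
  refine Nat.le_of_mul_le_mul_right ?_ hpos
  calc B ^ 2 * q ^ (s + 3) * ((q - 1) * q ^ 2 * g) ^ 2
      = (B * (q - 1) * q ^ 2) ^ 2 * (g ^ 2 * q ^ (s + 3)) := by ring
    _ ≤ ((q ^ 3 + 1) * q ^ (s + 3)) ^ 2 * (g ^ 2 * q ^ (s + 3)) :=
        Nat.mul_le_mul_right _ (Nat.pow_le_pow_left hB 2)
    _ = (q ^ 3 + 1) ^ 2 * g ^ 2 * q ^ (3 * s + 9) := by ring
    _ ≤ ((q - 1) ^ 3 * (q ^ 2 - 1)) ^ 2 * q ^ (4 * s + 4) := shift (by omega) h (by omega)
    _ = (g * T) ^ 2 * ((q - 1) * q ^ 2) ^ 2 := by rw [hT]; ring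
    _ = _ := by ring

theorem lp_of (hB : B * (q - 1) ≤ (q - 1) * q ^ d + q * S + (q - 1)) (hq : 2 ≤ q) :
    (B - 1) * (q - 1) < (q - 1) * q ^ d + q * S + (q - 1) := by
  rcases Nat.eq_zero_or_pos B with h | h
  · subst h
    simp
    omega
  · exact lt_of_lt_of_le (Nat.mul_lt_mul_of_pos_right (by omega : B - 1 < B) (by omega)) hB

theorem lt_of (hq : 2 ≤ q) (hB : B * (q - 1) ≤ q ^ (d + 1)) : B ≤ 2 * q ^ d := by
  refine Nat.le_of_mul_le_mul_right (hB.trans ?_) (show 0 < q - 1 by omega)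
  rw [pow_succ, mul_comm 2, mul_assoc]
  exact Nat.mul_le_mul_left _ (by omega)

theorem le_tPerp {κ a b : ℕ} {A C : ℕ} (hS : A * q ^ a ≤ S) (hS₂ : C * q ^ b ≤ S₂)
    (h : κ = A * C) : κ * q ^ (a + b + 1) ≤ tPerp q S S₂ := by
  refine le_trans (le_of_eq ?_) (Nat.mul_le_mul hS (Nat.mul_le_mul_left q hS₂))
  rw [h]
  ring

theorem cube_bound (hq : 2 ≤ q) :
    q ^ 3 + 1 ≤ (q ^ 2 - 1) * (q - 1) * (q - 1) * q ^ 2 ∧
      q ≤ (q ^ 2 - 1) * (q - 1) * (q - 1) ∧
      (3 ≤ q → q ^ 3 + 1 ≤ (q ^ 2 - 1) * (q - 1) * (q - 1)) := by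
  obtain ⟨w, rfl⟩ : ∃ w, q = w + 2 := ⟨q - 2, by omega⟩
  have e : (w + 2) ^ 2 - 1 = w ^ 2 + 4 * w + 3 := by
    have : (w + 2) ^ 2 = w ^ 2 + 4 * w + 4 := by ring
    omega
  rw [e, show w + 2 - 1 = w + 1 by omega]
  refine ⟨by nlinarith [Nat.zero_le (w ^ 3), Nat.zero_le (w ^ 4), Nat.zero_le (w ^ 5)], by
    nlinarith [Nat.zero_le (w ^ 3), Nat.zero_le (w ^ 4)], fun h => ?_⟩
  obtain ⟨v, rfl⟩ : ∃ v, w = v + 1 := ⟨w - 1, by omega⟩
  nlinarith [Nat.zero_le (v ^ 2), Nat.zero_le (v ^ 3), Nat.zero_le (v ^ 4)]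

/-- The polynomial bound for large fields. -/
theorem poly_nine (h : 9 ≤ q) :
    (q ^ 3 + 1) ^ 2 * gq q ^ 2 * q ^ 8 ≤ ((q - 1) ^ 3 * (q ^ 2 - 1)) ^ 2 * q ^ 5 := by
  have h2 := (gq_spec (show 2 ≤ q by omega)).2.2
  have e1 : 8 * q ≤ 9 * (q - 1) := by omega
  have e2 : 80 * q ^ 2 ≤ 81 * (q ^ 2 - 1) := by
    have : 9 ^ 2 ≤ q ^ 2 := Nat.pow_le_pow_left h 2
    omega
  have e3 : 729 * (q ^ 3 + 1) ≤ 730 * q ^ 3 := by
    have : 9 ^ 3 ≤ q ^ 3 := Nat.pow_le_pow_left h 3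
    omega
  refine Nat.le_of_mul_le_mul_left ?_ (show 0 < (729 * 81) ^ 2 by norm_num)
  calc (729 * 81) ^ 2 * ((q ^ 3 + 1) ^ 2 * gq q ^ 2 * q ^ 8)
      = (729 * (q ^ 3 + 1)) ^ 2 * ((81 * gq q) ^ 2 * q ^ 8) := by ring
    _ ≤ (730 * q ^ 3) ^ 2 * ((81 * 2) ^ 2 * q ^ 8) :=
        Nat.mul_le_mul (Nat.pow_le_pow_left e3 2)
          (Nat.mul_le_mul_right _ (Nat.pow_le_pow_left (Nat.mul_le_mul_left _ h2) 2))
    _ = (730 * 81 * 2) ^ 2 * q ^ 14 := by ring
    _ ≤ ((8 ^ 3 * 80) ^ 2 * 9) * q ^ 14 := Nat.mul_le_mul_right _ (by norm_num)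
    _ ≤ ((8 ^ 3 * 80) ^ 2 * q) * q ^ 14 := Nat.mul_le_mul_right _ (Nat.mul_le_mul_left _ h)
    _ = (((8 * q) ^ 3 * (80 * q ^ 2))) ^ 2 * q ^ 5 := by ring
    _ ≤ (((9 * (q - 1)) ^ 3 * (81 * (q ^ 2 - 1)))) ^ 2 * q ^ 5 :=
        Nat.mul_le_mul_right _ (Nat.pow_le_pow_left (Nat.mul_le_mul (Nat.pow_le_pow_left e1 3) e2) 2)
    _ = _ := by ring

theorem poly_six (h : 4 ≤ q) :
    (q ^ 3 + 1) ^ 2 * gq q ^ 2 * q ^ 8 ≤ ((q - 1) ^ 3 * (q ^ 2 - 1)) ^ 2 * q ^ 6 := by
  rcases Nat.lt_or_ge q 9 with h9 | h9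
  · interval_cases q <;> norm_num [gq]
  · exact (poly_nine h9).trans (Nat.mul_le_mul_left _ (Nat.pow_le_pow_right (by omega) (by omega)))

theorem pow_bound {n e : ℕ} (hq : 0 < q) (h : e ≤ n) : q ^ e ≤ q ^ n :=
  Nat.pow_le_pow_right hq h

theorem sub_two (hq : 2 ≤ q) (hd : 5 ≤ d) (hS : (q ^ 2 - 1) * q ^ (d - 3) ≤ S) : q ^ 2 - 1 ≤ S :=
  le_trans (Nat.le_mul_of_pos_right _ (pow_pos (by omega) _)) hS

/-- Odd dimension `2m+1`, `m = e + 3`. -/
theorem num_odd (hp : p.Prime) (hq : q = p ^ f) (hodd : Odd q) (h3 : 3 ≤ q) (e : ℕ)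
    (hS : S + 1 = q ^ (2 * e + 4)) (hS₂ : S₂ + 1 = q ^ (2 * e + 2))
    (hB : if q = 3 then 2 * B + q ^ (e + 3) = q ^ (2 * e + 6) else B * (q - 1) + 1 = q ^ (2 * e + 6)) :
    Num q p 2 (2 * e + 5) (e + 2) B S S₂ := by
  have hg : gq q = 2 := by rw [gq, if_neg (by rw [Nat.odd_iff] at hodd; omega)]
  -- the finite cases
  by_cases hfin : (q = 3 ∧ e ≤ 1) ∨ (e = 0 ∧ (q = 5 ∨ q = 7))
  · have hqp : q.Prime := by rcases hfin with ⟨rfl, -⟩ | ⟨-, rfl | rfl⟩ <;> norm_num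
    have hpq : p = q := (Nat.prime_dvd_prime_iff_eq hp hqp).1
      (hq ▸ dvd_pow_self p (by rintro rfl; simp at hq; omega))
    subst hpq
    rcases hfin with ⟨rfl, he⟩ | ⟨rfl, rfl | rfl⟩
    · rw [if_pos rfl] at hB
      interval_cases e
      · obtain rfl : B = 351 := by norm_num at hB; omega
        obtain rfl : S = 80 := by norm_num at hS; omega
        obtain rfl : S₂ = 8 := by norm_num at hS₂; omega
        exact num_of_check hp (by decide) (by decide) (by decide) (by decide) (by decide)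
      · obtain rfl : B = 3240 := by norm_num at hB; omega
        obtain rfl : S = 728 := by norm_num at hS; omega
        obtain rfl : S₂ = 80 := by norm_num at hS₂; omega
        exact num_of_check hp (by decide) (by decide) (by decide) (by decide) (by decide)
    · rw [if_neg (by norm_num)] at hB
      obtain rfl : B = 3906 := by norm_num at hB; omega
      obtain rfl : S = 624 := by norm_num at hS; omega
      obtain rfl : S₂ = 24 := by norm_num at hS₂; omega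
      exact num_of_check hp (by decide) (by decide) (by decide) (by decide) (by decide)
    · rw [if_neg (by norm_num)] at hB
      obtain rfl : B = 19608 := by norm_num at hB; omega
      obtain rfl : S = 2400 := by norm_num at hS; omega
      obtain rfl : S₂ = 48 := by norm_num at hS₂; omega
      exact num_of_check hp (by decide) (by decide) (by decide) (by decide) (by decide)
  have hq2 : 2 ≤ q := by omega
  have hq0 : 0 < q := by omega
  have hB' : B * (q - 1) ≤ q ^ (2 * e + 6) - 1 := by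
    split_ifs at hB with h
    · subst h
      have := Nat.one_le_pow (e + 3) 3 (by norm_num)
      omega
    · omega
  have hB1 : B * (q - 1) ≤ q ^ (2 * e + 5 + 1) := hB'.trans (Nat.sub_le _ _)
  have hB2 : B * (q - 1) * q ^ 2 ≤ (q ^ 3 + 1) * q ^ (2 * e + 5) := by
    calc B * (q - 1) * q ^ 2 ≤ q ^ (2 * e + 5 + 1) * q ^ 2 := Nat.mul_le_mul_right _ hB1
      _ = q ^ 3 * q ^ (2 * e + 5) := by ring
      _ ≤ _ := Nat.mul_le_mul_right _ (by omega)
  have hq21 : 1 ≤ q ^ 2 := Nat.one_le_pow _ _ hq0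
  have hSl : (q ^ 2 - 1) * q ^ (2 * e + 5 - 3) ≤ S := by
    rw [show 2 * e + 5 - 3 = 2 * e + 2 by omega, Nat.sub_mul, ← pow_add, one_mul,
      show 2 + (2 * e + 2) = 2 * e + 4 by ring]
    have := Nat.one_le_pow (2 * e + 2) q hq0
    omega
  have hS₂l : (q - 1) * q ^ (2 * e + 1) ≤ S₂ := by
    rw [Nat.sub_mul, one_mul, ← pow_succ']
    have := Nat.one_le_pow (2 * e + 1) q hq0
    rw [show 2 * e + 2 = 2 * e + 1 + 1 by ring] at hS₂
    omega
  rw [show 2 * e + 5 - 3 = 2 * e + 2 by omega] at hSl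
  have hTP := le_tPerp (κ := (q ^ 2 - 1) * (q - 1)) hSl hS₂l rfl
  obtain ⟨-, -, hc⟩ := cube_bound hq2
  have hc := hc h3
  refine ⟨lt_of hq2 hB1, sub_two (d := 2 * e + 5) hq2 (by omega) (by
      rw [show 2 * e + 5 - 3 = 2 * e + 2 by omega]; exact hSl), lp_of ?_ hq2, ?_,
    small_of (by omega) hq2 (by rw [← hg]; exact (gq_spec hq2).2.1) hB2 (by
      rw [show 2 * e + 5 - 3 = 2 * e + 2 by omega]; exact hSl), ?_, ?_, ?_⟩
  · refine hB'.trans ?_
    have h1 : q ^ (2 * e + 6) = (q - 1) * q ^ (2 * e + 5) + q * (S + 1) := by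
      rw [hS, ← pow_succ', show 2 * e + 4 + 1 = 2 * e + 5 by ring, Nat.sub_mul, one_mul, ← pow_succ',
        show 2 * e + 6 = 2 * e + 5 + 1 by ring]
      have := pow_bound (n := 2 * e + 5 + 1) hq0 (show 2 * e + 5 ≤ 2 * e + 5 + 1 by omega)
      omega
    rw [h1, mul_add, mul_one]
    omega
  · suffices hn : ∀ a k, a * k = q ^ (2 * e + 5) → p < a → p < k →
        B * nPairs p a ≤ a * tNs q (gq q) (2 * e + 5) ∨ B * nPairs p k ≤ a * tNs q (gq q) (2 * e + 5) ∨
          MidCond q p (2 * e + 5) (e + 2) B S S₂ a k by rwa [hg] at hn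
    rcases Nat.lt_or_ge q 9 with h9 | h9
    · by_cases hq3 : q = 3
      · subst hq3
        exact ns_bound hq2 (by omega) (gq_spec hq2).1 hB2 (d₀ := 8) (by omega) (by norm_num [gq])
      · refine ns_bound hq2 (by omega) (gq_spec hq2).1 hB2 (d₀ := 6) ?_ (poly_six (by omega))
        rw [Nat.odd_iff] at hodd
        omega
    · exact ns_bound hq2 (by omega) (gq_spec hq2).1 hB2 (d₀ := 5) (by omega) (poly_nine h9)
  · refine perpK_of ((mul_bound hq2 hB2 ?_).trans (Nat.mul_le_mul_left _ hTP))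
    calc (q ^ 3 + 1) * q ^ (2 * e + 5 + 3 * (e + 2))
        ≤ (q ^ 2 - 1) * (q - 1) * (q - 1) * q ^ (2 * e + 5 + (2 * e + 2 + (2 * e + 1) + 1) + 2) :=
          shift hq0 (x := 0) (y := 0) (by simpa using hc) (by omega)
      _ = _ := by ring
  · rcases Nat.eq_zero_or_pos e with rfl | he
    · rcases Nat.lt_or_ge q 5 with h5 | h5
      · exfalso; rw [Nat.odd_iff] at hodd; omega
      refine perpA_half hp hq (by omega) ((mul_bound hq2 hB2 ?_).trans (Nat.mul_le_mul_left 2 hTP)) ?_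
      · calc (q ^ 3 + 1) * q ^ (2 * 0 + 5 + (0 + 2))
            ≤ 2 * ((q ^ 2 - 1) * (q - 1) * (q - 1)) * q ^ (2 * 0 + 2 + (2 * 0 + 1) + 1 + 2) := by
              refine shift hq0 (x := 1) (y := 0) ?_ (by omega)
              obtain ⟨w, rfl⟩ : ∃ w, q = w + 5 := ⟨q - 5, by omega⟩
              have e1 : (w + 5) ^ 2 - 1 = w ^ 2 + 10 * w + 24 := by
                have : (w + 5) ^ 2 = w ^ 2 + 10 * w + 25 := by ring
                omega
              rw [e1, show w + 5 - 1 = w + 4 by omega]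
              nlinarith [Nat.zero_le (w ^ 2), Nat.zero_le (w ^ 3), Nat.zero_le (w ^ 4)]
          _ = _ := by ring
      · norm_num at hS hS₂ ⊢
        rw [tPerp]
        obtain ⟨w, rfl⟩ : ∃ w, q = w + 2 := ⟨q - 2, by omega⟩
        have e1 : (w + 2) ^ 2 - 1 = w ^ 2 + 4 * w + 3 := by
          have : (w + 2) ^ 2 = w ^ 2 + 4 * w + 4 := by ring
          omega
        have e2 : (w + 2) ^ 2 - 2 = w ^ 2 + 4 * w + 2 := by
          have : (w + 2) ^ 2 = w ^ 2 + 4 * w + 4 := by ring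
          omega
        have e3 : S₂ = w ^ 2 + 4 * w + 3 := by
          have : (w + 2) ^ 2 = w ^ 2 + 4 * w + 4 := by ring
          omega
        rw [e1, e2, e3, show (w + 2) ^ 2 * (S * ((w + 2) * (w ^ 2 + 4 * w + 3))) =
          (w ^ 2 + 4 * w + 3) * ((w + 2) ^ 3 * S) by ring, mul_left_comm]
        refine Nat.mul_le_mul_left _ ?_
        have h1 : (w + 2) ^ 3 * (S + 1) = (w + 2) ^ 3 * (w + 2) ^ 4 := by rw [hS]
        nlinarith [Nat.zero_le (w ^ 2), Nat.zero_le (w ^ 3), Nat.zero_le (w ^ 4), Nat.zero_le (w ^ 5)]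
    · refine perpA_of ((mul_bound hq2 hB2 ?_).trans hTP)
      calc (q ^ 3 + 1) * q ^ (2 * e + 5 + (e + 2))
          ≤ (q ^ 2 - 1) * (q - 1) * (q - 1) * q ^ (2 * e + 2 + (2 * e + 1) + 1 + 2) :=
            shift hq0 (x := 0) (y := 0) (by simpa using hc) (by omega)
        _ = _ := by ring
  · refine sub_of (le_trans ?_ (Nat.mul_le_mul_left _ hTP))
    calc q ^ (3 * (e + 2) + 1) = 1 * q ^ (3 * (e + 2) + 1) := (one_mul _).symm
      _ ≤ (q ^ 2 - 1) * (q - 1) * (q - 1) * q ^ (2 * e + 2 + (2 * e + 1) + 1) :=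
          shift hq0 (x := 3) (y := 0) (by rw [pow_zero, mul_one, one_mul]; omega) (by omega)
      _ = _ := by ring

/-- Plus type, dimension `2m`, `m = e + 4`. -/
theorem num_plus (hp : p.Prime) (hq : q = p ^ f) (hq24 : q = 2 ∨ 4 ≤ q) (e : ℕ)
    (hS : S + 1 + q ^ (e + 2) = q ^ (2 * e + 5) + q ^ (e + 3))
    (hS₂ : S₂ + 1 + q ^ (e + 1) = q ^ (2 * e + 3) + q ^ (e + 2))
    (hB : if q = 2 then B + q ^ (e + 3) = q ^ (2 * e + 7)
      else B * (q - 1) + 1 + q ^ (e + 3) = q ^ (2 * e + 7) + q ^ (e + 4)) :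
    Num q p (gq q) (2 * e + 6) (e + 3) B S S₂ := by
  by_cases hfin : q = 2 ∧ e ≤ 2
  · obtain ⟨rfl, he⟩ := hfin
    obtain rfl : p = 2 := by
      have h1 : p ∣ 2 := hq ▸ dvd_pow_self p (by rintro rfl; simp at hq)
      exact (Nat.prime_dvd_prime_iff_eq hp Nat.prime_two).1 h1
    rw [if_pos rfl] at hB
    interval_cases e
    · obtain rfl : B = 120 := by norm_num at hB; omega
      obtain rfl : S = 35 := by norm_num at hS; omega
      obtain rfl : S₂ = 9 := by norm_num at hS₂; omega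
      exact num_of_check hp (by decide) (by decide) (by decide) (by decide) (by decide)
    · obtain rfl : B = 496 := by norm_num at hB; omega
      obtain rfl : S = 135 := by norm_num at hS; omega
      obtain rfl : S₂ = 35 := by norm_num at hS₂; omega
      exact num_of_check hp (by decide) (by decide) (by decide) (by decide) (by decide)
    · obtain rfl : B = 2016 := by norm_num at hB; omega
      obtain rfl : S = 527 := by norm_num at hS; omega
      obtain rfl : S₂ = 135 := by norm_num at hS₂; omega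
      exact num_of_check hp (by decide) (by decide) (by decide) (by decide) (by decide)
  have hq2 : 2 ≤ q := by omega
  have hq0 : 0 < q := by omega
  have m1 : q ^ (e + 2) < q ^ (e + 3) := Nat.pow_lt_pow_right hq2 (by omega)
  have m2 : q ^ (e + 1) < q ^ (e + 2) := Nat.pow_lt_pow_right hq2 (by omega)
  have hSl : 1 * q ^ (2 * e + 5) ≤ S := by rw [one_mul]; omega
  have hS₂l : 1 * q ^ (2 * e + 3) ≤ S₂ := by rw [one_mul]; omega
  have hTP := le_tPerp (κ := 1) hSl hS₂l rfl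
  have hSl' : (q ^ 2 - 1) * q ^ (2 * e + 6 - 3) ≤ S := by
    rw [show 2 * e + 6 - 3 = 2 * e + 3 by omega, Nat.sub_mul, ← pow_add, one_mul,
      show 2 + (2 * e + 3) = 2 * e + 5 by ring]
    omega
  have hB2 : B * (q - 1) * q ^ 2 ≤ (q ^ 3 + 1) * q ^ (2 * e + 6) := by
    have h1 : B * (q - 1) ≤ q ^ (2 * e + 7) + q ^ (e + 4) := by
      split_ifs at hB with h
      · subst h
        rw [show (2 : ℕ) - 1 = 1 from rfl, mul_one]
        have := Nat.one_le_pow (e + 3) 2 (by norm_num)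
        have := Nat.one_le_pow (e + 4) 2 (by norm_num)
        omega
      · omega
    calc B * (q - 1) * q ^ 2 ≤ (q ^ (2 * e + 7) + q ^ (e + 4)) * q ^ 2 := Nat.mul_le_mul_right _ h1
      _ = q ^ (2 * e + 9) + q ^ (e + 6) := by ring
      _ ≤ q ^ (2 * e + 9) + q ^ (2 * e + 6) := by
          have := pow_bound (n := 2 * e + 6) hq0 (show e + 6 ≤ 2 * e + 6 by omega)
          omega
      _ = _ := by ring
  have hlt : B ≤ 2 * q ^ (2 * e + 6) := by
    split_ifs at hB with h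
    · subst h
      rw [show 2 * e + 7 = 2 * e + 6 + 1 by ring, pow_succ] at hB
      omega
    · refine Nat.le_of_mul_le_mul_right ?_ (Nat.mul_pos (show 0 < q - 1 by omega) (pow_pos hq0 2))
      rw [← mul_assoc]
      refine hB2.trans ?_
      obtain ⟨w, rfl⟩ : ∃ w, q = w + 4 := ⟨q - 4, by omega⟩
      rw [show w + 4 - 1 = w + 3 by omega,
        show 2 * (w + 4) ^ (2 * e + 6) * ((w + 3) * (w + 4) ^ 2) =
          2 * (w + 3) * (w + 4) ^ 2 * (w + 4) ^ (2 * e + 6) by ring]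
      exact Nat.mul_le_mul_right _ (by nlinarith [Nat.zero_le (w ^ 2), Nat.zero_le (w ^ 3)])
  refine ⟨hlt, sub_two (d := 2 * e + 6) hq2 (by omega) hSl', lp_of ?_ hq2, ?_,
    small_of (by omega) hq2 (gq_spec hq2).2.1 hB2 hSl', ?_, ?_, ?_⟩
  · have h1 : (q - 1) * q ^ (2 * e + 6) + q ^ (2 * e + 6) = q ^ (2 * e + 7) := by
      rw [← Nat.succ_mul, pow_succ' q (2 * e + 6)]
      congr 1
      omega
    have h2 : q * S + q + q ^ (e + 3) = q ^ (2 * e + 6) + q ^ (e + 4) := by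
      have := congrArg (q * ·) hS
      simp only [mul_add, mul_one] at this
      rw [← pow_succ', ← pow_succ', ← pow_succ'] at this
      exact this
    split_ifs at hB with h
    · subst h
      rw [show (2 : ℕ) - 1 = 1 from rfl, mul_one, one_mul] at *
      have := Nat.one_le_pow (e + 3) 2 (by norm_num)
      have : (2 : ℕ) ^ (e + 4) = 2 ^ (e + 3) + 2 ^ (e + 3) := by rw [← two_mul, ← pow_succ']
      omega
    · omega
  · rcases hq24 with rfl | h4
    · exact ns_bound hq2 (by omega) (gq_spec hq2).1 hB2 (d₀ := 12) (by omega) (by norm_num [gq])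
    · exact ns_bound hq2 (by omega) (gq_spec hq2).1 hB2 (d₀ := 6) (by omega) (poly_six h4)
  · refine perpK_half hp hq (by omega) ((mul_bound hq2 hB2 ?_).trans
      (Nat.mul_le_mul_left _ (Nat.mul_le_mul_left _ hTP)))
    calc (q ^ 3 + 1) * q ^ (2 * e + 6 + 3 * (e + 3))
        ≤ 8 * (q - 1) * q ^ (2 * e + 6 + (2 * e + 5 + (2 * e + 3) + 1) + 2) := by
          refine shift hq0 (x := 1) (y := 3) ?_ (by omega)
          rw [pow_one]
          calc (q ^ 3 + 1) * q ≤ 2 * q ^ 3 * q :=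
                Nat.mul_le_mul_right _ (by have := Nat.one_le_pow 3 q hq0; omega)
            _ = q ^ 3 * (2 * q) := by ring
            _ ≤ q ^ 3 * (8 * (q - 1)) := Nat.mul_le_mul_left _ (by omega)
            _ = _ := by ring
      _ = _ := by ring
  · by_cases he : e = 0
    · subst he
      have h4 : 4 ≤ q := by omega
      refine perpA_half hp hq h4 ((mul_bound hq2 hB2 ?_).trans (Nat.mul_le_mul_left 2 hTP)) ?_
      · calc (q ^ 3 + 1) * q ^ (2 * 0 + 6 + (0 + 3))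
            ≤ 2 * (q - 1) * q ^ (2 * 0 + 5 + (2 * 0 + 3) + 1 + 2) := by
              refine shift hq0 (x := 0) (y := 2) ?_ (by omega)
              rw [pow_zero, mul_one]
              obtain ⟨w, rfl⟩ : ∃ w, q = w + 4 := ⟨q - 4, by omega⟩
              rw [show w + 4 - 1 = w + 3 by omega]
              nlinarith [Nat.zero_le (w ^ 2), Nat.zero_le (w ^ 3)]
          _ = _ := by ring
      · refine le_trans ?_ (Nat.mul_le_mul_left _ hTP)
        norm_num
        calc (q ^ 6 + 1) * ((q ^ 3 - 1) * (q ^ 3 - 2))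
            ≤ (q ^ 6 + 1) * ((q ^ 3 - 1) * q ^ 3) :=
              Nat.mul_le_mul_left _ (Nat.mul_le_mul_left _ (Nat.sub_le _ _))
          _ = q ^ 3 * ((q ^ 6 + 1) * (q ^ 3 - 1)) := by ring
          _ ≤ q ^ 3 * q ^ 9 := by
              refine Nat.mul_le_mul_left _ ?_
              obtain ⟨c, hc⟩ : ∃ c, c = q ^ 3 := ⟨_, rfl⟩
              have hc1 : 1 ≤ c := hc ▸ Nat.one_le_pow 3 q hq0
              rw [show q ^ 6 = c * c by rw [hc]; ring, show q ^ 9 = c * c * c by rw [hc]; ring, ← hc]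
              obtain ⟨c', rfl⟩ : ∃ c', c = c' + 1 := ⟨c - 1, by omega⟩
              rw [Nat.add_sub_cancel]
              nlinarith
    · refine perpA_of ((mul_bound hq2 hB2 ?_).trans hTP)
      rcases hq24 with rfl | h4
      · calc (2 ^ 3 + 1) * 2 ^ (2 * e + 6 + (e + 3))
            ≤ (2 - 1) * 2 ^ (2 * e + 5 + (2 * e + 3) + 1 + 2) :=
              shift hq0 (x := 0) (y := 4) (by norm_num) (by omega)
          _ = _ := by ring
      · calc (q ^ 3 + 1) * q ^ (2 * e + 6 + (e + 3))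
            ≤ (q - 1) * q ^ (2 * e + 5 + (2 * e + 3) + 1 + 2) := by
              refine shift hq0 (x := 0) (y := 3) ?_ (by omega)
              rw [pow_zero, mul_one]
              calc q ^ 3 + 1 ≤ 2 * q ^ 3 := by have := Nat.one_le_pow 3 q hq0; omega
                _ ≤ _ := Nat.mul_le_mul_right _ (by omega)
          _ = _ := by ring
  · by_cases he : e = 0
    · subst he
      intro r hr hri
      have hTPe : (q - 1) * tPerp q S S₂ = (q - 1) * (S * (q * S₂)) := rfl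
      obtain ⟨w, rfl⟩ : ∃ w, q = w + 2 := ⟨q - 2, by omega⟩
      have eS : S = (w ^ 2 + 4 * w + 5) * (w ^ 3 + 6 * w ^ 2 + 12 * w + 7) := by
        norm_num at hS; ring_nf at hS ⊢; omega
      have eS₂ : S₂ = (w ^ 2 + 4 * w + 3) * (w + 3) := by
        norm_num at hS₂; ring_nf at hS₂ ⊢; omega
      rw [hTPe, eS, eS₂, show w + 2 - 1 = w + 1 by omega]
      interval_cases r
      · norm_num
        rw [show (w + 2) ^ 3 - 1 = w ^ 3 + 6 * w ^ 2 + 12 * w + 7 by ring_nf; omega,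
          show (w + 2) ^ 2 - 1 = w ^ 2 + 4 * w + 3 by ring_nf; omega,
          show (w + 2) ^ 2 - (w + 2) = (w + 1) * (w + 2) by ring_nf; omega]
        calc (w ^ 3 + 6 * w ^ 2 + 12 * w + 7) * ((w ^ 2 + 4 * w + 3) * ((w + 1) * (w + 2)))
            = ((w + 1) * ((w ^ 3 + 6 * w ^ 2 + 12 * w + 7) * ((w + 2) * (w ^ 2 + 4 * w + 3)))) * 1 := by ring
          _ ≤ ((w + 1) * ((w ^ 3 + 6 * w ^ 2 + 12 * w + 7) * ((w + 2) * (w ^ 2 + 4 * w + 3)))) *
              ((w ^ 2 + 4 * w + 5) * (w + 3)) :=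
              Nat.mul_le_mul_left _ (Nat.mul_pos (by omega) (by omega))
          _ = _ := by ring
      · norm_num
        rw [show (w + 2) ^ 4 - 1 = (w ^ 2 + 4 * w + 3) * (w ^ 2 + 4 * w + 5) by ring_nf; omega,
          show (w + 2) ^ 3 - 1 = w ^ 3 + 6 * w ^ 2 + 12 * w + 7 by ring_nf; omega,
          show (w + 2) ^ 3 - (w + 2) = (w + 1) * ((w + 2) * (w + 3)) by ring_nf; omega]
        exact le_of_eq (by ring)
    · refine sub_of (le_trans ?_ (Nat.mul_le_mul_left _ hTP))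
      rcases hq24 with rfl | h4
      · calc 2 ^ (3 * (e + 3) + 1) = 1 * 2 ^ (3 * (e + 3) + 1) := (one_mul _).symm
          _ ≤ (2 - 1) * 2 ^ (2 * e + 5 + (2 * e + 3) + 1) :=
              shift hq0 (x := 1) (y := 3) (by norm_num) (by omega)
          _ = _ := by ring
      · calc q ^ (3 * (e + 3) + 1) = 1 * q ^ (3 * (e + 3) + 1) := (one_mul _).symm
          _ ≤ (q - 1) * q ^ (2 * e + 5 + (2 * e + 3) + 1) :=
              shift hq0 (x := 0) (y := 0) (by simp; omega) (by omega)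
          _ = _ := by ring

/-- Minus type, dimension `2m`, `m = e + 4`. -/
theorem num_minus (hp : p.Prime) (hq : q = p ^ f) (hq2 : 2 ≤ q) (e : ℕ)
    (hS : S + 1 + q ^ (e + 3) = q ^ (2 * e + 5) + q ^ (e + 2))
    (hS₂ : S₂ + 1 + q ^ (e + 2) = q ^ (2 * e + 3) + q ^ (e + 1))
    (hB : B * (q - 1) + 1 + q ^ (e + 4) = q ^ (2 * e + 7) + q ^ (e + 3)) :
    Num q p (gq q) (2 * e + 6) (e + 2) B S S₂ := by
  by_cases hfin : (q = 2 ∧ e ≤ 2) ∨ (q = 3 ∧ e = 0)
  · rcases hfin with ⟨rfl, he⟩ | ⟨rfl, rfl⟩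
    · obtain rfl : p = 2 := by
        have h1 : p ∣ 2 := hq ▸ dvd_pow_self p (by rintro rfl; simp at hq)
        exact (Nat.prime_dvd_prime_iff_eq hp Nat.prime_two).1 h1
      interval_cases e
      · obtain rfl : B = 119 := by norm_num at hB; omega
        obtain rfl : S = 27 := by norm_num at hS; omega
        obtain rfl : S₂ = 5 := by norm_num at hS₂; omega
        exact num_of_check hp (by decide) (by decide) (by decide) (by decide) (by decide)
      · obtain rfl : B = 495 := by norm_num at hB; omega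
        obtain rfl : S = 119 := by norm_num at hS; omega
        obtain rfl : S₂ = 27 := by norm_num at hS₂; omega
        exact num_of_check hp (by decide) (by decide) (by decide) (by decide) (by decide)
      · obtain rfl : B = 2015 := by norm_num at hB; omega
        obtain rfl : S = 495 := by norm_num at hS; omega
        obtain rfl : S₂ = 119 := by norm_num at hS₂; omega
        exact num_of_check hp (by decide) (by decide) (by decide) (by decide) (by decide)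
    · obtain rfl : p = 3 := by
        have h1 : p ∣ 3 := hq ▸ dvd_pow_self p (by rintro rfl; simp at hq)
        exact (Nat.prime_dvd_prime_iff_eq hp Nat.prime_three).1 h1
      obtain rfl : B = 1066 := by norm_num at hB; omega
      obtain rfl : S = 224 := by norm_num at hS; omega
      obtain rfl : S₂ = 20 := by norm_num at hS₂; omega
      exact num_of_check hp (by decide) (by decide) (by decide) (by decide) (by decide)
  have hq0 : 0 < q := by omega
  have m1 : q ^ (e + 3) < q ^ (e + 4) := Nat.pow_lt_pow_right hq2 (by omega)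
  have m2 := pow_bound (n := 2 * e + 3) hq0 (show e + 3 ≤ 2 * e + 3 by omega)
  have m3 := pow_bound (n := 2 * e + 2) hq0 (show e + 2 ≤ 2 * e + 2 by omega)
  have m4 := Nat.one_le_pow (e + 2) q hq0
  have m5 := Nat.one_le_pow (e + 1) q hq0
  have hB1 : B * (q - 1) ≤ q ^ (2 * e + 6 + 1) := by
    rw [show 2 * e + 6 + 1 = 2 * e + 7 by ring]; omega
  have hB2 : B * (q - 1) * q ^ 2 ≤ (q ^ 3 + 1) * q ^ (2 * e + 6) := by
    calc B * (q - 1) * q ^ 2 ≤ q ^ (2 * e + 6 + 1) * q ^ 2 := Nat.mul_le_mul_right _ hB1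
      _ = q ^ 3 * q ^ (2 * e + 6) := by ring
      _ ≤ _ := Nat.mul_le_mul_right _ (by omega)
  have hSl : (q ^ 2 - 1) * q ^ (2 * e + 3) ≤ S := by
    rw [Nat.sub_mul, ← pow_add, one_mul, show 2 + (2 * e + 3) = 2 * e + 5 by ring]
    omega
  have hS₂l : (q - 1) * q ^ (2 * e + 2) ≤ S₂ := by
    rw [Nat.sub_mul, one_mul, ← pow_succ', show 2 * e + 2 + 1 = 2 * e + 3 by ring]
    omega
  have hTP := le_tPerp (κ := (q ^ 2 - 1) * (q - 1)) hSl hS₂l rfl
  have hSl' : (q ^ 2 - 1) * q ^ (2 * e + 6 - 3) ≤ S := by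
    rw [show 2 * e + 6 - 3 = 2 * e + 3 by omega]; exact hSl
  obtain ⟨hc1, hc2, hc3⟩ := cube_bound hq2
  refine ⟨lt_of hq2 hB1, sub_two (d := 2 * e + 6) hq2 (by omega) hSl', lp_of ?_ hq2, ?_,
    small_of (by omega) hq2 (gq_spec hq2).2.1 hB2 hSl', ?_, ?_, ?_⟩
  · have h1 : (q - 1) * q ^ (2 * e + 6) + q ^ (2 * e + 6) = q ^ (2 * e + 7) := by
      rw [← Nat.succ_mul, pow_succ' q (2 * e + 6)]
      congr 1
      omega
    have h2 : q * S + q + q ^ (e + 4) = q ^ (2 * e + 6) + q ^ (e + 3) := by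
      have := congrArg (q * ·) hS
      simp only [mul_add, mul_one] at this
      rw [← pow_succ', ← pow_succ', ← pow_succ'] at this
      exact this
    omega
  · rcases Nat.lt_or_ge q 4 with h4 | h4
    · interval_cases q
      · exact ns_bound hq2 (by omega) (gq_spec hq2).1 hB2 (d₀ := 12) (by omega) (by norm_num [gq])
      · exact ns_bound hq2 (by omega) (gq_spec hq2).1 hB2 (d₀ := 8) (by omega) (by norm_num [gq])
    · exact ns_bound hq2 (by omega) (gq_spec hq2).1 hB2 (d₀ := 6) (by omega) (poly_six h4)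
  · refine perpK_of ((mul_bound hq2 hB2 ?_).trans (Nat.mul_le_mul_left _ hTP))
    calc (q ^ 3 + 1) * q ^ (2 * e + 6 + 3 * (e + 2))
        ≤ (q ^ 2 - 1) * (q - 1) * (q - 1) * q ^ (2 * e + 6 + (2 * e + 3 + (2 * e + 2) + 1) + 2) :=
          shift hq0 (x := 0) (y := 2) (by simpa using hc1) (by omega)
      _ = _ := by ring
  · refine perpA_of ((mul_bound hq2 hB2 ?_).trans hTP)
    calc (q ^ 3 + 1) * q ^ (2 * e + 6 + (e + 2))
        ≤ (q ^ 2 - 1) * (q - 1) * (q - 1) * q ^ (2 * e + 3 + (2 * e + 2) + 1 + 2) := by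
          rcases Nat.lt_or_ge q 3 with h3 | h3
          · exact shift hq0 (x := 0) (y := 2) (by simpa using hc1) (by omega)
          · exact shift hq0 (x := 0) (y := 0) (by simpa using hc3 h3) (by omega)
      _ = _ := by ring
  · refine sub_of (le_trans ?_ (Nat.mul_le_mul_left _ hTP))
    calc q ^ (3 * (e + 2) + 1) = 1 * q ^ (3 * (e + 2) + 1) := (one_mul _).symm
      _ ≤ (q ^ 2 - 1) * (q - 1) * (q - 1) * q ^ (2 * e + 3 + (2 * e + 2) + 1) :=
          shift hq0 (x := 1) (y := 0) (by simpa using hc2) (by omega)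
      _ = _ := by ring

end CfsgLib.MinIndexOrth
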