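import Cfsg.Agent.Lib.Classical.Quad.StandardForms
import Cfsg.Agent.Lib.Classical.Quad.PlusMinusType

/-!
Numbers of vectors of a non-zero value for the standard forms.
-/

set_option autoImplicit false

namespace CfsgLib.MinIndexOrth

open CfsgLib.Classical.Quad
open scoped _root_.Classical

variable {F : Type*} [Field F]

theorem card_value_congr [Finite F] {V W : Type*} [AddCommGroup V] [Module F V] [Finite V]
    [AddCommGroup W] [Module F W] (Q : QuadraticForm F V) (Q' : QuadraticForm F W)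
    (e : W ≃ₗ[F] F × F × V) (h : ∀ w, hyp Q (e w) = Q' w) (c : F) :
    Nat.card {w : W // Q' w = c} =
      Nat.card F * Nat.card {u : V // Q u = c} + (Nat.card F - 1) * Nat.card V := by
  have h1 := card_zero_hyp (F := F) fun u : V => Q u - c
  simp only [sub_eq_zero] at h1
  rw [← h1]
  refine Nat.card_congr (e.toEquiv.subtypeEquiv fun w => ?_)
  show _ ↔ (e w).1 * (e w).2.1 + (Q (e w).2.2 - c) = 0
  rw [← add_sub_assoc, ← hyp_apply, h, sub_eq_zero]

theorem value_plus [Fintype F] {q : ℕ} (hF : Fintype.card F = q) (m : ℕ) {c : F} (hc : c ≠ 0) :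
    (Nat.card {v : Fin m ⊕ Fin m → F // qPlus m F v = c} : ℤ) * q + (q : ℤ) ^ m =
      (q : ℤ) ^ (2 * m) := by
  induction m with
  | zero =>
    have : IsEmpty {v : Fin 0 ⊕ Fin 0 → F // qPlus 0 F v = c} :=
      ⟨fun v => hc (by rw [← v.2]; simp [coe_qPlus, Cfsg.quadFormPlus])⟩
    simp
  | succ m ih =>
    have hq1 : 1 ≤ q := hF ▸ Fintype.card_pos
    rw [card_value_congr (qPlus m F) (qPlus (m + 1) F) (plusSplit m F) (plusSplit_preserves m) c,
      Nat.card_fun, Nat.card_eq_fintype_card (α := F), hF,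
      Nat.card_eq_fintype_card (α := Fin m ⊕ Fin m), Fintype.card_sum, Fintype.card_fin]
    push_cast [Nat.cast_sub hq1]
    linear_combination (q : ℤ) * ih

theorem value_odd [Fintype F] {q : ℕ} (hF : Fintype.card F = q) (m : ℕ) (c : F) :
    (Nat.card {v : Unit ⊕ (Fin m ⊕ Fin m) → F // qOdd m F v = c} : ℤ) + (q : ℤ) ^ m =
      (q : ℤ) ^ (2 * m) + Nat.card {x : F // x * x = c} * (q : ℤ) ^ m := by
  induction m with
  | zero =>
    have e : {v : Unit ⊕ (Fin 0 ⊕ Fin 0) → F // qOdd 0 F v = c} ≃ {x : F // x * x = c} :=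
      { toFun := fun v => ⟨v.1 (Sum.inl ()), by
          have := v.2
          simpa [coe_qOdd, Cfsg.quadFormOdd, sq] using this⟩
        invFun := fun x => ⟨fun _ => x.1, by simp [coe_qOdd, Cfsg.quadFormOdd, sq, x.2]⟩
        left_inv := fun v => by
          apply Subtype.ext
          funext i
          rcases i with ⟨⟩ | i | i
          · rfl
          · exact i.elim0
          · exact i.elim0
        right_inv := fun _ => rfl }
    rw [Nat.card_congr e]
    simp
    ring
  | succ m ih =>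
    have hq1 : 1 ≤ q := hF ▸ Fintype.card_pos
    rw [card_value_congr (qOdd m F) (qOdd (m + 1) F) (oddSplit m F) (oddSplit_preserves m) c,
      Nat.card_fun, Nat.card_eq_fintype_card (α := F), hF,
      Nat.card_eq_fintype_card (α := Unit ⊕ (Fin m ⊕ Fin m)), Fintype.card_sum, Fintype.card_sum,
      Fintype.card_fin, Fintype.card_unit]
    push_cast [Nat.cast_sub hq1]
    linear_combination (q : ℤ) * ih

theorem le_card_qBin [Fintype F] {q : ℕ} (hF : Fintype.card F = q) {a b : F}
    (hab : ∀ z₁ z₂ : F, z₁ ^ 2 + a * z₁ * z₂ + b * z₂ ^ 2 = 0 → z₁ = 0 ∧ z₂ = 0) {c : F}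
    (hc : c ≠ 0) : q + 1 ≤ Nat.card {z : Fin 2 → F // qBin a b z = c} := by
  obtain ⟨z₀, hz₀⟩ := exists_qBin_value hab c
  rw [← card_qBin_one hF hab]
  let mulV : (Fin 2 → F) → (Fin 2 → F) := fun w =>
    ![z₀ 0 * w 0 - b * z₀ 1 * w 1, z₀ 0 * w 1 + z₀ 1 * w 0 + a * z₀ 1 * w 1]
  have hmul : ∀ w, qBin a b (mulV w) = qBin a b z₀ * qBin a b w := fun w => by
    simp [mulV, qBin_apply]
    ring
  refine Nat.card_le_card_of_injective (fun w => ⟨mulV w.1, by rw [hmul, hz₀, w.2, mul_one]⟩) ?_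
  intro w w' e
  have e' : mulV w.1 = mulV w'.1 := congrArg Subtype.val e
  have hd : mulV (w.1 - w'.1) = 0 := by
    have : mulV (w.1 - w'.1) = mulV w.1 - mulV w'.1 := by
      funext i; fin_cases i <;> simp [mulV] <;> ring
    rw [this, e', sub_self]
  have h2 := hmul (w.1 - w'.1)
  rw [hd, QuadraticMap.map_zero, hz₀] at h2
  have h3 := (mul_eq_zero.1 h2.symm).resolve_left hc
  rw [qBin_apply] at h3
  obtain ⟨h0, h1⟩ := hab _ _ h3
  refine Subtype.ext (sub_eq_zero.1 ?_)
  funext i; fin_cases i <;> assumption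

theorem value_minus [Fintype F] {q : ℕ} (hF : Fintype.card F = q) (k : ℕ) {a b : F}
    (hab : ∀ z₁ z₂ : F, z₁ ^ 2 + a * z₁ * z₂ + b * z₂ ^ 2 = 0 → z₁ = 0 ∧ z₂ = 0) {c : F}
    (hc : c ≠ 0) :
    q ^ (2 * k + 1) + q ^ k ≤
      Nat.card {v : (Fin k ⊕ Fin k) ⊕ Fin 2 → F // qMinus k F a b v = c} := by
  induction k with
  | zero =>
    refine le_trans (le_of_eq (by simp)) ((le_card_qBin hF hab hc).trans ?_)
    refine Nat.card_le_card_of_injective (fun z => ⟨Sum.elim (fun i => 0) z.1, ?_⟩) ?_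
    · simp [coe_qMinus, Cfsg.quadFormMinus, ← qBin_apply, z.2]
    · intro z z' e
      exact Subtype.ext (funext fun i => congrFun (congrArg Subtype.val e) (Sum.inr i))
  | succ k ih =>
    rw [card_value_congr (qMinus k F a b) (qMinus (k + 1) F a b) (minusSplit k F)
      (minusSplit_preserves k a b) c,
      Nat.card_fun, Nat.card_eq_fintype_card (α := F), hF,
      Nat.card_eq_fintype_card (α := (Fin k ⊕ Fin k) ⊕ Fin 2), Fintype.card_sum, Fintype.card_sum,
      Fintype.card_fin, Fintype.card_fin]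
    have hq1 : 1 ≤ q := hF ▸ Fintype.card_pos
    have h1 := Nat.mul_le_mul_left q ih
    have h2 : q ^ (2 * (k + 1) + 1) + q ^ (k + 1) =
        q * (q ^ (2 * k + 1) + q ^ k) + (q - 1) * q ^ (k + k + 2) := by
      zify [hq1]; ring
    omega

end CfsgLib.MinIndexOrth
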