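import Cfsg.Agent.Lib.Known.MinIndexOrth.Build
import Cfsg.Agent.Lib.Known.MinIndexOrth.Values
import Cfsg.Agent.Lib.Known.MinIndexOrth.NumCases

/-!
The minimal index of a proper subgroup of the orthogonal groups of the three standard families.
-/

set_option autoImplicit false

namespace CfsgLib.MinIndexOrth

open CfsgLib.Classical.Quad
open QuadraticMap (polar polarBilin)
open scoped _root_.Classical

noncomputable section

variable {F : Type*} [Field F] [Fintype F] {q : ℕ}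

theorem field_data (hF : Fintype.card F = q) :
    2 ≤ q ∧ Nat.card F = q ∧ ∃ p f, p.Prime ∧ CharP F p ∧ q = p ^ f := by
  refine ⟨hF ▸ Fintype.one_lt_card, by rw [Nat.card_eq_fintype_card, hF], ?_⟩
  obtain ⟨n, hp, hn⟩ := FiniteField.card F (ringChar F)
  exact ⟨ringChar F, n, hp, ringChar.charP F, hF ▸ hn⟩

theorem gq_cases (hF : Fintype.card F = q) : gq q = 2 ∨ ((2 : F) = 0 ∧ gq q = 1) := by
  unfold gq
  split
  next h =>
    refine Or.inr ⟨?_, rfl⟩
    have := FiniteField.even_card_iff_char_two.2 (hF.symm ▸ h)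
    exact (ringChar.eq_iff.1 this).cast_eq_zero
  next h => exact Or.inl rfl

theorem card_sq_one (h2 : (2 : F) ≠ 0) : Nat.card {b : F // b * b = 1} = 2 := by
  refine le_antisymm card_sq_one_le_two ?_
  rw [show 2 = Nat.card Bool by simp]
  refine Nat.card_le_card_of_injective
    (fun b => if b then (⟨1, one_mul 1⟩ : {b : F // b * b = 1}) else ⟨-1, by ring⟩) ?_
  have hne : (1 : F) ≠ -1 := fun e => h2 (by linear_combination e)
  intro a b e
  cases a <;> cases b <;> simp at e ⊢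
  · exact hne e.symm
  · exact hne e

theorem big_qOdd (h2 : (2 : F) ≠ 0) (e : ℕ) : Big (qOdd (e + 3) F) :=
  ⟨qOdd_nondeg h2 _, by simp [Module.finrank_pi]; omega⟩

theorem finrank_qOdd (e : ℕ) :
    Module.finrank F (Unit ⊕ (Fin (e + 3) ⊕ Fin (e + 3)) → F) = 2 * e + 7 := by
  simp [Module.finrank_pi]; omega

theorem finrank_qPlus (e : ℕ) :
    Module.finrank F (Fin (e + 4) ⊕ Fin (e + 4) → F) = 2 * e + 8 := by
  simp [Module.finrank_pi]; omega

theorem finrank_qMinus (e : ℕ) :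
    Module.finrank F ((Fin (e + 3) ⊕ Fin (e + 3)) ⊕ Fin 2 → F) = 2 * e + 8 := by
  simp [Module.finrank_pi]; omega

theorem le_index_odd (hF : Fintype.card F = q) (hodd : Odd q) (h3 : 3 ≤ q) (e : ℕ) {B : ℕ}
    (hB : if q = 3 then 2 * B + q ^ (e + 3) = q ^ (2 * e + 6) else B * (q - 1) + 1 = q ^ (2 * e + 6))
    {H : Subgroup (commutator (OQ (qOdd (e + 3) F)))} (hH : H ≠ ⊤) : B ≤ H.index := by
  have h2 := two_ne_zero_of_odd hF hodd
  obtain ⟨hq2, hcard, p, f, hp, hchar, hqp⟩ := field_data hF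
  have hd := finrank_qOdd (F := F) e
  have hg : gq q = 2 := by rw [gq, if_neg (by rw [Nat.odd_iff] at hodd; omega)]
  obtain ⟨S, hS⟩ : ∃ S, S + 1 = q ^ (2 * e + 4) :=
    ⟨_, Nat.sub_add_cancel (Nat.one_le_pow _ _ (by omega))⟩
  obtain ⟨S₂, hS₂⟩ : ∃ S, S + 1 = q ^ (2 * e + 2) :=
    ⟨_, Nat.sub_add_cancel (Nat.one_le_pow _ _ (by omega))⟩
  have hsplit : ∀ k, q ^ (k + 1) = q * q ^ k := fun k => pow_succ' q k
  have hsucc : ∀ x, q * x = x + (q - 1) * x := fun x => by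
    conv_lhs => rw [show q = 1 + (q - 1) by omega, add_mul, one_mul]
  have hctx : Ctx (qOdd (e + 3) F) p 2 (e + 2) S S₂ := by
    refine Ctx.mk' (big_qOdd h2 e) hp hchar (fun _ => h2) (Or.inl rfl) ?_ ?_ ?_
    · simp only [coe_qOdd]
      rw [card_zero_odd hF, hd, hS, hcard, show 2 * (e + 3) = 2 * e + 5 + 1 by ring, hsplit,
        ← hsplit (2 * e + 4), show 2 * e + 7 - 2 = 2 * e + 5 by omega]
      exact hsucc _
    · rw [hS, hS₂, hd, hcard, show 2 * e + 4 = 2 * e + 3 + 1 by ring, hsplit,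
        ← hsplit (2 * e + 2), show 2 * e + 7 - 4 = 2 * e + 3 by omega]
      exact hsucc _
    · intro E hE
      have := two_mul_finrank_le (qOdd_nondeg h2 (e + 3)) hE
      omega
  refine hctx.le_index (B := B) ?_ ?_ hH
  · rw [hd, hcard, show 2 * e + 7 - 2 = 2 * e + 5 by omega]
    exact num_odd hp hqp hodd h3 e hS hS₂ hB
  · intro c hc
    refine ⟨fun h => absurd h h2, fun _ => ?_⟩
    have hv := value_odd hF (e + 3) c
    have hv1 : q ^ (2 * e + 6) ≤
        Nat.card {v // qOdd (e + 3) F v = c} + q ^ (e + 3) := by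
      have : (q : ℤ) ^ (2 * (e + 3)) ≤
          (Nat.card {v // qOdd (e + 3) F v = c} : ℤ) + (q : ℤ) ^ (e + 3) := by
        rw [hv]; exact le_add_of_nonneg_right (by positivity)
      rw [show 2 * e + 6 = 2 * (e + 3) by ring]
      exact_mod_cast this
    split_ifs at hB with h
    · omega
    · have h5 : 5 ≤ q := by rw [Nat.odd_iff] at hodd; omega
      have h4 : B * 4 ≤ B * (q - 1) := Nat.mul_le_mul_left _ (by omega)
      have h6 : q ^ (e + 3) * 2 ≤ q ^ (2 * e + 6) := by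
        rw [show 2 * e + 6 = e + 3 + (e + 3) by ring, pow_add q (e + 3) (e + 3)]
        refine Nat.mul_le_mul_left _ ?_
        calc 2 ≤ q ^ 1 := by rw [pow_one]; exact hq2
          _ ≤ _ := Nat.pow_le_pow_right (by omega) (by omega)
      omega

theorem le_index_plus (hF : Fintype.card F = q) (hq24 : q = 2 ∨ 4 ≤ q) (e : ℕ) {B : ℕ}
    (hB : if q = 2 then B + q ^ (e + 3) = q ^ (2 * e + 7)
      else B * (q - 1) + 1 + q ^ (e + 3) = q ^ (2 * e + 7) + q ^ (e + 4))
    {H : Subgroup (commutator (OQ (qPlus (e + 4) F)))} (hH : H ≠ ⊤) : B ≤ H.index := by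
  obtain ⟨hq2, hcard, p, f, hp, hchar, hqp⟩ := field_data hF
  have hq0 : 0 < q := by omega
  have hd := finrank_qPlus (F := F) e
  obtain ⟨S, hS⟩ : ∃ S, S + 1 + q ^ (e + 2) = q ^ (2 * e + 5) + q ^ (e + 3) := by
    refine ⟨q ^ (2 * e + 5) + q ^ (e + 3) - 1 - q ^ (e + 2), ?_⟩
    have := Nat.pow_lt_pow_right hq2 (show e + 2 < e + 3 by omega)
    omega
  obtain ⟨S₂, hS₂⟩ : ∃ S, S + 1 + q ^ (e + 1) = q ^ (2 * e + 3) + q ^ (e + 2) := by
    refine ⟨q ^ (2 * e + 3) + q ^ (e + 2) - 1 - q ^ (e + 1), ?_⟩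
    have := Nat.pow_lt_pow_right hq2 (show e + 1 < e + 2 by omega)
    omega
  have hS' : (S : ℤ) + 1 + (q : ℤ) ^ (e + 2) = (q : ℤ) ^ (2 * e + 5) + (q : ℤ) ^ (e + 3) := by
    exact_mod_cast hS
  have hS₂' : (S₂ : ℤ) + 1 + (q : ℤ) ^ (e + 1) = (q : ℤ) ^ (2 * e + 3) + (q : ℤ) ^ (e + 2) := by
    exact_mod_cast hS₂
  have hctx : Ctx (qPlus (e + 4) F) p (gq q) (e + 3) S S₂ := by
    refine Ctx.mk' ⟨qPlus_nondeg _, by omega⟩ hp hchar (fun h => by omega) (gq_cases hF) ?_ ?_ ?_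
    · rw [hd, hcard, show 2 * e + 8 - 2 = 2 * e + 6 by omega]
      have h := card_zero_plus hF (e + 4)
      simp only [coe_qPlus]
      zify [show 1 ≤ q by omega]
      refine mul_right_cancel₀ (b := (q : ℤ)) (by exact_mod_cast hq0.ne') ?_
      rw [h]
      linear_combination (-(q : ℤ) ^ 2) * hS'
    · rw [hd, hcard, show 2 * e + 8 - 4 = 2 * e + 4 by omega]
      zify [show 1 ≤ q by omega]
      linear_combination hS' - (q : ℤ) * hS₂'
    · intro E hE
      have := two_mul_finrank_le (qPlus_nondeg (e + 4)) hE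
      omega
  refine hctx.le_index (B := B) ?_ ?_ hH
  · rw [hd, hcard, show 2 * e + 8 - 2 = 2 * e + 6 by omega]
    exact num_plus hp hqp hq24 e hS hS₂ hB
  · intro c hc
    have hv := value_plus hF (e + 4) hc
    obtain ⟨N, hN⟩ : ∃ N, N = Nat.card {v // qPlus (e + 4) F v = c} := ⟨_, rfl⟩
    rw [← hN] at hv ⊢
    have hv1 : N + q ^ (e + 3) = q ^ (2 * e + 7) := by
      refine Nat.eq_of_mul_eq_mul_right hq0 ?_
      have : N * q + q ^ (e + 4) = q ^ (2 * (e + 4)) := by exact_mod_cast hv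
      rw [add_mul, ← pow_succ, ← pow_succ, show 2 * e + 7 + 1 = 2 * (e + 4) by ring]
      exact this
    rcases hq24 with rfl | h4
    · rw [if_pos rfl] at hB
      refine ⟨fun _ => by omega, fun h => absurd ?_ h⟩
      have : ((2 : ℕ) : F) = 0 := by rw [← hF]; exact FiniteField.cast_card_eq_zero F
      exact_mod_cast this
    · rw [if_neg (by omega)] at hB
      have h3 : B * 3 ≤ B * (q - 1) := Nat.mul_le_mul_left _ (by omega)
      have h5 : q ^ (e + 4) * 4 ≤ q ^ (2 * e + 7) := by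
        rw [show 2 * e + 7 = e + 4 + (e + 3) by ring, pow_add q (e + 4) (e + 3)]
        refine Nat.mul_le_mul_left _ (le_trans h4 ?_)
        conv_lhs => rw [← pow_one q]
        exact Nat.pow_le_pow_right hq0 (by omega)
      have h6 : q ^ (e + 3) * 4 ≤ q ^ (e + 4) := by
        rw [pow_succ q (e + 3)]
        exact Nat.mul_le_mul_left _ h4
      exact ⟨fun _ => by omega, fun _ => by omega⟩

theorem le_index_minus (hF : Fintype.card F = q) {a b : F}
    (hab : ∀ z₁ z₂ : F, z₁ ^ 2 + a * z₁ * z₂ + b * z₂ ^ 2 = 0 → z₁ = 0 ∧ z₂ = 0) (e : ℕ) {B : ℕ}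
    (hB : B * (q - 1) + 1 + q ^ (e + 4) = q ^ (2 * e + 7) + q ^ (e + 3))
    {H : Subgroup (commutator (OQ (qMinus (e + 3) F a b)))} (hH : H ≠ ⊤) : B ≤ H.index := by
  obtain ⟨hq2, hcard, p, f, hp, hchar, hqp⟩ := field_data hF
  have hq0 : 0 < q := by omega
  have hd := finrank_qMinus (F := F) e
  have h53 := Nat.pow_le_pow_right hq0 (show e + 3 ≤ 2 * e + 5 by omega)
  have h32 := Nat.pow_le_pow_right hq0 (show e + 2 ≤ 2 * e + 3 by omega)
  have h20 := Nat.one_le_pow (e + 2) q hq0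
  have h10 := Nat.one_le_pow (e + 1) q hq0
  obtain ⟨S, hS⟩ : ∃ S, S + 1 + q ^ (e + 3) = q ^ (2 * e + 5) + q ^ (e + 2) := by
    refine ⟨q ^ (2 * e + 5) + q ^ (e + 2) - 1 - q ^ (e + 3), ?_⟩
    omega
  obtain ⟨S₂, hS₂⟩ : ∃ S, S + 1 + q ^ (e + 2) = q ^ (2 * e + 3) + q ^ (e + 1) := by
    refine ⟨q ^ (2 * e + 3) + q ^ (e + 1) - 1 - q ^ (e + 2), ?_⟩
    omega
  have hS' : (S : ℤ) + 1 + (q : ℤ) ^ (e + 3) = (q : ℤ) ^ (2 * e + 5) + (q : ℤ) ^ (e + 2) := by
    exact_mod_cast hS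
  have hS₂' : (S₂ : ℤ) + 1 + (q : ℤ) ^ (e + 2) = (q : ℤ) ^ (2 * e + 3) + (q : ℤ) ^ (e + 1) := by
    exact_mod_cast hS₂
  have hctx : Ctx (qMinus (e + 3) F a b) p (gq q) (e + 2) S S₂ := by
    refine Ctx.mk' ⟨qMinus_nondeg hab _, by omega⟩ hp hchar (fun h => by omega) (gq_cases hF) ?_ ?_ ?_
    · rw [hd, hcard, show 2 * e + 8 - 2 = 2 * e + 6 by omega]
      have h := card_zero_minus hF (e + 3) hab
      simp only [coe_qMinus]
      zify [show 1 ≤ q by omega]
      rw [h]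
      linear_combination (-(q : ℤ)) * hS'
    · rw [hd, hcard, show 2 * e + 8 - 4 = 2 * e + 4 by omega]
      zify [show 1 ≤ q by omega]
      linear_combination hS' - (q : ℤ) * hS₂'
    · exact fun E hE => qMinus_no_half hab (e + 3) E hE
  refine hctx.le_index (B := B) ?_ ?_ hH
  · rw [hd, hcard, show 2 * e + 8 - 2 = 2 * e + 6 by omega]
    exact num_minus hp hqp hq2 e hS hS₂ hB
  · intro c hc
    have hv := value_minus hF (e + 3) hab hc
    rw [show 2 * (e + 3) + 1 = 2 * e + 7 by ring] at hv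
    have h1 : B * (q - 1) ≤ Nat.card {v // qMinus (e + 3) F a b v = c} := by omega
    refine ⟨fun _ => le_trans (Nat.le_mul_of_pos_right _ (by omega)) h1, fun h => ?_⟩
    have h3 : 3 ≤ q := by
      by_contra hlt
      refine h ?_
      have : ((2 : ℕ) : F) = 0 := by
        rw [show 2 = Fintype.card F by omega]; exact FiniteField.cast_card_eq_zero F
      exact_mod_cast this
    have h4 : B * 2 ≤ B * (q - 1) := Nat.mul_le_mul_left _ (by omega)
    omega

end

end CfsgLib.MinIndexOrth
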