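import Cfsg.Agent.Lib.Known.MinIndexOrth.Basic

/-!
The singular points whose Eichler groups lie in a proper subgroup are pairwise perpendicular.
-/

set_option autoImplicit false

namespace CfsgLib.MinIndexOrth

open CfsgLib.Classical.Quad
open QuadraticMap (polar polarBilin)

noncomputable section

variable {F : Type*} [Field F] {V : Type*} [AddCommGroup V] [Module F V] [FiniteDimensional F V]
  [Finite F] {Q : QuadraticForm F V} {H : Subgroup (commutator (OQ Q))}

theorem ap_move_partner (hb : Big Q) {z y y' : V} (hz : Q z = 0) (hy : Q y = 0) (hy' : Q y' = 0)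
    (hzy : polar Q z y = 1) (hzy' : polar Q z y' = 1) : ap (El Q z (y - y')) y = y' := by
  have ha : polar Q z (y - y') = 0 := by rw [QuadraticMap.polar_sub_right, hzy, hzy', sub_self]
  have hq : Q (y - y') = -polar Q y y' := by
    rw [sub_eq_add_neg, apply_add, QuadraticMap.map_neg, QuadraticMap.polar_neg_right, hy, hy']
    ring
  rw [ap_El hb hz ha, hq, QuadraticMap.polar_sub_right, polar_self', hy,
    QuadraticMap.polar_comm (⇑Q) y z, hzy]
  module

theorem Full.spread (hb : Big Q) {u v w : V} (hu : Full H u) (hv : Full H v)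
    (huv : polar Q u v ≠ 0) (hw : Q w = 0) (huw : polar Q u w ≠ 0) : Full H w := by
  have hy : Full H ((polar Q u v)⁻¹ • v) := hv.smul hb (inv_ne_zero huv)
  have h1 : polar Q u ((polar Q u v)⁻¹ • v) = 1 := by rw [polar_smul_right', inv_mul_cancel₀ huv]
  have h2 : polar Q u ((polar Q u w)⁻¹ • w) = 1 := by rw [polar_smul_right', inv_mul_cancel₀ huw]
  have h3 : El Q u ((polar Q u v)⁻¹ • v - (polar Q u w)⁻¹ • w) ∈ H :=
    hu.2.2 _ (by rw [QuadraticMap.polar_sub_right, h1, h2, sub_self])
  have h4 := hy.map hb h3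
  rw [ap_move_partner hb hu.2.1 hy.2.1 (by rw [apply_smul, hw, mul_zero]) h1 h2] at h4
  have h5 := h4.smul hb huw
  rwa [smul_smul, mul_inv_cancel₀ huw, one_smul] at h5

theorem Full.eq_top (hb : Big Q) {u v : V} (hu : Full H u) (hv : Full H v)
    (huv : polar Q u v ≠ 0) : H = ⊤ := by
  have key : ∀ w, w ≠ 0 → Q w = 0 → Full H w := by
    intro w hw0 hw
    by_cases huw : polar Q u w = 0
    swap
    · exact hu.spread hb hv huv hw huw
    by_cases hli : LinearIndependent F ![u, w]
    · obtain ⟨z, hz, hzu, hzw⟩ := exists_common_partner hb.nd hb.five hu.2.1 hw hli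
      have hz' : Full H z := hu.spread hb hv huv hz (by
        rw [QuadraticMap.polar_comm, hzu]; exact one_ne_zero)
      exact hz'.spread hb hu (by rw [hzu]; exact one_ne_zero) hw (by rw [hzw]; exact one_ne_zero)
    · rw [LinearIndependent.pair_iff' hu.1] at hli
      push Not at hli
      obtain ⟨c, rfl⟩ := hli
      exact hu.smul hb fun h => hw0 (by rw [h, zero_smul])
  rw [eq_top_iff, ← closure_El hb, Subgroup.closure_le]
  rintro _ ⟨w, x, hw, hx, rfl⟩
  by_cases hw0 : w = 0
  · subst hw0
    rw [El_zero_left hb]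
    exact H.one_mem
  exact (key w hw0 hw).2.2 x hx

end

end CfsgLib.MinIndexOrth
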