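import Cfsg.Agent.Lib.Known.MinIndexOrth.Types

/-!
A proper subgroup with a full point moves a totally singular subspace far.
-/

set_option autoImplicit false

namespace CfsgLib.MinIndexOrth

open CfsgLib.Classical.Quad
open QuadraticMap (polar polarBilin)
open scoped _root_.Classical

noncomputable section

variable {F : Type*} [Field F] {V : Type*} [AddCommGroup V] [Module F V] [FiniteDimensional F V]
  [Finite F] {Q : QuadraticForm F V} {H : Subgroup (commutator (OQ Q))} {p g i B S S₂ : ℕ}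

/-- The pairs of independent vectors of a subspace. -/
theorem card_span_pairs_le (U : Submodule F V) :
    Nat.card {q : V × V // q.1 ∈ U ∧ q.2 ∈ U ∧ q.1 ≠ 0 ∧ q.2 ∉ Submodule.span F ({q.1} : Set V)} ≤
      (Nat.card U - 1) * (Nat.card U - Nat.card F) := by
  have : Finite V := Module.finite_of_finite F
  let A : Type _ := {x : V // x ∈ U ∧ x ≠ 0}
  let X := fun a : A => {y : V // y ∈ U ∧ y ∉ Submodule.span F ({(a : V)} : Set V)}
  have h1 : ∀ a : A, Nat.card (X a) ≤ Nat.card U - Nat.card F := by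
    intro a
    have hinj : Function.Injective (Sum.elim
        (fun c : F => (⟨c • (a : V), U.smul_mem c a.2.1⟩ : U))
        (fun y : X a => (⟨(y : V), y.2.1⟩ : U))) := by
      rintro (c | y) (c' | y') e <;> have e' := congrArg Subtype.val e <;>
        simp only [Sum.elim_inl, Sum.elim_inr] at e'
      · exact congrArg Sum.inl (smul_left_injective F a.2.2 e')
      · exact absurd (Submodule.mem_span_singleton.2 ⟨c, e'⟩) y'.2.2
      · exact absurd (Submodule.mem_span_singleton.2 ⟨c', e'.symm⟩) y.2.2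
      · exact congrArg Sum.inr (Subtype.ext e')
    have h2 := Nat.card_le_card_of_injective _ hinj
    rw [Nat.card_sum] at h2
    omega
  have hA : Nat.card A = Nat.card U - 1 := card_ne_zero U.toAddSubgroup
  refine le_trans (Nat.card_le_card_of_injective (β := Σ a : A, X a)
    (fun q => ⟨⟨q.1.1, q.2.1, q.2.2.2.1⟩, q.1.2, q.2.2.1, q.2.2.2.2⟩) ?_) ?_
  · intro q q' e
    exact Subtype.ext (congrArg (fun s : Σ a : A, X a => ((s.1 : V), (s.2 : V))) e :)
  · have := Fintype.ofFinite A
    rw [Nat.card_sigma, ← hA, Nat.card_eq_fintype_card (α := A)]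
    exact (Finset.sum_le_card_nsmul _ _ _ fun a _ => h1 a).trans
      (by rw [Finset.card_univ, smul_eq_mul])

/-- A proper subgroup with a full point has large index. -/
theorem Ctx.full_bound (h : Ctx Q p g i S S₂)
    (num : Num (Nat.card F) p g (Module.finrank F V - 2) i B S S₂) (hH : H ≠ ⊤) {u : V}
    (hf : Full H u) : B ≤ H.index := by
  have hb := h.big
  have : Finite V := Module.finite_of_finite F
  have := finite_OQ (Q := Q)
  obtain ⟨hqpos, -⟩ := h.scalars
  obtain ⟨J, hJdef⟩ : ∃ J, J = Submodule.span F {x | Full H x} := ⟨_, rfl⟩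
  have hsing : ∀ x ∈ J, Q x = 0 := fun x hx => singular_span (T := {x | Full H x})
    (fun y hy => hy.2.1)
    (fun y hy z hz => by
      by_contra hne
      exact hH (Full.eq_top hb hy hz hne))
    (hJdef ▸ hx)
  have hinv : ∀ k ∈ H, ∀ x ∈ J, ap k x ∈ J := by
    intro k hk x hx
    have h1 : J ≤ J.comap (ap k).toLinearMap := by
      conv_lhs => rw [hJdef]
      refine Submodule.span_le.2 fun y hy => ?_
      show ap k y ∈ J
      rw [hJdef]
      exact Submodule.subset_span (hy.map hb hk)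
    exact h1 hx
  have huJ : u ∈ J := hJdef ▸ Submodule.subset_span hf
  have hu : Q u = 0 := hf.2.1
  have hu0 : u ≠ 0 := hf.1
  have hJu : ∀ x ∈ J, polar Q u x = 0 := fun x hx => by
    rw [QuadraticMap.polar, hsing _ (J.add_mem huJ hx), hsing x hx, hu]; ring
  -- below the number of points
  suffices hP : (PS Q u).index ≤ H.index by
    have := h.card_points hu hu0
    have hB := num.le_points
    rw [← this] at hB
    have := Nat.lt_of_mul_lt_mul_right hB
    omega
  obtain ⟨v, hv, huv⟩ := exists_partner_of_singular hb.nd hu hu0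
  obtain ⟨J', hJ'⟩ : ∃ J', J' = J ⊓ WW Q u v := ⟨_, rfl⟩
  have hproj : ∀ x ∈ J, x - polar Q v x • u ∈ J' := fun x hx => hJ' ▸
    ⟨J.sub_mem hx (J.smul_mem _ huJ), sub_smul_mem_WW hu huv (hJu x hx)⟩
  by_cases h1 : J' = ⊥
  · refine Nat.le_of_dvd (Nat.pos_of_ne_zero Subgroup.index_ne_zero_of_finite)
      (Subgroup.index_dvd_of_le fun k hk => ?_)
    have hk0 := hproj _ (hinv k hk u huJ)
    rw [h1, Submodule.mem_bot, sub_eq_zero] at hk0
    exact mem_PS.2 ⟨polar Q v (ap k u), fun e => hu0 ((ap k).injective (by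
      rw [map_zero, hk0, e, zero_smul])), hk0⟩
  obtain ⟨a, haJ', ha0⟩ := J'.exists_mem_ne_zero_of_ne_bot h1
  have haJ : a ∈ J := (hJ' ▸ haJ' : a ∈ J ⊓ WW Q u v).1
  have haW : a ∈ WW Q u v := (hJ' ▸ haJ' : a ∈ J ⊓ WW Q u v).2
  have hJ'J : J' ≤ J := hJ' ▸ inf_le_left
  have hJ'W : J' ≤ WW Q u v := hJ' ▸ inf_le_right
  obtain ⟨f, hfdef⟩ : ∃ f : F → F, f = fun _ => 1 := ⟨_, rfl⟩
  have hf1 : ∀ l : F, l ≠ 0 → f l ≠ 0 := fun l _ => by rw [hfdef]; exact one_ne_zero
  obtain ⟨N, hN⟩ : ∃ N, N = Nat.card (orb Q f u v (J' : Set V)) := ⟨_, rfl⟩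
  -- double count
  have key : Nat.card {x : V // x ≠ 0 ∧ Q x = 0} * N ≤
      H.index * Nat.card {x : V // x ∈ (J.toAddSubgroup : Set V) ∧ x ≠ 0} := by
    let Orb : Set (Set V) := {T | ∃ k : commutator (OQ Q), T = ap k '' (J : Set V)}
    have hOrb : Nat.card Orb ≤ H.index := by
      choose k hk using fun T : Orb => T.2
      refine Nat.card_le_card_of_injective
        (fun T => (QuotientGroup.mk (k T) : commutator (OQ Q) ⧸ H)) fun T T' e => ?_
      have e' : (k T)⁻¹ * k T' ∈ H := QuotientGroup.eq.1 e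
      refine Subtype.ext ?_
      rw [hk T, hk T']
      ext x
      constructor
      · rintro ⟨y, hy, rfl⟩
        refine ⟨ap ((k T)⁻¹ * k T')⁻¹ y, hinv _ (H.inv_mem e') y hy, ?_⟩
        rw [mul_inv_rev, inv_inv, ap_mul, ap_apply_inv]
      · rintro ⟨y, hy, rfl⟩
        exact ⟨ap ((k T)⁻¹ * k T') y, hinv _ e' y hy, by rw [ap_mul, ap_apply_inv]⟩
    have hmove : ∀ x : {x : V // x ≠ 0 ∧ Q x = 0}, ∃ k : commutator (OQ Q), ap k u = x := by
      intro x
      obtain ⟨s, hs, hsu⟩ := exists_move_singular hb.nd hb.five hu hu0 x.2.2 x.2.1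
      rw [eichGroup_eq_commutator hb.nd hb.five] at hs
      exact ⟨⟨s, hs⟩, hsu⟩
    choose m hm using hmove
    choose gT lT hgT hT using fun T : orb Q f u v (J' : Set V) => T.2
    have hT' : ∀ T : orb Q f u v (J' : Set V), (T : Set V) = ap (gT T) '' (J' : Set V) := by
      intro T
      rw [hT T]
      simp [hfdef]
    have horb : ∀ (x : {x : V // x ≠ 0 ∧ Q x = 0}) (T : orb Q f u v (J' : Set V)),
        ap (m x * gT T) '' (J : Set V) ∈ Orb := fun x T => ⟨_, rfl⟩
    choose kO hkO using fun T : Orb => T.2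
    have hxmem : ∀ (x : {x : V // x ≠ 0 ∧ Q x = 0}) (T : orb Q f u v (J' : Set V)),
        (x : V) ∈ ap (m x * gT T) '' (J : Set V) := by
      intro x T
      refine ⟨(lT T)⁻¹ • u, J.smul_mem _ huJ, ?_⟩
      rw [map_smul, ap_mul, (hgT T).2.1, map_smul, hm, inv_smul_smul₀ (hgT T).1]
    have hback : ∀ (x : {x : V // x ≠ 0 ∧ Q x = 0}) (T : orb Q f u v (J' : Set V)),
        ap (kO ⟨_, horb x T⟩)⁻¹ x ∈ (J.toAddSubgroup : Set V) ∧
          ap (kO ⟨_, horb x T⟩)⁻¹ x ≠ 0 := by
      intro x T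
      constructor
      · have h9 := hxmem x T
        rw [show ap (m x * gT T) '' (J : Set V) = ap (kO ⟨_, horb x T⟩) '' (J : Set V) from
          hkO ⟨_, horb x T⟩] at h9
        obtain ⟨y, hy, e⟩ := h9
        rw [← e, ap_inv_apply]
        exact hy
      · intro e
        apply x.2.1
        rw [← ap_apply_inv (kO ⟨_, horb x T⟩) (x : V), e, map_zero]
    have hinj := Nat.card_le_card_of_injective
      (fun p : {x : V // x ≠ 0 ∧ Q x = 0} × orb Q f u v (J' : Set V) =>
        ((⟨_, horb p.1 p.2⟩ : Orb),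
          (⟨_, hback p.1 p.2⟩ : {x : V // x ∈ (J.toAddSubgroup : Set V) ∧ x ≠ 0}))) (by
      rintro ⟨x, T⟩ ⟨x', T'⟩ e
      have e1 := (Prod.mk.injEq _ _ _ _).mp e
      have e2 : ap (kO ⟨_, horb x T⟩)⁻¹ (x : V) = ap (kO ⟨_, horb x' T'⟩)⁻¹ (x' : V) :=
        congrArg Subtype.val e1.2
      rw [e1.1] at e2
      have hx : x = x' := Subtype.ext ((ap _).injective e2)
      subst hx
      refine Prod.ext rfl (Subtype.ext ?_)
      have e3 : ap (m x * gT T) '' (J : Set V) = ap (m x * gT T') '' (J : Set V) :=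
        congrArg Subtype.val e1.1
      have cut : ∀ T : orb Q f u v (J' : Set V), ∀ z : V, z ∈ (T : Set V) ↔
          z ∈ WW Q u v ∧ ap (m x) z ∈ ap (m x * gT T) '' (J : Set V) := by
        intro T z
        rw [hT' T]
        constructor
        · rintro ⟨y, hy, rfl⟩
          exact ⟨(hgT T).mem_WW (hJ'W hy), y, hJ'J hy, by rw [ap_mul]⟩
        · rintro ⟨hz, y, hy, e⟩
          rw [ap_mul] at e
          have e' := (ap (m x)).injective e
          refine ⟨y, hJ' ▸ ⟨hy, ?_⟩, e'⟩
          rw [← ap_inv_apply (gT T) y, e']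
          exact (hgT T).inv.mem_WW hz
      ext z
      rw [cut T z, cut T' z, e3])
    rw [Nat.card_prod, Nat.card_prod, ← hN] at hinj
    exact hinj.trans (Nat.mul_le_mul_right _ hOrb)
  rw [← index_PS_mul hb hu hu0, card_ne_zero] at key
  have hcardJ : Nat.card J = Nat.card F * Nat.card J' := by
    rw [← Nat.card_prod]
    refine Nat.card_congr
      { toFun := fun x => (polar Q v (x : V), ⟨(x : V) - polar Q v (x : V) • u, hproj _ x.2⟩)
        invFun := fun q => ⟨(q.2 : V) + q.1 • u, J.add_mem (hJ'J q.2.2) (J.smul_mem _ huJ)⟩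
        left_inv := fun x => Subtype.ext (sub_add_cancel _ _)
        right_inv := fun q => by
          have e1 : polar Q v ((q.2 : V) + q.1 • u) = q.1 := by
            rw [polar_add_right', polar_smul_right', (mem_WW.1 (hJ'W q.2.2)).2,
              QuadraticMap.polar_comm (⇑Q) v u, huv]
            ring
          refine Prod.ext e1 (Subtype.ext ?_)
          show (q.2 : V) + q.1 • u - polar Q v ((q.2 : V) + q.1 • u) • u = q.2
          rw [e1, add_sub_cancel_right] }
  obtain ⟨r, hr⟩ : ∃ r, r = Module.finrank F J' := ⟨_, rfl⟩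
  have hJ'card : Nat.card J' = Nat.card F ^ r := hr ▸ Module.natCard_eq_pow_finrank
  have hr1 : 1 ≤ r := by
    rw [hr]
    exact Submodule.one_le_finrank_iff.2 h1
  have hri : r ≤ i := hr ▸ h.ts u v hu hv huv J' hJ'W fun x hx => hsing x (hJ'J hx)
  have hN1 : Nat.card F ^ (r + 1) - 1 ≤ N * (Nat.card F - 1) := by
    rcases Nat.eq_or_lt_of_le hr1 with hr1 | hr2
    · rw [← hr1]
      refine num.two.trans ((h.cover_sing_vec hf1 hu hv huv (J' : Set V) haJ' haW ha0
        (hsing a haJ)).trans ?_)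
      rw [hN]
      refine Nat.mul_le_mul_left _ ?_
      calc Nat.card {x : V // x ∈ (J' : Set V) ∧ x ≠ 0 ∧ Q x = 0}
          ≤ Nat.card {x : V // x ∈ (J'.toAddSubgroup : Set V) ∧ x ≠ 0} :=
            Nat.card_le_card_of_injective (fun x => ⟨x.1, x.2.1, x.2.2.1⟩)
              fun x y e => Subtype.ext (congrArg Subtype.val e :)
        _ = Nat.card J' - 1 := card_ne_zero _
        _ = Nat.card F - 1 := by rw [hJ'card, ← hr1, pow_one]
    · obtain ⟨b, hbJ', hab⟩ : ∃ b ∈ J', b ∉ Submodule.span F ({a} : Set V) := by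
        by_contra hc
        push Not at hc
        have := Submodule.finrank_mono (show J' ≤ Submodule.span F ({a} : Set V) from hc)
        rw [finrank_span_singleton ha0, ← hr] at this
        omega
      have hcov := h.cover_perp_pair hf1 hu hv huv (J' : Set V) haJ' hbJ' haW (hJ'W hbJ') ha0
        (hsing a haJ) (hsing b (hJ'J hbJ'))
        (by
          rw [QuadraticMap.polar, hsing _ (J.add_mem haJ (hJ'J hbJ')), hsing a haJ,
            hsing b (hJ'J hbJ')]
          ring) hab
      have hsub := num.sub (r + 1) (by omega) (by omega)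
      rw [Nat.add_sub_cancel] at hsub
      have hn : Nat.card {q : V × V // q.1 ∈ (J' : Set V) ∧ q.2 ∈ (J' : Set V) ∧
          q.1 ≠ 0 ∧ q.2 ∉ AddSubgroup.zmultiples q.1 ∧ Q q.1 = 0 ∧ Q q.2 = 0 ∧
          q.2 ∉ Submodule.span F ({q.1} : Set V)} ≤
          (Nat.card F ^ r - 1) * (Nat.card F ^ r - Nat.card F) := by
        rw [← hJ'card]
        refine le_trans ?_ (card_span_pairs_le J')
        exact Nat.card_le_card_of_injective
          (fun q => ⟨q.1, q.2.1, q.2.2.1, q.2.2.2.1, q.2.2.2.2.2.2.2⟩)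
          fun q q' e => Subtype.ext (congrArg Subtype.val e :)
      have hq : 2 ≤ Nat.card F := Finite.one_lt_card
      have hpos : 0 < (Nat.card F ^ r - 1) * (Nat.card F ^ r - Nat.card F) := by
        have h9 : Nat.card F ^ 1 < Nat.card F ^ r := Nat.pow_lt_pow_right hq hr2
        rw [pow_one] at h9
        exact Nat.mul_pos (by omega) (by omega)
      refine Nat.le_of_mul_le_mul_right (hsub.trans ?_) hpos
      rw [hN]
      refine (Nat.mul_le_mul_left _ (hcov.trans (Nat.mul_le_mul_left _ hn))).trans_eq ?_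
      ring
  have hpos : 0 < Nat.card F ^ (r + 1) - 1 := by
    have hq : 2 ≤ Nat.card F := Finite.one_lt_card
    have h9 : Nat.card F ^ 1 ≤ Nat.card F ^ (r + 1) := Nat.pow_le_pow_right (by omega) (by omega)
    rw [pow_one] at h9
    omega
  refine Nat.le_of_mul_le_mul_right ?_ hpos
  have hJc : Nat.card J.toAddSubgroup = Nat.card F ^ (r + 1) := by
    show Nat.card J = _
    rw [hcardJ, hJ'card, pow_succ']
  rw [hJc] at key
  calc (PS Q u).index * (Nat.card F ^ (r + 1) - 1)
      ≤ (PS Q u).index * (N * (Nat.card F - 1)) := Nat.mul_le_mul_left _ hN1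
    _ = (PS Q u).index * (Nat.card F - 1) * N := by ring
    _ ≤ H.index * (Nat.card F ^ (r + 1) - 1) := key

end

end CfsgLib.MinIndexOrth
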