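import Cfsg.Agent.Lib.Known.MinIndexOrth.RegCase

/-!
Extending maps of few vectors to elements of `Ω`.
-/

set_option autoImplicit false

namespace CfsgLib.MinIndexOrth

open CfsgLib.Classical.Quad
open CfsgLib.Known.SpinMinus (orth mem_orth mem_orth_span finrank_orth exists_core)
open QuadraticMap (polar polarBilin)

noncomputable section

variable {F : Type*} [Field F] {V : Type*} [AddCommGroup V] [Module F V] [FiniteDimensional F V]
  [Finite F] {Q : QuadraticForm F V}

theorem Big.reflTop (hb : Big Q) : reflGroup Q = ⊤ :=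
  reflGroup_eq_top hb.nd (Or.inr (by have := hb.dim; omega))

/-- Witt's theorem for tuples. -/
theorem exists_map_tuple (hb : Big Q) {k : ℕ} (w w' : Fin k → V) (hw : LinearIndependent F w)
    (hw' : LinearIndependent F w') (hq : ∀ i, Q (w' i) = Q (w i))
    (hp : ∀ i j, polar Q (w' i) (w' j) = polar Q (w i) (w j)) :
    ∃ g : OQ Q, ∀ i, (g : V ≃ₗ[F] V) (w i) = w' i := by
  let b := Module.Basis.span hw
  have key : ∀ (s : Finset (Fin k)) (c : Fin k → F),
      Q (∑ i ∈ s, c i • w' i) = Q (∑ i ∈ s, c i • w i) ∧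
        ∀ j, polar Q (w' j) (∑ i ∈ s, c i • w' i) = polar Q (w j) (∑ i ∈ s, c i • w i) := by
    classical
    intro s c
    induction s using Finset.induction with
    | empty => simp
    | insert a s ha ih =>
      rw [Finset.sum_insert ha, Finset.sum_insert ha]
      refine ⟨?_, fun j => ?_⟩
      · rw [apply_add, apply_add, apply_smul, apply_smul, polar_smul_left', polar_smul_left', hq,
          ih.1, ih.2]
      · rw [polar_add_right', polar_add_right', polar_smul_right', polar_smul_right', hp, ih.2]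
  obtain ⟨g, hg⟩ := witt hb.nd _ (b.constr F w') (by
      rw [← LinearMap.ker_eq_bot, eq_bot_iff]
      intro x hx
      rw [LinearMap.mem_ker, b.constr_apply_fintype (S := F)] at hx
      have := Fintype.linearIndependent_iff.1 hw' _ hx
      rw [Submodule.mem_bot, ← b.sum_equivFun x]
      simp [this])
    (fun x => by
      rw [b.constr_apply_fintype (S := F), (key Finset.univ _).1]
      congr 1
      conv_rhs => rw [← b.sum_equivFun x]
      rw [Submodule.coe_sum]
      refine Finset.sum_congr rfl fun i _ => ?_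
      rw [Submodule.coe_smul, Module.Basis.coe_span_apply])
  refine ⟨g, fun i => ?_⟩
  have := hg (b i)
  rwa [b.constr_basis, Module.Basis.coe_span_apply] at this

/-- Adjusting an isometry into `Ω` without changing it on a few vectors. -/
theorem exists_omega_adjust (hb : Big Q) (g : OQ Q) (S : Submodule F V)
    (huniv : ∀ c : F, c ≠ 0 → ∃ r, Q r = c ∧ ∀ x ∈ S, polar Q x r = 0) :
    ∃ g' : commutator (OQ Q), ∀ x ∈ S, ap g' x = (g : V ≃ₗ[F] V) x := by
  have hR := hb.reflTop
  have hn : 2 ≤ Module.finrank F V := by have := hb.dim; omega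
  obtain ⟨c, hc0, hc⟩ := exists_sqc_eq (invHom hb.nd hR g).2
  obtain ⟨r, hr, hrS⟩ := huniv c hc0
  obtain ⟨r₁, hr₁, hr₁S⟩ := huniv 1 one_ne_zero
  have hr0 : Q r ≠ 0 := by rw [hr]; exact hc0
  have hr10 : Q r₁ ≠ 0 := by rw [hr₁]; exact one_ne_zero
  have fix : ∀ {t : V} (ht : Q t ≠ 0), (∀ x ∈ S, polar Q x t = 0) →
      ∀ x ∈ S, ((refl ht : OQ Q) : V ≃ₗ[F] V) x = x := fun ht hS x hx => by
    rw [refl_apply, hS x hx, mul_zero, zero_smul, sub_zero]
  have key : ∀ e : ZMod 2, e = 1 ∨ e = 0 := by decide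
  obtain ⟨h, hh, hfix⟩ : ∃ h : OQ Q, g * h ∈ commutator (OQ Q) ∧
      ∀ x ∈ S, (h : V ≃ₗ[F] V) x = x := by
    rcases key (Multiplicative.toAdd (invHom hb.nd hR g).1) with he | he
    · refine ⟨refl hr0, ?_, fix hr0 hrS⟩
      rw [← ker_invHom_eq_commutator hb.nd hR hn, MonoidHom.mem_ker, map_mul, invHom_refl, hr, hc]
      refine Prod.ext ?_ (sqClass_mul_self _)
      apply Multiplicative.toAdd.injective
      show Multiplicative.toAdd (invHom hb.nd hR g).1 + 1 = 0
      rw [he]
      decide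
    · refine ⟨refl hr0 * refl hr10, ?_, fun x hx => ?_⟩
      · rw [← ker_invHom_eq_commutator hb.nd hR hn, MonoidHom.mem_ker, map_mul, map_mul,
          invHom_refl, invHom_refl, hr, hr₁, hc, sqc_one]
        refine Prod.ext ?_ ?_
        · apply Multiplicative.toAdd.injective
          show Multiplicative.toAdd (invHom hb.nd hR g).1 + (1 + 1) = 0
          rw [he]
          decide
        · show (invHom hb.nd hR g).2 * ((invHom hb.nd hR g).2 * 1) = 1
          rw [mul_one, sqClass_mul_self]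
      · show ((refl hr0 : OQ Q) : V ≃ₗ[F] V) (((refl hr10 : OQ Q) : V ≃ₗ[F] V) x) = x
        rw [fix hr10 hr₁S x hx, fix hr0 hrS x hx]
  refine ⟨⟨g * h, hh⟩, fun x hx => ?_⟩
  show (g : V ≃ₗ[F] V) ((h : V ≃ₗ[F] V) x) = _
  rw [hfix x hx]

theorem exists_omega_map (hb : Big Q) {k : ℕ} (w w' : Fin k → V) (hw : LinearIndependent F w)
    (hw' : LinearIndependent F w') (hq : ∀ i, Q (w' i) = Q (w i))
    (hp : ∀ i j, polar Q (w' i) (w' j) = polar Q (w i) (w j))
    (huniv : ∀ c : F, c ≠ 0 → ∃ r, Q r = c ∧ ∀ i, polar Q (w i) r = 0) :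
    ∃ g : commutator (OQ Q), ∀ i, ap g (w i) = w' i := by
  obtain ⟨g, hg⟩ := exists_map_tuple hb w w' hw hw' hq hp
  obtain ⟨g', hg'⟩ := exists_omega_adjust hb g (Submodule.span F (Set.range w)) fun c hc => by
    obtain ⟨r, hr, hr'⟩ := huniv c hc
    refine ⟨r, hr, fun x hx => ?_⟩
    induction hx using Submodule.span_induction with
    | mem y hy => obtain ⟨i, rfl⟩ := hy; exact hr' i
    | zero => exact QuadraticMap.polar_zero_left _ _
    | add y z _ _ h1 h2 => rw [polar_add_left', h1, h2, add_zero]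
    | smul a y _ h1 => rw [polar_smul_left', h1, mul_zero]
  exact ⟨g', fun i => by rw [hg' _ (Submodule.subset_span ⟨i, rfl⟩), hg]⟩

/-- A dilation of a hyperbolic pair as two reflections. -/
theorem exists_dil (hb : Big Q) {u v : V} (hu : Q u = 0) (hv : Q v = 0) (huv : polar Q u v = 1)
    {l : F} (hl : l ≠ 0) : ∃ d : OQ Q, (d : V ≃ₗ[F] V) u = l • u ∧ (d : V ≃ₗ[F] V) v = l⁻¹ • v ∧
      (∀ z, polar Q z u = 0 → polar Q z v = 0 → (d : V ≃ₗ[F] V) z = z) ∧
      invHom hb.nd hb.reflTop d = (1, sqc l) := by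
  have hq : ∀ a : F, Q (u - a • v) = -a := fun a => by
    rw [sub_eq_add_neg, ← neg_smul, apply_add, apply_smul, polar_smul_right', hu, hv, huv]; ring
  have h1 : Q (u - (1 : F) • v) ≠ 0 := by rw [hq]; exact neg_ne_zero.2 one_ne_zero
  have h2 : Q (u - l • v) ≠ 0 := by rw [hq]; exact neg_ne_zero.2 hl
  have hvu : polar Q v u = 1 := by rw [QuadraticMap.polar_comm]; exact huv
  have r1 : ∀ (a : F) (ha : Q (u - a • v) ≠ 0), a ≠ 0 →
      ((refl ha : OQ Q) : V ≃ₗ[F] V) u = a • v ∧ ((refl ha : OQ Q) : V ≃ₗ[F] V) v = a⁻¹ • u := by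
    intro a ha ha0
    constructor
    · rw [refl_apply, hq, QuadraticMap.polar_sub_right, polar_self', polar_smul_right', hu, huv]
      match_scalars <;> field_simp <;> ring
    · rw [refl_apply, hq, QuadraticMap.polar_sub_right, polar_smul_right', polar_self', hv, hvu]
      match_scalars <;> field_simp <;> ring
  obtain ⟨a1, a2⟩ := r1 l h2 hl
  obtain ⟨b1, b2⟩ := r1 1 h1 one_ne_zero
  refine ⟨refl h1 * refl h2, ?_, ?_, fun z hz1 hz2 => ?_, ?_⟩
  · show ((refl h1 : OQ Q) : V ≃ₗ[F] V) (((refl h2 : OQ Q) : V ≃ₗ[F] V) u) = _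
    rw [a1, map_smul, b2, inv_one, one_smul]
  · show ((refl h1 : OQ Q) : V ≃ₗ[F] V) (((refl h2 : OQ Q) : V ≃ₗ[F] V) v) = _
    rw [a2, map_smul, b1, one_smul]
  · show ((refl h1 : OQ Q) : V ≃ₗ[F] V) (((refl h2 : OQ Q) : V ≃ₗ[F] V) z) = z
    have e : ∀ (a : F) (ha : Q (u - a • v) ≠ 0), ((refl ha : OQ Q) : V ≃ₗ[F] V) z = z := by
      intro a ha
      rw [refl_apply, QuadraticMap.polar_sub_right, polar_smul_right', hz1, hz2]
      simp
    rw [e l h2, e 1 h1]
  · rw [map_mul, invHom_refl, invHom_refl]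
    refine Prod.ext ?_ ?_
    · apply Multiplicative.toAdd.injective
      show (1 : ZMod 2) + 1 = 0
      decide
    · show sqc (Q (u - (1 : F) • v)) * sqc (Q (u - l • v)) = sqc l
      rw [hq, hq, show -l = -1 * l by ring, sqc_mul (neg_ne_zero.2 one_ne_zero) hl, ← mul_assoc,
        sqClass_mul_self, one_mul]

end

end CfsgLib.MinIndexOrth
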