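import Cfsg.Agent.Lib.Known.MinIndexOrth.Full
import Cfsg.Agent.Lib.Known.SpinMinus.Geo

/-!
Singular points whose core is a hyperplane: the second point is non-singular and fixed.
-/

set_option autoImplicit false

namespace CfsgLib.MinIndexOrth

open CfsgLib.Classical.Quad
open CfsgLib.Known.SpinMinus (orth mem_orth finrank_orth orth_orth mem_orth_span finrank_span_two
  finrank_span_three finrank_span_four)
open QuadraticMap (polar polarBilin)

noncomputable section

variable {F : Type*} [Field F] {V : Type*} [AddCommGroup V] [Module F V] [FiniteDimensional F V]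
  [Finite F] {Q : QuadraticForm F V} {H : Subgroup (commutator (OQ Q))}

theorem exists_zero_mem (U : Submodule F V) (h : 3 ≤ Module.finrank F U) :
    ∃ v ∈ U, v ≠ 0 ∧ Q v = 0 := by
  suffices ∃ v : U, v ≠ 0 ∧ Q (v : V) = 0 by
    obtain ⟨v, hv0, hv⟩ := this
    exact ⟨v, v.2, fun e => hv0 (Subtype.ext e), hv⟩
  by_cases hn : (polarBilin (Q.comp U.subtype)).Nondegenerate
  · exact exists_singular (Q := Q.comp U.subtype) hn h
  by_cases h2 : (2 : F) = 0
  · have := charP_two_of_eq_zero h2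
    exact exists_singular_char_two (Q.comp U.subtype) h
  obtain ⟨r, hr, hr0⟩ : ∃ r : U, (∀ y : U, polar (Q.comp U.subtype) r y = 0) ∧ r ≠ 0 := by
    by_contra hc
    push Not at hc
    exact hn ⟨fun x hx => hc x hx, fun x hx => hc x fun y => by
      rw [QuadraticMap.polar_comm]; exact hx y⟩
  have h1 := hr r
  rw [polar_self'] at h1
  exact ⟨r, hr0, (mul_eq_zero.1 h1).resolve_left h2⟩

/-- A singular vector perpendicular to a few given ones. -/
theorem exists_zero_perp (hb : Big Q) (a b c : V) :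
    ∃ v, v ≠ 0 ∧ Q v = 0 ∧ polar Q a v = 0 ∧ polar Q b v = 0 ∧ polar Q c v = 0 := by
  have h1 := finrank_orth hb.nd (Submodule.span F ({a, b, c} : Set V))
  have h2 := finrank_span_three hb.nd a b c
  have h3 := hb.dim
  obtain ⟨v, hv, hv0, hQv⟩ := exists_zero_mem (Q := Q) (orth Q (Submodule.span F ({a, b, c} : Set V)))
    (by omega)
  rw [mem_orth_span] at hv
  exact ⟨v, hv0, hQv, hv a (by simp), hv b (by simp), hv c (by simp)⟩

/-- Two non-perpendicular singular vectors perpendicular to two given ones. -/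
theorem exists_zero_pair (hb : Big Q) (a b : V) :
    ∃ x y, Q x = 0 ∧ Q y = 0 ∧ polar Q a x = 0 ∧ polar Q b x = 0 ∧ polar Q a y = 0 ∧
      polar Q b y = 0 ∧ polar Q x y = 1 := by
  have h1 := finrank_span_two hb.nd a b
  have h3 := hb.dim
  obtain ⟨x, y, hx, hy, hQx, hQy, hxy⟩ := CfsgLib.Known.SpinMinus.exists_pair_perp hb.nd
    (Submodule.span F ({a, b} : Set V)) (by
      have := Submodule.finrank_mono (inf_le_left :
        Submodule.span F ({a, b} : Set V) ⊓ orth Q (Submodule.span F {a, b}) ≤ _)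
      omega)
  rw [mem_orth_span] at hx hy
  exact ⟨x, y, hQx, hQy, hx a (by simp), hx b (by simp), hy a (by simp), hy b (by simp), hxy⟩

theorem LineT.smul (hb : Big Q) {u w : V} (h : LineT H u w) {c : F} (hc : c ≠ 0) :
    LineT H (c • u) w := by
  obtain ⟨hu0, hu, huw, hw, hcore⟩ := h
  refine ⟨smul_ne_zero hc hu0, by rw [apply_smul, hu, mul_zero],
    by rw [polar_smul_left', huw, mul_zero], fun e => hw ?_, fun x => ?_⟩
  · exact Submodule.span_singleton_smul_le F c u e
  · rw [core_smul hb hu hc, hcore, polar_smul_left', mul_eq_zero, or_iff_right hc]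

/-- The hypotheses at the end of the counting. -/
structure Tri (H : Subgroup (commutator (OQ Q))) : Prop where
  noFull : ∀ u, ¬ Full H u
  tri : ∀ u, u ≠ 0 → Q u = 0 → Reg H u ∨ ∃ w, LineT H u w

theorem Tri.exists_line (ht : Tri H) {u y : V} (hu0 : u ≠ 0) (hu : Q u = 0)
    (hy : y ∈ core H u) (hyu : y ∉ Submodule.span F ({u} : Set V)) : ∃ w, LineT H u w :=
  (ht.tri u hu0 hu).resolve_left fun h => hyu (h y (core_perp hy) (core_El hy))

theorem span_pair_singular {u y x : V} (hu : Q u = 0) (hy : Q y = 0) (huy : polar Q u y = 0)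
    (hx : x ∈ Submodule.span F ({u, y} : Set V)) : Q x = 0 := by
  obtain ⟨s, t, rfl⟩ := Submodule.mem_span_pair.1 hx
  rw [apply_add, apply_smul, apply_smul, polar_smul_left', polar_smul_right', hu, hy, huy]
  ring

theorem notMem_span_symm {u y : V} (hy0 : y ≠ 0) (h : y ∉ Submodule.span F ({u} : Set V)) :
    u ≠ 0 → u ∉ Submodule.span F ({y} : Set V) := by
  intro hu0 e
  obtain ⟨c, hc⟩ := Submodule.mem_span_singleton.1 e
  have hc0 : c ≠ 0 := fun h0 => hu0 (by rw [← hc, h0, zero_smul])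
  exact h (Submodule.mem_span_singleton.2 ⟨c⁻¹, by rw [← hc, inv_smul_smul₀ hc0]⟩)

/-- Where the line of `y` lies when `y` is in the core at `u`. -/
theorem Tri.nbr (ht : Tri H) (hb : Big Q) {u w y : V} (h : LineT H u w) (hy : Q y = 0)
    (huy : polar Q u y = 0) (hwy : polar Q w y = 0)
    (hyu : y ∉ Submodule.span F ({u} : Set V)) :
    ∃ z, LineT H y z ∧ (u ∈ Submodule.span F ({y, z} : Set V) ∨
      z ∈ Submodule.span F ({u, w, y} : Set V)) := by
  have hy0 : y ≠ 0 := fun e => hyu (by rw [e]; exact Submodule.zero_mem _)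
  have hyc : y ∈ core H u := (h.2.2.2.2 y).2 ⟨huy, hwy⟩
  obtain ⟨z, hz⟩ := ht.exists_line hy0 hy (core_symm hb h.2.1 hy hyc)
    (notMem_span_symm hy0 hyu h.1)
  refine ⟨z, hz, ?_⟩
  by_cases hc : u ∈ Submodule.span F ({y, z} : Set V)
  · exact Or.inl hc
  refine Or.inr (mem_span_of_perp hb fun a ha => ?_)
  have hau := ha u (Submodule.subset_span (by simp))
  have haw := ha w (Submodule.subset_span (by simp))
  exact (LineT.key hb h.2.1 hz hyc ((h.2.2.2.2 a).2 ⟨hau, haw⟩)
    (ha y (Submodule.subset_span (by simp)))).resolve_left hc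

theorem Tri.mutual (ht : Tri H) (hb : Big Q) {u w : V} (h : LineT H u w) (hw : Q w = 0) :
    LineT H w u := by
  obtain ⟨hu0, hu, huw, hwn, hcore⟩ := h
  have hw0 : w ≠ 0 := fun e => hwn (by rw [e]; exact Submodule.zero_mem _)
  obtain ⟨z, hz, hc⟩ := ht.nbr hb ⟨hu0, hu, huw, hwn, hcore⟩ hw huw
    (by rw [polar_self', hw, mul_zero]) hwn
  rcases hc with hc | hc
  · obtain ⟨a, b, hab⟩ := Submodule.mem_span_pair.1 hc
    have hb0 : b ≠ 0 := by
      rintro rfl
      rw [zero_smul, add_zero] at hab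
      exact notMem_span_symm hw0 hwn hu0 (Submodule.mem_span_singleton.2 ⟨a, hab⟩)
    have := hz.shift hb0 a
    rwa [add_comm, hab] at this
  · rw [show ({u, w, w} : Set V) = {u, w} by simp] at hc
    obtain ⟨a, b, hab⟩ := Submodule.mem_span_pair.1 hc
    have ha : a ≠ 0 := by
      rintro rfl
      rw [zero_smul, zero_add] at hab
      exact hz.2.2.2.1 (Submodule.mem_span_singleton.2 ⟨b, hab⟩)
    have := hz.shift (inv_ne_zero ha) (-(a⁻¹ * b))
    rwa [← hab, smul_add, smul_smul, smul_smul, inv_mul_cancel₀ ha, one_smul, neg_smul,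
      add_neg_cancel_right] at this

theorem Tri.line_nonsingular (ht : Tri H) (hb : Big Q) {u w : V} (h : LineT H u w) : Q w ≠ 0 := by
  intro hw
  obtain ⟨x₁, x₂, hx₁, hx₂, h1u, h1w, h2u, h2w, h12⟩ := exists_zero_pair hb u w
  have hy : x₁ ∉ Submodule.span F ({u, w} : Set V) := by
    intro e
    obtain ⟨s, t, rfl⟩ := Submodule.mem_span_pair.1 e
    rw [polar_add_left', polar_smul_left', polar_smul_left', h2u, h2w, mul_zero, mul_zero,
      add_zero] at h12
    exact zero_ne_one h12
  have hyu : x₁ ∉ Submodule.span F ({u} : Set V) := fun e =>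
    hy (Submodule.span_mono (by simp) e)
  obtain ⟨z, hz, hc⟩ := ht.nbr hb h hx₁ h1u h1w hyu
  obtain ⟨a, b, hz0, hab⟩ : ∃ a b : F, LineT H x₁ (a • u + b • w) ∧ ¬(a = 0 ∧ b = 0) := by
    rcases hc with hc | hc
    · obtain ⟨c, d, hcd⟩ := Submodule.mem_span_pair.1 hc
      have hd : d ≠ 0 := by
        rintro rfl
        rw [zero_smul, add_zero] at hcd
        exact notMem_span_symm (fun e => hyu (by rw [e]; exact Submodule.zero_mem _)) hyu h.1
          (Submodule.mem_span_singleton.2 ⟨c, hcd⟩)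
      refine ⟨1, 0, ?_, by simp⟩
      have := hz.shift hd c
      rwa [add_comm, hcd, ← one_smul F u, ← add_zero ((1 : F) • u), ← zero_smul F w] at this
    · rw [Submodule.mem_span_insert] at hc
      obtain ⟨a, z₁, hz₁, rfl⟩ := hc
      obtain ⟨b, c, rfl⟩ := Submodule.mem_span_pair.1 hz₁
      refine ⟨a, b, ?_, fun hab => hz.2.2.2.1 ?_⟩
      · have := hz.shift one_ne_zero (-c)
        rwa [one_smul, neg_smul, ← add_assoc, add_neg_cancel_right] at this
      · rw [hab.1, hab.2]
        simp [Submodule.mem_span_singleton]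
  have hQz : Q (a • u + b • w) = 0 :=
    span_pair_singular h.2.1 hw h.2.2.1 (Submodule.mem_span_pair.2 ⟨a, b, rfl⟩)
  have hz1 := ht.mutual hb hz0 hQz
  obtain ⟨o, ho, hmem⟩ : ∃ o ∈ Submodule.span F ({u, w} : Set V), LineT H (a • u + b • w) o := by
    by_cases ha : a = 0
    · have hb0 : b ≠ 0 := fun e => hab ⟨ha, e⟩
      refine ⟨u, Submodule.subset_span (by simp), ?_⟩
      rw [ha, zero_smul, zero_add]
      exact (ht.mutual hb h hw).smul hb hb0
    · by_cases hb0 : b = 0
      · refine ⟨w, Submodule.subset_span (by simp), ?_⟩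
        rw [hb0, zero_smul, add_zero]
        exact h.smul hb ha
      · refine ⟨u, Submodule.subset_span (by simp), ?_⟩
        rw [add_comm]
        refine ht.mutual hb (h.shift hb0 a) ?_
        rw [add_comm]
        exact hQz
  have := hmem.unique hb hz1 rfl
  refine hy (Submodule.span_le.2 ?_ this)
  rintro x (rfl | rfl)
  · exact Submodule.mem_span_pair.2 ⟨a, b, rfl⟩
  · exact ho

theorem Tri.ns_nbr (ht : Tri H) (hb : Big Q) {u w y : V} (h : LineT H u w) (hy : Q y = 0)
    (huy : polar Q u y = 0) (hwy : polar Q w y = 0)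
    (hyu : y ∉ Submodule.span F ({u} : Set V)) : ∃ β : F, LineT H y (w + β • u) := by
  obtain ⟨z, hz, hc⟩ := ht.nbr hb h hy huy hwy hyu
  have hQz := ht.line_nonsingular hb hz
  rcases hc with hc | hc
  · obtain ⟨c, d, hcd⟩ := Submodule.mem_span_pair.1 hc
    exfalso
    have hd : d ≠ 0 := by
      rintro rfl
      rw [zero_smul, add_zero] at hcd
      exact notMem_span_symm (fun e => hyu (by rw [e]; exact Submodule.zero_mem _)) hyu h.1
        (Submodule.mem_span_singleton.2 ⟨c, hcd⟩)
    have e := congrArg Q hcd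
    rw [apply_add, apply_smul, apply_smul, polar_smul_left', polar_smul_right', hy, hz.2.2.1,
      h.2.1] at e
    simp only [mul_zero, zero_add, add_zero] at e
    exact hQz ((mul_eq_zero.1 e).resolve_left (mul_ne_zero hd hd))
  · rw [Submodule.mem_span_insert] at hc
    obtain ⟨a, z₁, hz₁, rfl⟩ := hc
    obtain ⟨b, c, rfl⟩ := Submodule.mem_span_pair.1 hz₁
    have hb0 : b ≠ 0 := by
      rintro rfl
      exact hQz (span_pair_singular h.2.1 hy huy (Submodule.mem_span_pair.2 ⟨a, c, by simp⟩))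
    refine ⟨b⁻¹ * a, ?_⟩
    have := hz.shift (inv_ne_zero hb0) (-(b⁻¹ * c))
    convert this using 1
    match_scalars <;> field_simp
    ring

theorem ns_unique (hb : Big Q) {u w y : V} (hu : Q u = 0) (hy : Q y = 0)
    (hu0 : u ≠ 0) (huy : polar Q u y = 0) (hyu : y ∉ Submodule.span F ({u} : Set V)) (hw : Q w ≠ 0) {β γ : F}
    (h : LineT H y (w + β • u)) (h' : LineT H y (w + γ • u)) : β = γ := by
  obtain ⟨s, t, e⟩ := Submodule.mem_span_pair.1 (h.unique hb h' rfl)
  have e' : (1 - t) • w = s • y + (t * β - γ) • u := by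
    linear_combination (norm := module) (-1 : F) • e
  have ht : t = 1 := by
    by_contra ht
    have h1 : Q ((1 - t) • w) = 0 := by
      rw [e']
      exact span_pair_singular hy hu (by rw [QuadraticMap.polar_comm]; exact huy)
        (Submodule.mem_span_pair.2 ⟨_, _, rfl⟩)
    rw [apply_smul] at h1
    exact hw ((mul_eq_zero.1 h1).resolve_left
      (mul_ne_zero (sub_ne_zero.2 (Ne.symm ht)) (sub_ne_zero.2 (Ne.symm ht))))
  subst ht
  rw [sub_self, zero_smul, one_mul] at e'
  by_cases hs : s = 0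
  · subst hs
    rw [zero_smul, zero_add] at e'
    exact sub_eq_zero.1 ((smul_eq_zero.1 e'.symm).resolve_right hu0)
  · refine absurd (Submodule.mem_span_singleton.2 ⟨-(s⁻¹ * (β - γ)), ?_⟩) hyu
    calc -(s⁻¹ * (β - γ)) • u = s⁻¹ • (-((β - γ) • u)) := by module
      _ = s⁻¹ • (s • y) := by rw [eq_neg_of_add_eq_zero_left e'.symm]
      _ = y := inv_smul_smul₀ hs y

theorem Tri.same_of_opposite (hb : Big Q) {u w y y' y'' : V} (h : LineT H u w) {β β' : F}
    (hy : LineT H y (w + β • u)) (huy : polar Q u y = 0) (hwy : polar Q w y = 0)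
    (hy' : LineT H y' (w + β' • u)) (huy' : polar Q u y' = 0) (hwy' : polar Q w y' = 0)
    (hy''0 : Q y'' = 0) (huy'' : polar Q u y'' = 0) (hwy'' : polar Q w y'' = 0)
    (h1 : polar Q y y' ≠ 0) (h2 : polar Q y y'' ≠ 0) : LineT H y'' (w + β' • u) := by
  obtain ⟨p, hp⟩ : ∃ p, p = (polar Q y y')⁻¹ • y' := ⟨_, rfl⟩
  obtain ⟨p', hp'⟩ : ∃ p, p = (polar Q y y'')⁻¹ • y'' := ⟨_, rfl⟩
  have e1 : polar Q y p = 1 := by rw [hp, polar_smul_right', inv_mul_cancel₀ h1]
  have e2 : polar Q y p' = 1 := by rw [hp', polar_smul_right', inv_mul_cancel₀ h2]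
  have hxu : polar Q u (p - p') = 0 := by
    rw [QuadraticMap.polar_sub_right, hp, hp', polar_smul_right', polar_smul_right', huy', huy'']
    ring
  have hxw : polar Q w (p - p') = 0 := by
    rw [QuadraticMap.polar_sub_right, hp, hp', polar_smul_right', polar_smul_right', hwy', hwy'']
    ring
  have hxy : polar Q y (p - p') = 0 := by rw [QuadraticMap.polar_sub_right, e1, e2, sub_self]
  have hc : p - p' ∈ core H y := (hy.2.2.2.2 _).2 ⟨hxy, by
    rw [polar_add_left', polar_smul_left', hxw, hxu, mul_zero, add_zero]⟩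
  have hQp : Q p = 0 := by rw [hp, apply_smul, hy'.2.1, mul_zero]
  have hQp' : Q p' = 0 := by rw [hp', apply_smul, hy''0, mul_zero]
  have hm := (hy'.smul hb (inv_ne_zero h1)).map hb (core_El hc)
  rw [← hp, ap_move_partner hb hy.2.1 hQp hQp' e1 e2, map_add, map_smul,
    El_fix hb hy.2.1 hxy huy hxu, El_fix hb hy.2.1 hxy hwy hxw] at hm
  have := hm.smul hb h2
  rwa [hp', smul_smul, mul_inv_cancel₀ h2, one_smul] at this

theorem Tri.exists_point (ht : Tri H) (hb : Big Q) {u w : V} (h : LineT H u w) :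
    ∃ β : F, ∀ y, Q y = 0 → polar Q u y = 0 → polar Q w y = 0 →
      y ∉ Submodule.span F ({u} : Set V) → LineT H y (w + β • u) := by
  have hQw := ht.line_nonsingular hb h
  -- non-perpendicular pairs
  have nonperp : ∀ (y y' : V) (β β' : F), Q y = 0 → polar Q u y = 0 → polar Q w y = 0 →
      Q y' = 0 → polar Q u y' = 0 → polar Q w y' = 0 → LineT H y (w + β • u) →
      LineT H y' (w + β' • u) → polar Q y y' ≠ 0 → β = β' := by
    intro y y' β β' hy huy hwy hy' huy' hwy' hl hl' hne
    obtain ⟨r, hr, hru, hrw, hry, hry'⟩ : ∃ r, Q r ≠ 0 ∧ polar Q u r = 0 ∧ polar Q w r = 0 ∧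
        polar Q y r = 0 ∧ polar Q y' r = 0 := by
      by_contra hc
      push Not at hc
      have hle : orth Q (Submodule.span F ({u, w, y, y'} : Set V)) ≤
          Submodule.span F ({u, w} : Set V) := by
        intro x hx
        have hP : x ∈ Submodule.span F ({u, w, y, y'} : Set V) := by
          rw [← orth_orth hb.nd (Submodule.span F ({u, w, y, y'} : Set V)), mem_orth]
          intro z hz
          have hq : ∀ t ∈ orth Q (Submodule.span F ({u, w, y, y'} : Set V)), Q t = 0 := by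
            intro t htm
            rw [mem_orth_span] at htm
            by_contra ht0
            exact hc t ht0 (htm u (by simp)) (htm w (by simp)) (htm y (by simp)) (htm y' (by simp))
          rw [QuadraticMap.polar, hq _ (Submodule.add_mem _ hz hx), hq z hz, hq x hx]
          ring
        rw [mem_orth_span] at hx
        simp only [Submodule.mem_span_insert, Submodule.mem_span_singleton] at hP
        obtain ⟨a, _, ⟨b, _, ⟨c, _, ⟨d, rfl⟩, rfl⟩, rfl⟩, rfl⟩ := hP
        have e1 := hx y (by simp)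
        have e2 := hx y' (by simp)
        simp only [polar_add_right', polar_smul_right', polar_self', hy, hy',
          QuadraticMap.polar_comm (⇑Q) y u, QuadraticMap.polar_comm (⇑Q) y' u,
          QuadraticMap.polar_comm (⇑Q) y w, QuadraticMap.polar_comm (⇑Q) y' w,
          QuadraticMap.polar_comm (⇑Q) y' y, huy, huy', hwy, hwy', mul_zero, zero_add,
          add_zero] at e1 e2
        rw [(mul_eq_zero.1 e1).resolve_right hne, (mul_eq_zero.1 e2).resolve_right hne, zero_smul,
          zero_smul, add_zero, add_zero]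
        exact Submodule.mem_span_pair.2 ⟨a, b, rfl⟩
      have h1 := Submodule.finrank_mono hle
      have h2 := finrank_orth hb.nd (Submodule.span F ({u, w, y, y'} : Set V))
      have h3 := finrank_span_four hb.nd u w y y'
      have h4 := finrank_span_two hb.nd u w
      have := hb.dim
      omega
    obtain ⟨z, hzdef⟩ : ∃ z, z = y + (-(Q r) / polar Q y y') • y' + r := ⟨_, rfl⟩
    have hz : Q z = 0 := by
      rw [hzdef]
      simp only [apply_add, apply_smul, polar_add_left', polar_smul_left', polar_smul_right', hy,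
        hy', hry, hry']
      field_simp
      ring
    have huz : polar Q u z = 0 := by
      rw [hzdef]; simp only [polar_add_right', polar_smul_right', huy, huy', hru]; ring
    have hwz : polar Q w z = 0 := by
      rw [hzdef]; simp only [polar_add_right', polar_smul_right', hwy, hwy', hrw]; ring
    have hyz : polar Q y z ≠ 0 := by
      rw [hzdef]; simp only [polar_add_right', polar_smul_right', polar_self', hy, hry]
      rw [mul_zero, zero_add, add_zero, div_mul_cancel₀ _ hne]
      exact neg_ne_zero.2 hr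
    have hy'z : polar Q y' z ≠ 0 := by
      rw [hzdef]; simp only [polar_add_right', polar_smul_right', polar_self', hy', hry',
        QuadraticMap.polar_comm (⇑Q) y' y]
      simpa using hne
    have a1 := same_of_opposite hb h hl huy hwy hl' huy' hwy' hz huz hwz hne hyz
    have a2 := same_of_opposite hb h hl' huy' hwy' hl huy hwy hz huz hwz
      (by rw [QuadraticMap.polar_comm]; exact hne) hy'z
    refine ns_unique hb h.2.1 hz h.1 huz (fun e => hyz ?_) hQw a2 a1
    obtain ⟨c, rfl⟩ := Submodule.mem_span_singleton.1 e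
    rw [polar_smul_right', QuadraticMap.polar_comm, huy, mul_zero]
  obtain ⟨x₁, x₂, hx₁, hx₂, h1u, h1w, h2u, h2w, h12⟩ := exists_zero_pair hb u w
  have hx₁u : x₁ ∉ Submodule.span F ({u} : Set V) := by
    intro e
    obtain ⟨c, rfl⟩ := Submodule.mem_span_singleton.1 e
    rw [polar_smul_left', h2u, mul_zero] at h12
    exact zero_ne_one h12
  obtain ⟨β₀, hβ₀⟩ := ht.ns_nbr hb h hx₁ h1u h1w hx₁u
  refine ⟨β₀, fun y hy huy hwy hyu => ?_⟩
  obtain ⟨β, hβ⟩ := ht.ns_nbr hb h hy huy hwy hyu
  suffices β = β₀ by rwa [← this]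
  by_cases hp : polar Q y x₁ = 0
  swap
  · exact nonperp y x₁ β β₀ hy huy hwy hx₁ h1u h1w hβ hβ₀ hp
  obtain ⟨a, hau, haw, hay, hax⟩ : ∃ a, polar Q u a = 0 ∧ polar Q w a = 0 ∧ polar Q y a ≠ 0 ∧
      polar Q x₁ a ≠ 0 := by
    have hnot : ∀ t : V, t ∉ Submodule.span F ({u} : Set V) → Q t = 0 → polar Q u t = 0 →
        t ∉ Submodule.span F ({u, w} : Set V) := by
      intro t htu hQt hut e
      obtain ⟨c, d, rfl⟩ := Submodule.mem_span_pair.1 e
      rw [apply_add, apply_smul, apply_smul, polar_smul_left', polar_smul_right', h.2.1,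
        h.2.2.1] at hQt
      simp only [mul_zero, zero_add, add_zero] at hQt
      rw [mul_self_eq_zero.1 ((mul_eq_zero.1 hQt).resolve_right hQw), zero_smul, add_zero] at htu
      exact htu (Submodule.mem_span_singleton.2 ⟨c, rfl⟩)
    obtain ⟨a₁, ha₁, ha₁U⟩ := exists_sep_polar hb.nd (hnot y hyu hy huy)
    obtain ⟨a₂, ha₂, ha₂U⟩ := exists_sep_polar hb.nd (hnot x₁ hx₁u hx₁ h1u)
    have hu1 := ha₁U u (Submodule.subset_span (by simp))
    have hw1 := ha₁U w (Submodule.subset_span (by simp))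
    have hu2 := ha₂U u (Submodule.subset_span (by simp))
    have hw2 := ha₂U w (Submodule.subset_span (by simp))
    by_cases c1 : polar Q x₁ a₁ = 0
    · by_cases c2 : polar Q y a₂ = 0
      · refine ⟨a₁ + a₂, ?_, ?_, ?_, ?_⟩ <;>
          simp [polar_add_right', hu1, hu2, hw1, hw2, ha₁, ha₂, c1, c2]
      · exact ⟨a₂, hu2, hw2, c2, by rw [ha₂]; exact one_ne_zero⟩
    · exact ⟨a₁, hu1, hw1, by rw [ha₁]; exact one_ne_zero, c1⟩
  obtain ⟨z, hzdef⟩ : ∃ z, z = a + (-(Q a) / polar Q y a) • y := ⟨_, rfl⟩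
  have hz : Q z = 0 := by
    rw [hzdef, apply_add, apply_smul, polar_smul_right', hy, QuadraticMap.polar_comm (⇑Q) a y,
      div_mul_cancel₀ _ hay]
    ring
  have huz : polar Q u z = 0 := by rw [hzdef, polar_add_right', polar_smul_right', hau, huy]; ring
  have hwz : polar Q w z = 0 := by rw [hzdef, polar_add_right', polar_smul_right', haw, hwy]; ring
  have hyz : polar Q y z ≠ 0 := by
    rw [hzdef, polar_add_right', polar_smul_right', polar_self', hy]; simpa using hay
  have hxz : polar Q x₁ z ≠ 0 := by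
    rw [hzdef, polar_add_right', polar_smul_right', QuadraticMap.polar_comm (⇑Q) x₁ y, hp]
    simpa using hax
  obtain ⟨βz, hβz⟩ := ht.ns_nbr hb h hz huz hwz (fun e => hyz (by
    obtain ⟨c, rfl⟩ := Submodule.mem_span_singleton.1 e
    rw [polar_smul_right', QuadraticMap.polar_comm, huy, mul_zero]))
  rw [nonperp y z β βz hy huy hwy hz huz hwz hβ hβz hyz,
    nonperp x₁ z β₀ βz hx₁ h1u h1w hz huz hwz hβ₀ hβz hxz]

theorem Tri.all_perp (ht : Tri H) (hb : Big Q) {u w y₁ : V} (h : LineT H u w) (hy₁ : Q y₁ = 0)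
    (huy₁ : polar Q u y₁ = 0) (hwy₁ : polar Q w y₁ = 0)
    (hyu₁ : y₁ ∉ Submodule.span F ({u} : Set V)) (hl : LineT H y₁ w) {y : V} (hy0 : y ≠ 0)
    (hy : Q y = 0) (huy : polar Q u y = 0) (hwy : polar Q w y = 0) : LineT H y w := by
  by_cases hyu : y ∈ Submodule.span F ({u} : Set V)
  · obtain ⟨c, rfl⟩ := Submodule.mem_span_singleton.1 hyu
    exact h.smul hb fun e => hy0 (by rw [e, zero_smul])
  obtain ⟨β, hβ⟩ := ht.exists_point hb h
  have : β = 0 := ns_unique hb h.2.1 hy₁ h.1 huy₁ hyu₁ (ht.line_nonsingular hb h)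
    (hβ y₁ hy₁ huy₁ hwy₁ hyu₁) (by rw [zero_smul, add_zero]; exact hl)
  have h2 := hβ y hy huy hwy hyu
  rwa [this, zero_smul, add_zero] at h2

/-- With no full point, a line point gives a fixed non-singular point. -/
theorem Tri.exists_fixed (ht : Tri H) (hb : Big Q) {u w : V} (h : LineT H u w) :
    ∃ w₀, Q w₀ ≠ 0 ∧ ∀ g ∈ H, ∃ b : F, b * b = 1 ∧ ap g w₀ = b • w₀ := by
  obtain ⟨β, hβ⟩ := ht.exists_point hb h
  obtain ⟨w₀, hw₀⟩ : ∃ v, v = w + β • u := ⟨_, rfl⟩
  rw [← hw₀] at hβ
  have hu : LineT H u w₀ := by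
    have := h.shift one_ne_zero β
    rwa [one_smul, ← hw₀] at this
  have hperp : ∀ x, polar Q u x = 0 → (polar Q w₀ x = 0 ↔ polar Q w x = 0) := fun x hx => by
    rw [hw₀, polar_add_left', polar_smul_left', hx, mul_zero, add_zero]
  have hQ0 := ht.line_nonsingular hb hu
  refine ⟨w₀, hQ0, ?_⟩
  obtain ⟨x₁, x₂, hx₁, hx₂, h1u, h1w, h2u, h2w, h12⟩ := exists_zero_pair hb u w₀
  have hx₁u : x₁ ∉ Submodule.span F ({u} : Set V) := by
    intro e
    obtain ⟨c, rfl⟩ := Submodule.mem_span_singleton.1 e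
    rw [polar_smul_left', h2u, mul_zero] at h12
    exact zero_ne_one h12
  have hl₁ := hβ x₁ hx₁ h1u ((hperp _ h1u).1 h1w) hx₁u
  have all : ∀ y, y ≠ 0 → Q y = 0 → polar Q w₀ y = 0 → LineT H y w₀ := by
    intro y hy0 hy hwy
    by_cases huy : polar Q u y = 0
    · exact ht.all_perp hb hu hx₁ h1u h1w hx₁u hl₁ hy0 hy huy hwy
    obtain ⟨z, hz0, hz, hzu, hzy, hzw⟩ := exists_zero_perp hb u y w₀
    have hzsp : z ∉ Submodule.span F ({u} : Set V) := by
      intro e
      obtain ⟨c, rfl⟩ := Submodule.mem_span_singleton.1 e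
      rw [polar_smul_right', QuadraticMap.polar_comm, mul_eq_zero, or_iff_left huy] at hzy
      exact hz0 (by rw [hzy, zero_smul])
    have hlz := ht.all_perp hb hu hx₁ h1u h1w hx₁u hl₁ hz0 hz hzu hzw
    exact ht.all_perp hb hlz h.2.1 (by rw [QuadraticMap.polar_comm]; exact hzu)
      (by rw [QuadraticMap.polar_comm]; exact hu.2.2.1)
      (notMem_span_symm hz0 hzsp h.1) hu hy0 hy
      (by rw [QuadraticMap.polar_comm]; exact hzy) hwy
  intro g hg
  obtain ⟨y, y', hy, hy', hy1, hy2, hy1', hy2', hyy'⟩ := exists_zero_pair hb w₀ (ap g w₀)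
  have mem : ∀ y, y ≠ 0 → Q y = 0 → polar Q w₀ y = 0 → polar Q (ap g w₀) y = 0 →
      ap g w₀ ∈ Submodule.span F ({y, w₀} : Set V) := by
    intro y hy0 hy h1 h2
    have hne : ap g⁻¹ y ≠ 0 := fun e => hy0 (by rw [← ap_apply_inv g y, e, map_zero])
    have hp : polar Q w₀ (ap g⁻¹ y) = 0 := by rw [← ap_polar g, ap_apply_inv]; exact h2
    have hl := (all _ hne (by rw [ap_Q, hy]) hp).map hb hg
    rw [ap_apply_inv] at hl
    exact (all y hy0 hy h1).unique hb hl rfl
  have hy0 : y ≠ 0 := fun e => by simp [e] at hyy'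
  have hy'0 : y' ≠ 0 := fun e => by simp [e] at hyy'
  obtain ⟨a, b, hab⟩ := Submodule.mem_span_pair.1 (mem y hy0 hy hy1 hy2)
  obtain ⟨a', b', hab'⟩ := Submodule.mem_span_pair.1 (mem y' hy'0 hy' hy1' hy2')
  have ha : a = 0 := by
    have e := congrArg (fun v => polar Q v y') (hab.trans hab'.symm)
    simp only [polar_add_left', polar_smul_left', hyy', hy1', polar_self', hy'] at e
    simpa using e
  rw [ha, zero_smul, zero_add] at hab
  refine ⟨b, ?_, hab.symm⟩
  have e := ap_Q g w₀
  rw [← hab, apply_smul] at e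
  exact mul_right_cancel₀ hQ0 (by rw [e, one_mul])

end

end CfsgLib.MinIndexOrth
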