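import Cfsg.Agent.Lib.Known.MinIndexOrth.RegCase

/-!
The regular case over the fields of two and three elements.
-/

set_option autoImplicit false

namespace CfsgLib.MinIndexOrth

open CfsgLib.Classical.Quad
open CfsgLib.Known.SpinMinus (orth mem_orth mem_orth_span finrank_orth)
open QuadraticMap (polar polarBilin)

noncomputable section

variable {F : Type*} [Field F] {V : Type*} [AddCommGroup V] [Module F V] [FiniteDimensional F V]
  [Finite F] {Q : QuadraticForm F V} {H : Subgroup (commutator (OQ Q))}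

theorem IsLift.map_one (hb : Big Q) {u v : V} {z : commutator (OQ Q) → V} (hz : IsLift H u v z)
    (hu : Q u = 0) : z 1 = 0 := by
  have h := hz.mul hb hu (l := 1) (l' := 1) (ap_one u) (ap_one v)
  rw [mul_one, ap_one] at h
  exact left_eq_add.1 h

theorem IsLift.inv (hb : Big Q) {u v : V} {z : commutator (OQ Q) → V} (hz : IsLift H u v z)
    (hu : Q u = 0) {l : commutator (OQ Q)} (h1 : ap l u = u) (h2 : ap l v = v) :
    z l⁻¹ = -ap l⁻¹ (z l) := by
  have h := hz.mul hb hu (l := l⁻¹) (l' := l) (by conv_lhs => rw [← h1, ap_inv_apply])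
    (by conv_lhs => rw [← h2, ap_inv_apply])
  rw [inv_mul_cancel, hz.map_one hb hu] at h
  exact eq_neg_of_add_eq_zero_left h.symm

theorem false_of_three (hb : Big Q) (hreg : ∀ u, u ≠ 0 → Q u = 0 → Reg H u) {u v : V}
    {z : commutator (OQ Q) → V} (hz : IsLift H u v z) (hu : Q u = 0) (hv : Q v = 0)
    (huv : polar Q u v = 1) (h3 : (3 : F) = 0) : False := by
  have h2 : (2 : F) ≠ 0 := fun h => one_ne_zero (by linear_combination h3 - h : (1 : F) = 0)
  obtain ⟨w, w', e, f, c, hw, hw', he, hf, hc, hww, hef, hin, hin', hec, hfc⟩ :=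
    exists_frame hb hu hv huv
  have hfe : polar Q f e = 1 := by rw [QuadraticMap.polar_comm]; exact hef
  have hce : polar Q c e = 0 := by rw [QuadraticMap.polar_comm]; exact hec
  have hcf : polar Q c f = 0 := by rw [QuadraticMap.polar_comm]; exact hfc
  obtain ⟨a, ha⟩ : ∃ a, a = e + (-Q c) • f := ⟨_, rfl⟩
  obtain ⟨b, hb0⟩ : ∃ b, b = e + Q c • f + c := ⟨_, rfl⟩
  obtain ⟨b', hb1⟩ : ∃ b', b' = e + Q c • f + (-1 : F) • c := ⟨_, rfl⟩
  have hQa : Q a = -Q c := by
    simp only [ha, apply_add, apply_smul, polar_smul_right', he, hf, hef]; ring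
  have hQb : Q b = -Q c := by
    simp only [hb0, apply_add, apply_smul, polar_add_left', polar_smul_left', polar_smul_right', he,
      hf, hef, hec, hfc]
    linear_combination Q c * h3
  have hQb' : Q b' = -Q c := by
    simp only [hb1, apply_add, apply_smul, polar_add_left', polar_smul_left', polar_smul_right', he,
      hf, hef, hec, hfc]
    linear_combination Q c * h3
  have hab : polar Q a b = 0 := by
    simp only [ha, hb0, polar_add_left', polar_add_right', polar_smul_left', polar_smul_right',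
      polar_self', he, hf, hef, hfe, hec, hfc]
    ring
  have hab' : polar Q a b' = 0 := by
    simp only [ha, hb1, polar_add_left', polar_add_right', polar_smul_left', polar_smul_right',
      polar_self', he, hf, hef, hfe, hec, hfc]
    ring
  have hbb' : polar Q b b' = 0 := by
    simp only [hb0, hb1, polar_add_left', polar_add_right', polar_smul_left', polar_smul_right',
      polar_self', he, hf, hef, hfe, hec, hfc, hce, hcf]
    ring
  have hne : -Q c ≠ 0 := neg_ne_zero.2 hc
  have hba : polar Q b a = 0 := by rw [QuadraticMap.polar_comm]; exact hab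
  have hb'a : polar Q b' a = 0 := by rw [QuadraticMap.polar_comm]; exact hab'
  have hb'b : polar Q b' b = 0 := by rw [QuadraticMap.polar_comm]; exact hbb'
  have hperp : ∀ x, polar Q x e = 0 → polar Q x f = 0 → polar Q x c = 0 →
      polar Q x a = 0 ∧ polar Q x b = 0 ∧ polar Q x b' = 0 := by
    intro x h1 h4 h5
    simp only [ha, hb0, hb1, polar_add_right', polar_smul_right', h1, h4, h5]
    simp
  obtain ⟨hua, hub, hub'⟩ := hperp u (hin e (by simp)).1 (hin f (by simp)).1 (hin c (by simp)).1
  obtain ⟨hva, hvb, hvb'⟩ := hperp v (hin e (by simp)).2 (hin f (by simp)).2 (hin c (by simp)).2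
  obtain ⟨hwa, hwb, hwb'⟩ := hperp w (hin' e (by simp)).1 (hin' f (by simp)).1 (hin' c (by simp)).1
  obtain ⟨hw'a, -, -⟩ := hperp w' (hin' e (by simp)).2 (hin' f (by simp)).2 (hin' c (by simp)).2
  have hwW : w ∈ WW Q u v := mem_WW.2 (hin w (by simp))
  have hw'W : w' ∈ WW Q u v := mem_WW.2 (hin w' (by simp))
  have haW : a ∈ WW Q u v := mem_WW.2 ⟨hua, hva⟩
  obtain ⟨s, hs⟩ := exists_rr hb (a := a) (b := b) (by rw [hQa]; exact hne) (by rw [hQb, hQa])
  obtain ⟨s', hs'⟩ := exists_rr hb (a := a) (b := b') (by rw [hQa]; exact hne) (by rw [hQb', hQa])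
  have shape : ∀ (t : commutator (OQ Q)) (p : V), polar Q a p = 0 → Q p = -Q c →
      (∀ y, ap t y = (y - ((Q a)⁻¹ * polar Q y p) • p) -
        ((Q a)⁻¹ * polar Q (y - ((Q a)⁻¹ * polar Q y p) • p) a) • a) →
      ∀ y, ap t y = y + (polar Q y p / Q c) • p + (polar Q y a / Q c) • a := by
    intro t p hp _ ht y
    rw [ht, QuadraticMap.polar_sub_left, polar_smul_left', QuadraticMap.polar_comm (⇑Q) p a, hp, hQa]
    match_scalars <;> field_simp <;> ring
  have hs1 := shape s b hab hQb hs
  have hs2 := shape s' b' hab' hQb' hs'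
  have fixpair : ∀ (t : commutator (OQ Q)) (p : V),
      (∀ y, ap t y = y + (polar Q y p / Q c) • p + (polar Q y a / Q c) • a) →
      ∀ x, polar Q x p = 0 → polar Q x a = 0 → ap t x = x := by
    intro t p ht x h1 h4
    rw [ht, h1, h4]; simp
  have hsu := fixpair s b hs1 u hub hua
  have hsv := fixpair s b hs1 v hvb hva
  have hsw := fixpair s b hs1 w hwb hwa
  have hs'u := fixpair s' b' hs2 u hub' hua
  have hs'v := fixpair s' b' hs2 v hvb' hva
  have hs'w := fixpair s' b' hs2 w hwb' hwa
  have neg_a : ∀ (t : commutator (OQ Q)) (p : V), polar Q a p = 0 →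
      (∀ y, ap t y = y + (polar Q y p / Q c) • p + (polar Q y a / Q c) • a) → ap t a = -a := by
    intro t p hp ht
    rw [ht, hp, polar_self', hQa]
    match_scalars <;> field_simp <;> linear_combination h3 * (0 : F)
  have hsa := neg_a s b hab hs1
  have hs'a := neg_a s' b' hab' hs2
  have hinv : ∀ (t : commutator (OQ Q)) (p : V), polar Q a p = 0 → Q p = -Q c →
      (∀ y, ap t y = y + (polar Q y p / Q c) • p + (polar Q y a / Q c) • a) → t * t = 1 := by
    intro t p hp hQp ht
    refine ap_ext fun y => ?_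
    rw [ap_mul, ap_one, ht (ap t y), ht y]
    simp only [polar_add_left', polar_smul_left', polar_self', hQp, hQa, hp,
      QuadraticMap.polar_comm (⇑Q) p a]
    match_scalars <;> field_simp <;> ring
  have hcomm : s * s' = s' * s := by
    refine ap_ext fun y => ?_
    rw [ap_mul, ap_mul, hs1 (ap s' y), hs2 (ap s y), hs1 y, hs2 y]
    simp only [polar_add_left', polar_smul_left', polar_self', hQa, hab, hab', hba, hb'a, hbb', hb'b]
    match_scalars <;> field_simp <;> ring
  -- the shift
  have hk : z s + ap s (z s) = 0 := by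
    rw [← hz.mul hb hu hsu hsv, hinv s b hab hQb hs1, hz.map_one hb hu]
  have hk' : z s' + ap s' (z s') = 0 := by
    rw [← hz.mul hb hu hs'u hs'v, hinv s' b' hab' hQb' hs2, hz.map_one hb hu]
  obtain ⟨a', ha'⟩ : ∃ a', a' = z s' + z s - ap s' (z s) := ⟨_, rfl⟩
  have hcc : z s + ap s (z s') = z s' + ap s' (z s) := by
    rw [← hz.mul hb hu hsu hsv, ← hz.mul hb hu hs'u hs'v, hcomm]
  have hsc : ∀ y, ap s (ap s' y) = ap s' (ap s y) := fun y => by rw [← ap_mul, ← ap_mul, hcomm]
  obtain ⟨d, hd⟩ : ∃ d, d = -z s - a' := ⟨_, rfl⟩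
  have e1 : ap s (z s) = -z s := eq_neg_of_add_eq_zero_right hk
  have e2 : ap s' (z s') = -z s' := eq_neg_of_add_eq_zero_right hk'
  have e4 : ap s (ap s' (z s)) = -ap s' (z s) := by rw [hsc, e1, map_neg]
  have three : ∀ x : V, x + x + x = 0 := fun x => by
    rw [← one_smul F x, ← add_smul, ← add_smul, show (1 : F) + 1 + 1 = 0 by linear_combination h3,
      zero_smul]
  have e3 : ap s (z s') = z s' + ap s' (z s) - z s := by rw [← hcc, add_sub_cancel_left]
  have hd1 : d - ap s d = z s := by
    have : ap s d = z s - ap s a' := by rw [hd, map_sub, map_neg, e1, neg_neg]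
    rw [this, ha', map_sub, map_add, e3, e1, e4, hd, ha']
    linear_combination (norm := module) (-2 : F) • three (z s) + three (ap s' (z s))
  have e5 : ap s' (ap s' (z s)) = z s := by
    rw [← ap_mul, hinv s' b' hab' hQb' hs2, ap_one]
  have hd2 : d - ap s' d = z s' := by
    rw [hd, ha', map_sub, map_neg, map_sub, map_add, e2, e5]
    linear_combination (norm := module)
      (-1 : F) • three (z s') + (-1 : F) • three (z s) + three (ap s' (z s))
  obtain ⟨hbu, hbv⟩ := El_fix_pair hb hw hwa hwW haW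
  obtain ⟨E, hE⟩ : ∃ E, E = El Q w a := ⟨_, rfl⟩
  rw [← hE] at hbu hbv
  obtain ⟨y, hy⟩ : ∃ y, y = z E - (d - ap E d) := ⟨_, rfl⟩
  have hEa : polar Q w (-a) = 0 := polar_neg' hwa
  have rel : ∀ (t : commutator (OQ Q)), ap t u = u → ap t v = v → ap t w = w → ap t a = -a →
      d - ap t d = z t → ap t y = -ap E⁻¹ y := by
    intro t htu htv htw hta htd
    have hte : t * E = E⁻¹ * t := by
      have := conj_El hb t hw hwa
      rw [htw, hta, ← El_inv hwa, ← hE] at this
      exact mul_inv_eq_iff_eq_mul.1 this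
    have hiu : ap E⁻¹ u = u := by conv_lhs => rw [← hbu, ap_inv_apply]
    have hiv : ap E⁻¹ v = v := by conv_lhs => rw [← hbv, ap_inv_apply]
    have h := congrArg z hte
    rw [hz.mul hb hu htu htv, hz.mul hb hu hiu hiv, hz.inv hb hu hbu hbv, ← htd, map_sub] at h
    have h6 : ap t (ap E d) = ap E⁻¹ (ap t d) := by rw [← ap_mul, ← ap_mul, hte]
    rw [hy, map_sub, map_sub, map_sub, map_sub, ap_inv_apply, h6]
    linear_combination (norm := module) h
  have hy1 := rel s hsu hsv hsw hsa hd1
  have hy2 := rel s' hs'u hs'v hs'w hs'a hd2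
  have hEi : ap E⁻¹ y = y + (-polar Q y a - Q a * polar Q y w) • w + polar Q y w • a := by
    rw [hE, El_inv hwa, ap_El hb hw hEa, QuadraticMap.polar_neg_right, QuadraticMap.map_neg]
    match_scalars <;> ring
  rw [hs1, hEi] at hy1
  rw [hs2, hEi] at hy2
  have hbz : polar Q y b = 0 := by
    have h := congrArg (fun t => polar Q t b) hy2
    simp only [polar_add_left', polar_smul_left', QuadraticMap.polar_neg_left, hab, hwb, hb'b,
      mul_zero, add_zero] at h
    exact (mul_eq_zero.1 (show (2 : F) * polar Q y b = 0 by linear_combination h)).resolve_left h2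
  rw [hbz] at hy1
  obtain ⟨p, r, hpr⟩ : ∃ p r : F, y = p • w + r • a := by
    have h7 : (2 : F) • y = (polar Q y a + Q a * polar Q y w) • w +
        (-(polar Q y a / Q c) - polar Q y w) • a := by
      linear_combination (norm := module) hy1
    have h8 := congrArg (fun t => (2 : F)⁻¹ • t) h7
    simp only [smul_add, smul_smul, inv_mul_cancel₀ h2, one_smul] at h8
    exact ⟨_, _, h8⟩
  have hw'w : polar Q w' w = 1 := by rw [QuadraticMap.polar_comm]; exact hww
  have haw : polar Q a w = 0 := by rw [QuadraticMap.polar_comm]; exact hwa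
  have hQa1 : Q a ≠ 0 := by rw [hQa]; exact hne
  have hQa0 : 2 * Q a ≠ 0 := mul_ne_zero h2 (by rw [hQa]; exact hne)
  obtain ⟨c0, hc0⟩ : ∃ c0, c0 = (-r) • w' + ((p - r * Q a) / (2 * Q a)) • a := ⟨_, rfl⟩
  have hy' : ap E c0 - c0 = y := by
    rw [hE, ap_El hb hw hwa, hpr, hc0]
    simp only [polar_add_left', polar_smul_left', polar_self', hw'w, haw, hw'a]
    match_scalars <;> field_simp <;> ring
  have hzd : d ∈ WW Q u v := by
    rw [hd, ha']
    refine Submodule.sub_mem _ (Submodule.neg_mem _ (hz.1 s).1) (Submodule.sub_mem _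
      (Submodule.add_mem _ (hz.1 s').1 (hz.1 s).1) (ap_fix_WW hs'u hs'v (hz.1 s).1))
  have hae : a ∉ Submodule.span F ({w} : Set V) := by
    intro h
    obtain ⟨k, hk⟩ := Submodule.mem_span_singleton.1 h
    have := congrArg Q hk
    rw [apply_smul, hw, mul_zero, hQa] at this
    exact hne this.symm
  refine hz.false_of_coboundary hb hreg hu hw hwa hwW haW hae (fun e0 => by simp [e0] at hww)
    (c := c0 - d) ?_ ?_
  · rw [hc0]
    exact Submodule.sub_mem _
      (Submodule.add_mem _ (Submodule.smul_mem _ _ hw'W) (Submodule.smul_mem _ _ haW)) hzd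
  · rw [← hE, map_sub]
    linear_combination (norm := module) (-1 : F) • hy - hy'

theorem false_of_two (hb : Big Q) (hreg : ∀ u, u ≠ 0 → Q u = 0 → Reg H u) {u v : V}
    {z : commutator (OQ Q) → V} (hz : IsLift H u v z) (hu : Q u = 0) (hv : Q v = 0)
    (huv : polar Q u v = 1) (h2 : (2 : F) = 0) (h01 : ∀ x : F, x ≠ 0 → x = 1) : False := by
  obtain ⟨w, w', e, f, c, hw, hw', he, hf, hc, hww, hef, hin, hin', hec, hfc⟩ :=
    exists_frame hb hu hv huv
  have hfe : polar Q f e = 1 := by rw [QuadraticMap.polar_comm]; exact hef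
  have hQc : Q c = 1 := h01 _ hc
  obtain ⟨x, hx⟩ : ∃ x, x = e + f := ⟨_, rfl⟩
  obtain ⟨y, hy⟩ : ∃ y, y = e + c := ⟨_, rfl⟩
  have hQx : Q x = 1 := by rw [hx, apply_add, he, hf, hef]; ring
  have hQy : Q y = 1 := by rw [hy, apply_add, he, hQc, hec]; ring
  have hxy : polar Q x y = 1 := by
    simp only [hx, hy, polar_add_left', polar_add_right', polar_self', he, hfe, hec, hfc]; ring
  have hyx : polar Q y x = 1 := by rw [QuadraticMap.polar_comm]; exact hxy
  have hperp : ∀ t, polar Q t e = 0 → polar Q t f = 0 → polar Q t c = 0 →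
      polar Q t x = 0 ∧ polar Q t y = 0 := by
    intro t h1 h4 h5
    simp [hx, hy, polar_add_right', h1, h4, h5]
  obtain ⟨hux, huy⟩ := hperp u (hin e (by simp)).1 (hin f (by simp)).1 (hin c (by simp)).1
  obtain ⟨hvx, hvy⟩ := hperp v (hin e (by simp)).2 (hin f (by simp)).2 (hin c (by simp)).2
  obtain ⟨hwx, hwy⟩ := hperp w (hin' e (by simp)).1 (hin' f (by simp)).1 (hin' c (by simp)).1
  obtain ⟨hw'x, hw'y⟩ := hperp w' (hin' e (by simp)).2 (hin' f (by simp)).2 (hin' c (by simp)).2
  have hxw : polar Q x w = 0 := by rw [QuadraticMap.polar_comm]; exact hwx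
  have hyw : polar Q y w = 0 := by rw [QuadraticMap.polar_comm]; exact hwy
  have hw'w : polar Q w' w = 1 := by rw [QuadraticMap.polar_comm]; exact hww
  have hwW : w ∈ WW Q u v := mem_WW.2 (hin w (by simp))
  have hw'W : w' ∈ WW Q u v := mem_WW.2 (hin w' (by simp))
  have hxW : x ∈ WW Q u v := mem_WW.2 ⟨hux, hvx⟩
  have hyW : y ∈ WW Q u v := mem_WW.2 ⟨huy, hvy⟩
  obtain ⟨s, hs⟩ := exists_rr hb (a := x) (b := y) (by rw [hQx]; exact one_ne_zero) (by rw [hQy, hQx])
  have n3 : (3 : F) = 1 := by linear_combination h2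
  have n4 : (4 : F) = 0 := by linear_combination 2 * h2
  have n5 : (5 : F) = 1 := by linear_combination 2 * h2
  have n6 : (6 : F) = 0 := by linear_combination 3 * h2
  have n8 : (8 : F) = 0 := by linear_combination 4 * h2
  have n10 : (10 : F) = 0 := by linear_combination 5 * h2
  have n7 : (7 : F) = 1 := by linear_combination 3 * h2
  have n9 : (9 : F) = 1 := by linear_combination 4 * h2
  have := charP_two_of_eq_zero h2
  have hs1 : ∀ t, ap s t = t + (polar Q t x + polar Q t y) • x + polar Q t y • y := by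
    intro t
    rw [hs, QuadraticMap.polar_sub_left, polar_smul_left', hyx, hQx]
    match_scalars
    · ring
    · linear_combination (-(polar Q t y)) * h2
    · linear_combination (-(polar Q t x)) * h2
  have hsfix : ∀ t, polar Q t x = 0 → polar Q t y = 0 → ap s t = t := fun t h1 h4 => by
    rw [hs1, h1, h4]; simp
  have hsu := hsfix u hux huy
  have hsv := hsfix v hvx hvy
  have hsw := hsfix w hwx hwy
  have hsx : ap s x = y := by
    rw [hs1, polar_self', hxy, hQx]
    match_scalars <;> ring_nf <;> simp [n3, n4, n5, n6, n7, n8, n9, n10, h2, CharTwo.neg_eq, CharTwo.sub_eq_add]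
  have hsy : ap s y = x + y := by
    rw [hs1, polar_self', hyx, hQy]
    match_scalars <;> ring_nf <;> simp [n3, n4, n5, n6, n7, n8, n9, n10, h2, CharTwo.neg_eq, CharTwo.sub_eq_add]
  have hs3 : ∀ t, ap s (ap s (ap s t)) = t := by
    intro t
    conv_lhs => rw [hs1 t]
    simp only [map_add, map_smul, hsx, hsy]
    rw [hs1 (ap s t), hs1 t]
    simp only [map_add, map_smul, hsx, hsy, polar_add_left', polar_smul_left', polar_self', hQx,
      hQy, hxy, hyx]
    match_scalars <;> ring_nf <;> simp [n3, n4, n5, n6, n7, n8, n9, n10, h2, CharTwo.neg_eq, CharTwo.sub_eq_add]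
  have two : ∀ t : V, t + t = 0 := fun t => by
    rw [← one_smul F t, ← add_smul, show (1 : F) + 1 = 0 by linear_combination h2, zero_smul]
  have hsss : s * (s * s) = 1 := ap_ext fun t => by rw [ap_mul, ap_mul, ap_one, hs3]
  have hsum : z s + (ap s (z s) + ap s (ap s (z s))) = 0 := by
    have hu2 : ap (s * s) u = u := by rw [ap_mul, hsu, hsu]
    have := congrArg z hsss
    rw [hz.mul hb hu hsu hsv, hz.mul hb hu hsu hsv, hz.map_one hb hu, map_add] at this
    exact this
  obtain ⟨d, hd⟩ : ∃ d, d = ap s (z s) := ⟨_, rfl⟩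
  have hd1 : d - ap s d = z s := by
    rw [hd]
    linear_combination (norm := module) (-1 : F) • hsum + two (ap s (z s))
  have hdW : d ∈ WW Q u v := by rw [hd]; exact ap_fix_WW hsu hsv (hz.1 s).1
  obtain ⟨hxu, hxv⟩ := El_fix_pair hb hw hwx hwW hxW
  obtain ⟨hyu, hyv⟩ := El_fix_pair hb hw hwy hwW hyW
  obtain ⟨A, hA⟩ : ∃ A, A = z (El Q w x) - (d - ap (El Q w x) d) := ⟨_, rfl⟩
  have step : ∀ p, polar Q w p = 0 → p ∈ WW Q u v →
      z (El Q w (ap s p)) - (d - ap (El Q w (ap s p)) d) =
        ap s (z (El Q w p) - (d - ap (El Q w p) d)) := by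
    intro p hp hpW
    have hp' : polar Q w (ap s p) = 0 := by rw [← hsw, ap_polar]; exact hp
    obtain ⟨h1, h4⟩ := El_fix_pair hb hw hp' hwW (ap_fix_WW hsu hsv hpW)
    have hc1 := conj_El hb s hw hp
    rw [hsw] at hc1
    have hse : s * El Q w p = El Q w (ap s p) * s := mul_inv_eq_iff_eq_mul.1 hc1
    have h := congrArg z hse
    rw [hz.mul hb hu hsu hsv, hz.mul hb hu h1 h4, ← hd1, map_sub] at h
    have h6 : ap s (ap (El Q w p) d) = ap (El Q w (ap s p)) (ap s d) := by
      rw [← ap_mul, ← ap_mul, hse]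
    rw [map_sub, map_sub, h6]
    linear_combination (norm := module) (-1 : F) • h
  have a1 := step x hwx hxW
  rw [hsx, ← hA] at a1
  have a2 := step y hwy hyW
  rw [hsy, a1] at a2
  have hxyp : polar Q w (x + y) = 0 := by rw [polar_add_right', hwx, hwy, add_zero]
  have e1 : ap s (ap s A) = A + ap (El Q w x) (ap s A) := by
    rw [← a2, ← a1, hA, El_add hwx hwy, hz.mul hb hu hxu hxv, ap_mul, map_sub, map_sub]
    module
  have e2 : ap s (ap s A) = ap s A + ap (El Q w y) A := by
    rw [← a2, ← a1, hA, show x + y = y + x from add_comm _ _, El_add hwy hwx,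
      hz.mul hb hu hyu hyv, ap_mul, map_sub, map_sub]
    module
  have hQ01 : ∀ t, ap (El Q w x) t = t + (polar Q t x + polar Q t w) • w + polar Q t w • x := by
    intro t
    rw [ap_El hb hw hwx, hQx]
    match_scalars <;> ring_nf <;> simp [n3, n4, n5, n6, n7, n8, n9, n10, h2, CharTwo.neg_eq, CharTwo.sub_eq_add]
  have hQ02 : ∀ t, ap (El Q w y) t = t + (polar Q t y + polar Q t w) • w + polar Q t w • y := by
    intro t
    rw [ap_El hb hw hwy, hQy]
    match_scalars <;> ring_nf <;> simp [n3, n4, n5, n6, n7, n8, n9, n10, h2, CharTwo.neg_eq, CharTwo.sub_eq_add]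
  -- `A` lies in the span of `w`, `x`, `y`
  obtain ⟨p, r, t, hA'⟩ : ∃ p r t : F, A = p • w + r • x + t • y := by
    have h := e1
    rw [hQ01] at h
    have hss : ap s (ap s A) =
        ap s A + (polar Q A x + polar Q A y) • y + polar Q A y • (x + y) := by
      conv_lhs => rw [hs1 A]
      rw [map_add, map_add, map_smul, map_smul, hsx, hsy]
    rw [hss] at h
    exact ⟨-(polar Q (ap s A) x + polar Q (ap s A) w), polar Q A y - polar Q (ap s A) w,
      polar Q A x + polar Q A y + polar Q A y, by linear_combination (norm := module) (-1 : F) • h⟩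
  rw [hA'] at e1 e2
  simp only [hs1, hQ01, hQ02, map_add, map_smul, hsx, hsy, hsw, polar_add_left', polar_smul_left',
    polar_self', hQx, hQy, hxy, hyx, hxw, hyw, hwx, hwy, hw] at e1 e2
  have k1 := congrArg (fun q => polar Q q w') e1
  have k2 := congrArg (fun q => polar Q q w') e2
  have k3 := congrArg (fun q => polar Q q x) e2
  have hxw' : polar Q x w' = 0 := by rw [QuadraticMap.polar_comm]; exact hw'x
  have hyw' : polar Q y w' = 0 := by rw [QuadraticMap.polar_comm]; exact hw'y
  simp only [polar_add_left', polar_smul_left', hww, hxw', hyw', hwx, hwy, polar_self', hQx, hyx,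
    hxy] at k1 k2 k3
  have hpr : p = r := by
    ring_nf at k2
    simp [n3, n4, n5, n6, n7, n8, n9, n10, h2, CharTwo.neg_eq, CharTwo.sub_eq_add] at k2
    first | exact k2 | exact k2.symm
  have ht : t = 0 := by
    ring_nf at k1
    simp [n3, n4, n5, n6, n7, n8, n9, n10, h2, CharTwo.neg_eq, CharTwo.sub_eq_add, hpr] at k1
    first | exact k1 | exact k1.symm
  have hAe : A = r • (w + x) := by rw [hA', hpr, ht]; module
  refine hz.false_of_coboundary hb hreg hu hw hwx hwW hxW ?_ (fun e0 => by simp [e0] at hww)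
    (c := r • w' - d) (Submodule.sub_mem _ (Submodule.smul_mem _ _ hw'W) hdW) ?_
  · intro h
    obtain ⟨k, hk⟩ := Submodule.mem_span_singleton.1 h
    have := congrArg Q hk
    rw [apply_smul, hw, mul_zero, hQx] at this
    exact zero_ne_one this
  · have : ap (El Q w x) (r • w') - r • w' = A := by
      rw [map_smul, hQ01, hw'x, hw'w, hAe]
      module
    rw [map_sub]
    linear_combination (norm := module) (-1 : F) • hA - this

/-- Some element of an Eichler group lies in a subgroup of small index. -/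
theorem exists_not_reg (hb : Big Q)
    (hidx : H.index < 2 * Nat.card F ^ (Module.finrank F V - 2)) :
    ∃ u, u ≠ 0 ∧ Q u = 0 ∧ ¬ Reg H u := by
  by_contra hc
  push Not at hc
  obtain ⟨u, hu0, hu⟩ := exists_singular hb.nd (by have := hb.dim; omega)
  obtain ⟨v, hv, huv⟩ := exists_partner_of_singular hb.nd hu hu0
  obtain ⟨z, hz⟩ := exists_isLift hb hc hidx hu huv
  by_cases h4 : ∃ l : F, l ≠ 0 ∧ l * l ≠ 1
  · obtain ⟨l, hl, hl1⟩ := h4
    exact false_of_four hb hc hz hu hv huv hl hl1
  push Not at h4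
  have hsq : ∀ x : F, x ≠ 0 → x = 1 ∨ x = -1 := fun x hx => mul_self_eq_one_iff.1 (h4 x hx)
  by_cases h2 : (2 : F) = 0
  · refine false_of_two hb hc hz hu hv huv h2 fun x hx => ?_
    rcases hsq x hx with h | h
    · exact h
    · rw [h]; linear_combination -h2
  · refine false_of_three hb hc hz hu hv huv ?_
    rcases hsq 2 h2 with h | h
    · exact absurd (by linear_combination h : (1 : F) = 0) one_ne_zero
    · linear_combination h

end

end CfsgLib.MinIndexOrth
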