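import Cfsg.Agent.Lib.Known.MinIndexOrth.FullBound
import Cfsg.Agent.Lib.Known.MinIndexOrth.RegSmall

/-!
The lower bound for the index of a proper subgroup.
-/

set_option autoImplicit false

namespace CfsgLib.MinIndexOrth

open CfsgLib.Classical.Quad
open QuadraticMap (polar polarBilin)
open scoped _root_.Classical

noncomputable section

variable {F : Type*} [Field F] {V : Type*} [AddCommGroup V] [Module F V] [FiniteDimensional F V]
  [Finite F] {Q : QuadraticForm F V} {H : Subgroup (commutator (OQ Q))} {p g i B S S₂ : ℕ}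

/-- A subgroup fixing a non-singular vector up to sign. -/
theorem card_value_le_index (hb : Big Q) {w : V} (hw : Q w ≠ 0)
    (hfix : ∀ k ∈ H, ∃ b : F, b * b = 1 ∧ ap k w = b • w) :
    Nat.card {x : V // Q x = Q w} ≤ H.index * Nat.card {b : F // b * b = 1} := by
  have : Finite V := Module.finite_of_finite F
  have := finite_OQ (Q := Q)
  have hmove : ∀ x : {x : V // Q x = Q w}, ∃ k : commutator (OQ Q), ap k w = x := by
    intro x
    obtain ⟨s, hs, hsu⟩ := exists_move_vector hb.nd hb.five hw x.2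
    rw [eichGroup_eq_commutator hb.nd hb.five] at hs
    exact ⟨⟨s, hs⟩, hsu⟩
  choose m hm using hmove
  have hout : ∀ x : {x : V // Q x = Q w}, ∃ b : F, b * b = 1 ∧
      ap (Quotient.out (QuotientGroup.mk (m x) : commutator (OQ Q) ⧸ H)) w = b • (x : V) := by
    intro x
    obtain ⟨k, hk⟩ := QuotientGroup.mk_out_eq_mul H (m x)
    obtain ⟨b, hb1, hb2⟩ := hfix _ k.2
    exact ⟨b, hb1, by rw [hk, ap_mul, hb2, map_smul, hm]⟩
  choose b hb1 hb2 using hout
  rw [Subgroup.index, ← Nat.card_prod]
  refine Nat.card_le_card_of_injective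
    (fun x => ((QuotientGroup.mk (m x) : commutator (OQ Q) ⧸ H),
      (⟨b x, hb1 x⟩ : {b : F // b * b = 1}))) fun x y e => ?_
  have e1 := (Prod.mk.injEq _ _ _ _).mp e
  have e2 : b x = b y := congrArg Subtype.val e1.2
  have h0 : b y ≠ 0 := fun h => by simpa [h] using hb1 y
  have := hb2 x
  rw [e1.1, hb2 y, e2] at this
  exact Subtype.ext (smul_right_injective V h0 this.symm)

theorem card_sq_one_le_two : Nat.card {b : F // b * b = 1} ≤ 2 := by
  refine le_trans (Nat.card_le_card_of_injective (β := ({1, -1} : Finset F))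
    (fun b => ⟨b, by rcases mul_self_eq_one_iff.1 b.2 with h | h <;> simp [h]⟩)
    fun a b e => Subtype.ext (congrArg Subtype.val e :)) ?_
  rw [Nat.card_eq_fintype_card, Fintype.card_coe]
  exact Finset.card_le_two

theorem card_sq_one_le_one (h2 : (2 : F) = 0) : Nat.card {b : F // b * b = 1} ≤ 1 := by
  have hone : ∀ b : F, b * b = 1 → b = 1 := by
    intro b hb
    rcases mul_self_eq_one_iff.1 hb with h | h
    · exact h
    · rw [h]; linear_combination (-1 : F) * h2
  have : Subsingleton {b : F // b * b = 1} :=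
    ⟨fun a b => Subtype.ext ((hone _ a.2).trans (hone _ b.2).symm)⟩
  exact Finite.card_le_one_iff_subsingleton.2 this

/-- The lower bound. -/
theorem Ctx.le_index (h : Ctx Q p g i S S₂)
    (num : Num (Nat.card F) p g (Module.finrank F V - 2) i B S S₂)
    (hval : ∀ c : F, c ≠ 0 → ((2 : F) = 0 → B ≤ Nat.card {x : V // Q x = c}) ∧
      ((2 : F) ≠ 0 → 2 * B ≤ Nat.card {x : V // Q x = c} + 1))
    (hH : H ≠ ⊤) : B ≤ H.index := by
  by_contra hidx
  push Not at hidx
  have hb := h.big
  have hnf : ∀ u, ¬ Full H u := fun u hu => absurd (h.full_bound num hH hu) (by omega)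
  have ht : Tri H := ⟨hnf, fun u hu0 hu => by
    rcases h.dich num hidx hu0 hu with hr | ⟨x, hx⟩ | hl
    · exact Or.inl hr
    · exact absurd hx (hnf x)
    · exact Or.inr hl⟩
  obtain ⟨u, hu0, hu, hnr⟩ := exists_not_reg (H := H) hb (lt_of_lt_of_le hidx num.lt_two)
  obtain ⟨w, hw⟩ := (ht.tri u hu0 hu).resolve_left hnr
  obtain ⟨w₀, hw₀, hfix⟩ := ht.exists_fixed hb hw
  have hc := card_value_le_index hb hw₀ hfix
  by_cases h2 : (2 : F) = 0
  · have := hc.trans (Nat.mul_le_mul_left _ (card_sq_one_le_one h2))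
    have := (hval _ hw₀).1 h2
    omega
  · have := hc.trans (Nat.mul_le_mul_left _ card_sq_one_le_two)
    have := (hval _ hw₀).2 h2
    omega

end

end CfsgLib.MinIndexOrth
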