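import Cfsg.Agent.Lib.Known.MinIndexOrth.Group

/-!
The stabiliser of a hyperbolic pair of lines and its transitivity on the complement.
-/

set_option autoImplicit false

namespace CfsgLib.MinIndexOrth

open CfsgLib.Classical.Quad
open CfsgLib.Known.SpinMinus (orth mem_orth mem_orth_span finrank_orth exists_core)
open QuadraticMap (polar polarBilin)

noncomputable section

variable {F : Type*} [Field F] {V : Type*} [AddCommGroup V] [Module F V] [FiniteDimensional F V]
  [Finite F] {Q : QuadraticForm F V}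

/-- `g` scales `u` by `l` and `v` by `l⁻¹`. -/
def Lev (u v : V) (g : commutator (OQ Q)) (l : F) : Prop :=
  l ≠ 0 ∧ ap g u = l • u ∧ ap g v = l⁻¹ • v

theorem Lev.one (u v : V) : Lev u v (1 : commutator (OQ Q)) 1 :=
  ⟨one_ne_zero, by rw [one_smul]; rfl, by rw [inv_one, one_smul]; rfl⟩

theorem Lev.mul {u v : V} {g g' : commutator (OQ Q)} {l l' : F} (h : Lev u v g l)
    (h' : Lev u v g' l') : Lev u v (g * g') (l * l') :=
  ⟨mul_ne_zero h.1 h'.1, by rw [ap_mul, h'.2.1, map_smul, h.2.1, smul_smul, mul_comm l],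
    by rw [ap_mul, h'.2.2, map_smul, h.2.2, smul_smul, mul_inv, mul_comm l⁻¹]⟩

theorem Lev.inv {u v : V} {g : commutator (OQ Q)} {l : F} (h : Lev u v g l) : Lev u v g⁻¹ l⁻¹ := by
  refine ⟨inv_ne_zero h.1, (ap g).injective ?_, (ap g).injective ?_⟩
  · rw [ap_apply_inv, map_smul, h.2.1, inv_smul_smul₀ h.1]
  · rw [ap_apply_inv, map_smul, h.2.2, inv_inv, smul_inv_smul₀ h.1]

theorem Lev.mem_WW {u v : V} {g : commutator (OQ Q)} {l : F} (h : Lev u v g l) {x : V}
    (hx : x ∈ WW Q u v) : ap g x ∈ WW Q u v := by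
  rw [MinIndexOrth.mem_WW] at hx ⊢
  have h1 : polar Q (ap g u) (ap g x) = 0 := by rw [ap_polar]; exact hx.1
  have h2 : polar Q (ap g v) (ap g x) = 0 := by rw [ap_polar]; exact hx.2
  rw [h.2.1, polar_smul_left'] at h1
  rw [h.2.2, polar_smul_left'] at h2
  exact ⟨(mul_eq_zero.1 h1).resolve_left h.1, (mul_eq_zero.1 h2).resolve_left (inv_ne_zero h.1)⟩

theorem Lev.scalar_unique (hb : Big Q) {u v : V} (huv : polar Q u v = 1)
    {g : commutator (OQ Q)} {l l' : F} (h : Lev u v g l) (h' : Lev u v g l') : l = l' := by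
  have e := congrArg (fun x => polar Q x v) (h.2.1.symm.trans h'.2.1)
  simpa [polar_smul_left', huv] using e

/-- Values attained perpendicular to a subspace with small radical. -/
theorem univ_perp (hb : Big Q) (S : Submodule F V)
    (h : Module.finrank F S + Module.finrank F (S ⊓ orth Q S : Submodule F V) + 2 ≤ Module.finrank F V)
    (c : F) (hc : c ≠ 0) : ∃ r, Q r = c ∧ ∀ x ∈ S, polar Q x r = 0 := by
  obtain ⟨K, hK, hn, hd⟩ := exists_core hb.nd S
  obtain ⟨r, hr⟩ := exists_apply_eq hn (by omega) hc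
  exact ⟨r, hr, fun x hx => hK r.2 x hx⟩

variable {u v : V}

theorem rad_le_span (hu : Q u = 0) (hv : Q v = 0) (huv : polar Q u v = 1) {s : Set V}
    (hs : ∀ x ∈ s, x ∈ WW Q u v) :
    (Submodule.span F (insert u (insert v s)) ⊓ orth Q (Submodule.span F (insert u (insert v s))) :
      Submodule F V) ≤ Submodule.span F s ⊓ orth Q (Submodule.span F s) := by
  rintro x ⟨hx, hx'⟩
  rw [SetLike.mem_coe, Submodule.mem_span_insert] at hx
  obtain ⟨a, y, hy, rfl⟩ := hx
  rw [Submodule.mem_span_insert] at hy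
  obtain ⟨b, z, hz, rfl⟩ := hy
  rw [SetLike.mem_coe, mem_orth_span] at hx'
  have hzW : z ∈ WW Q u v := (Submodule.span_le.2 hs : _ ≤ WW Q u v) hz
  rw [MinIndexOrth.mem_WW] at hzW
  have e1 := hx' u (Set.mem_insert _ _)
  have e2 := hx' v (Set.mem_insert_of_mem _ (Set.mem_insert _ _))
  have hvu : polar Q v u = 1 := by rw [QuadraticMap.polar_comm]; exact huv
  simp only [polar_add_right', polar_smul_right', polar_self', hu, hv, huv, hvu, hzW.1, hzW.2,
    mul_zero, mul_one, add_zero, zero_add] at e1 e2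
  rw [e1, e2, zero_smul, zero_smul, zero_add, zero_add]
  refine ⟨hz, ?_⟩
  rw [SetLike.mem_coe, mem_orth_span]
  intro y hy
  have := hx' y (Set.mem_insert_of_mem _ (Set.mem_insert_of_mem _ hy))
  simpa [e1, e2] using this

theorem li_four (hu : Q u = 0) (hv : Q v = 0) (huv : polar Q u v = 1) {a b : V}
    (ha : a ∈ WW Q u v) (hb' : b ∈ WW Q u v) (hab : LinearIndependent F ![a, b]) :
    LinearIndependent F ![u, v, a, b] := by
  rw [MinIndexOrth.mem_WW] at ha hb'
  rw [Fintype.linearIndependent_iff]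
  intro g hg
  have h0 : g 0 • u + g 1 • v + g 2 • a + g 3 • b = 0 := by
    rw [Fin.sum_univ_four] at hg; simpa using hg
  have hvu : polar Q v u = 1 := by rw [QuadraticMap.polar_comm]; exact huv
  have e1 := congrArg (polar Q u) h0
  have e2 := congrArg (polar Q v) h0
  simp only [polar_add_right', polar_smul_right', polar_self', hu, hv, huv, hvu, ha.1, ha.2,
    hb'.1, hb'.2, QuadraticMap.polar_zero_right, mul_zero, mul_one, add_zero, zero_add] at e1 e2
  rw [e1, e2, zero_smul, zero_smul, zero_add, zero_add] at h0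
  obtain ⟨e3, e4⟩ := LinearIndependent.pair_iff.1 hab _ _ h0
  intro i
  fin_cases i <;> assumption

theorem li_three (hu : Q u = 0) (hv : Q v = 0) (huv : polar Q u v = 1) {a : V}
    (ha : a ∈ WW Q u v) (ha0 : a ≠ 0) : LinearIndependent F ![u, v, a] := by
  rw [MinIndexOrth.mem_WW] at ha
  rw [Fintype.linearIndependent_iff]
  intro g hg
  have h0 : g 0 • u + g 1 • v + g 2 • a = 0 := by
    rw [Fin.sum_univ_three] at hg; simpa using hg
  have hvu : polar Q v u = 1 := by rw [QuadraticMap.polar_comm]; exact huv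
  have e1 := congrArg (polar Q u) h0
  have e2 := congrArg (polar Q v) h0
  simp only [polar_add_right', polar_smul_right', polar_self', hu, hv, huv, hvu, ha.1, ha.2,
    QuadraticMap.polar_zero_right, mul_zero, mul_one, add_zero, zero_add] at e1 e2
  rw [e1, e2, zero_smul, zero_smul, zero_add, zero_add] at h0
  have e3 := (smul_eq_zero.1 h0).resolve_right ha0
  intro i
  fin_cases i <;> assumption

theorem exists_lev_one (hb : Big Q) (hu : Q u = 0) (hv : Q v = 0) (huv : polar Q u v = 1)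
    {a a' : V} (ha : a ∈ WW Q u v) (ha' : a' ∈ WW Q u v) (ha0 : a ≠ 0) (ha'0 : a' ≠ 0)
    (hq : Q a' = Q a) {l : F} (hl : l ≠ 0) :
    ∃ g : commutator (OQ Q), Lev u v g l ∧ ap g a = a' := by
  have hrad := Submodule.finrank_mono (rad_le_span (Q := Q) hu hv huv (s := {a}) (by simpa using ha))
  have h1 : Module.finrank F (Submodule.span F ({a} : Set V) ⊓ orth Q (Submodule.span F {a}) :
      Submodule F V) ≤ 1 :=
    le_trans (Submodule.finrank_mono inf_le_left) (le_of_eq (finrank_span_singleton ha0))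
  have h3 := CfsgLib.Known.SpinMinus.finrank_span_three hb.nd u v a
  have hdim := hb.dim
  have hl' : LinearIndependent F ![l • u, l⁻¹ • v, a'] := by
    have hA := li_three (Q := Q) (u := l • u) (v := l⁻¹ • v) (by rw [apply_smul, hu, mul_zero])
      (by rw [apply_smul, hv, mul_zero])
      (by rw [polar_smul_left', polar_smul_right', huv, mul_one, mul_inv_cancel₀ hl]) (a := a')
      (by
        rw [MinIndexOrth.mem_WW] at ha' ⊢
        exact ⟨by rw [polar_smul_left', ha'.1, mul_zero], by rw [polar_smul_left', ha'.2, mul_zero]⟩)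
      ha'0
    exact hA
  rw [MinIndexOrth.mem_WW] at ha ha'
  obtain ⟨g, hg⟩ := exists_omega_map hb ![u, v, a] ![l • u, l⁻¹ • v, a']
    (li_three hu hv huv (MinIndexOrth.mem_WW.2 ha) ha0) hl'
    (by
      intro i; fin_cases i
      · show Q (l • u) = Q u; rw [apply_smul, hu, mul_zero]
      · show Q (l⁻¹ • v) = Q v; rw [apply_smul, hv, mul_zero]
      · exact hq)
    (by
      intro i j
      fin_cases i <;> fin_cases j <;>
        simp [polar_self', apply_smul, hu, hv, huv, ha.1, ha.2, ha'.1, ha'.2, hq,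
          polar_smul_left', polar_smul_right', QuadraticMap.polar_comm (⇑Q) v u,
          QuadraticMap.polar_comm (⇑Q) a u, QuadraticMap.polar_comm (⇑Q) a v,
          QuadraticMap.polar_comm (⇑Q) a' u, QuadraticMap.polar_comm (⇑Q) a' v,
          mul_inv_cancel₀ hl, inv_mul_cancel₀ hl])
    (fun c hc => by
      obtain ⟨r, hr, hr'⟩ := univ_perp hb (Submodule.span F ({u, v, a} : Set V)) (by omega) c hc
      exact ⟨r, hr, fun i => hr' _ (Submodule.subset_span (by fin_cases i <;> simp))⟩)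
  exact ⟨g, ⟨hl, hg 0, hg 1⟩, hg 2⟩

theorem exists_lev_two (hb : Big Q) (hu : Q u = 0) (hv : Q v = 0) (huv : polar Q u v = 1)
    {a b a' b' : V} (ha : a ∈ WW Q u v) (hb₁ : b ∈ WW Q u v) (ha' : a' ∈ WW Q u v)
    (hb₂ : b' ∈ WW Q u v) (hli : LinearIndependent F ![a, b])
    (hli' : LinearIndependent F ![a', b']) (hqa : Q a' = Q a) (hqb : Q b' = Q b)
    (hp : polar Q a' b' = polar Q a b)
    (hrad : Module.finrank F (Submodule.span F ({a, b} : Set V) ⊓
      orth Q (Submodule.span F {a, b}) : Submodule F V) + 6 ≤ Module.finrank F V)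
    {l : F} (hl : l ≠ 0) :
    ∃ g : commutator (OQ Q), Lev u v g l ∧ ap g a = a' ∧ ap g b = b' := by
  have hrad' := Submodule.finrank_mono (rad_le_span (Q := Q) hu hv huv (s := {a, b})
    (by rintro x (rfl | rfl) <;> assumption))
  have h4 := CfsgLib.Known.SpinMinus.finrank_span_four hb.nd u v a b
  have hl' : LinearIndependent F ![l • u, l⁻¹ • v, a', b'] := by
    refine li_four (Q := Q) (by rw [apply_smul, hu, mul_zero]) (by rw [apply_smul, hv, mul_zero])
      (by rw [polar_smul_left', polar_smul_right', huv, mul_one, mul_inv_cancel₀ hl]) ?_ ?_ hli'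
    all_goals rw [MinIndexOrth.mem_WW] at ha' hb₂ ⊢
    · exact ⟨by rw [polar_smul_left', ha'.1, mul_zero], by rw [polar_smul_left', ha'.2, mul_zero]⟩
    · exact ⟨by rw [polar_smul_left', hb₂.1, mul_zero], by rw [polar_smul_left', hb₂.2, mul_zero]⟩
  have hl0 := li_four (Q := Q) hu hv huv ha hb₁ hli
  rw [MinIndexOrth.mem_WW] at ha hb₁ ha' hb₂
  obtain ⟨g, hg⟩ := exists_omega_map hb ![u, v, a, b] ![l • u, l⁻¹ • v, a', b'] hl0 hl'
    (by
      intro i; fin_cases i
      · show Q (l • u) = Q u; rw [apply_smul, hu, mul_zero]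
      · show Q (l⁻¹ • v) = Q v; rw [apply_smul, hv, mul_zero]
      · exact hqa
      · exact hqb)
    (by
      have hp' : polar Q b' a' = polar Q b a := by
        rw [QuadraticMap.polar_comm, hp, QuadraticMap.polar_comm]
      intro i j
      fin_cases i <;> fin_cases j <;>
        simp [polar_self', apply_smul, hu, hv, huv, ha.1, ha.2, ha'.1, ha'.2, hb₁.1, hb₁.2,
          hb₂.1, hb₂.2, hqa, hqb, hp, hp',
          polar_smul_left', polar_smul_right', QuadraticMap.polar_comm (⇑Q) v u,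
          QuadraticMap.polar_comm (⇑Q) a u, QuadraticMap.polar_comm (⇑Q) a v,
          QuadraticMap.polar_comm (⇑Q) a' u, QuadraticMap.polar_comm (⇑Q) a' v,
          QuadraticMap.polar_comm (⇑Q) b u, QuadraticMap.polar_comm (⇑Q) b v,
          QuadraticMap.polar_comm (⇑Q) b' u, QuadraticMap.polar_comm (⇑Q) b' v,
          mul_inv_cancel₀ hl, inv_mul_cancel₀ hl])
    (fun c hc => by
      obtain ⟨r, hr, hr'⟩ := univ_perp hb (Submodule.span F ({u, v, a, b} : Set V)) (by omega) c hc
      exact ⟨r, hr, fun i => hr' _ (Submodule.subset_span (by fin_cases i <;> simp))⟩)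
  exact ⟨g, ⟨hl, hg 0, hg 1⟩, hg 2, hg 3⟩

/-- Transitivity on perpendicular singular pairs, up to the scaling attached to `l`. -/
theorem exists_lev_perp (hb : Big Q) (hu : Q u = 0) (hv : Q v = 0) (huv : polar Q u v = 1)
    {e x e₂ x₂ : V} (he : e ∈ WW Q u v) (hx : x ∈ WW Q u v) (he₂ : e₂ ∈ WW Q u v)
    (hx₂ : x₂ ∈ WW Q u v) (hli : LinearIndependent F ![e, x])
    (hli' : LinearIndependent F ![e₂, x₂]) (hQe : Q e = 0) (hQx : Q x = 0) (hex : polar Q e x = 0)
    (hQe₂ : Q e₂ = 0) (hQx₂ : Q x₂ = 0) (hex₂ : polar Q e₂ x₂ = 0) (f : F → F)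
    (hf : ∀ l, l ≠ 0 → f l ≠ 0) :
    ∃ (g : commutator (OQ Q)) (l : F), Lev u v g l ∧ f l • ap g e = e₂ ∧ f l • ap g x = x₂ := by
  have hn : 2 ≤ Module.finrank F V := by have := hb.dim; omega
  have hl0 := li_four (Q := Q) hu hv huv he hx hli
  have hl2 := li_four (Q := Q) hu hv huv he₂ hx₂ hli'
  rw [MinIndexOrth.mem_WW] at he hx he₂ hx₂
  obtain ⟨g₀, hg₀⟩ := exists_map_tuple hb ![u, v, e, x] ![u, v, e₂, x₂] hl0 hl2
    (by
      intro i; fin_cases i
      · rfl
      · rfl
      · show Q e₂ = Q e; rw [hQe, hQe₂]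
      · show Q x₂ = Q x; rw [hQx, hQx₂])
    (by
      intro i j
      fin_cases i <;> fin_cases j <;>
        simp [polar_self', he.1, he.2, hx.1, hx.2, he₂.1, he₂.2, hx₂.1, hx₂.2, hQe, hQx, hQe₂,
          hQx₂, hex, hex₂, QuadraticMap.polar_comm (⇑Q) x e, QuadraticMap.polar_comm (⇑Q) x₂ e₂,
          QuadraticMap.polar_comm (⇑Q) e u, QuadraticMap.polar_comm (⇑Q) e v,
          QuadraticMap.polar_comm (⇑Q) x u, QuadraticMap.polar_comm (⇑Q) x v,
          QuadraticMap.polar_comm (⇑Q) e₂ u, QuadraticMap.polar_comm (⇑Q) e₂ v,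
          QuadraticMap.polar_comm (⇑Q) x₂ u, QuadraticMap.polar_comm (⇑Q) x₂ v])
  obtain ⟨r, hr0, hr⟩ : ∃ r, Q r ≠ 0 ∧ ∀ i, polar Q (![u, v, e, x] i) r = 0 := by
    have hrad := Submodule.finrank_mono (rad_le_span (Q := Q) hu hv huv (s := {e, x})
      (by rintro y (rfl | rfl) <;> rw [MinIndexOrth.mem_WW] <;> assumption))
    have h2 := CfsgLib.Known.SpinMinus.finrank_span_two hb.nd e x
    have h1 := Submodule.finrank_mono (inf_le_left :
      Submodule.span F ({e, x} : Set V) ⊓ orth Q (Submodule.span F {e, x}) ≤ _)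
    have h4 := CfsgLib.Known.SpinMinus.finrank_span_four hb.nd u v e x
    have hdim := hb.dim
    obtain ⟨K, hK, hn', hd⟩ := exists_core hb.nd (Submodule.span F ({u, v, e, x} : Set V))
    have : Nontrivial K := Module.nontrivial_of_finrank_pos (R := F) (by omega)
    obtain ⟨r, hr⟩ := exists_apply_ne_zero hn'
    exact ⟨r, hr, fun i => hK r.2 _ (Submodule.subset_span (by fin_cases i <;> simp))⟩
  have key : ∀ z : ZMod 2, z = 1 ∨ z = 0 := by decide
  obtain ⟨g₁, hg₁, hpar⟩ : ∃ g₁ : OQ Q, (∀ i, (g₁ : V ≃ₗ[F] V) (![u, v, e, x] i) = ![u, v, e₂, x₂] i) ∧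
      (invHom hb.nd hb.reflTop g₁).1 = 1 := by
    rcases key (Multiplicative.toAdd (invHom hb.nd hb.reflTop g₀).1) with h | h
    · refine ⟨g₀ * refl hr0, fun i => ?_, ?_⟩
      · show (g₀ : V ≃ₗ[F] V) (((refl hr0 : OQ Q) : V ≃ₗ[F] V) _) = _
        rw [refl_apply, hr i, mul_zero, zero_smul, sub_zero, hg₀]
      · rw [map_mul, invHom_refl]
        apply Multiplicative.toAdd.injective
        show Multiplicative.toAdd (invHom hb.nd hb.reflTop g₀).1 + 1 = 0
        rw [h]
        decide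
    · exact ⟨g₀, hg₀, Multiplicative.toAdd.injective h⟩
  obtain ⟨l, hl, hls⟩ := exists_sqc_eq (invHom hb.nd hb.reflTop g₁).2
  have hm : (f l)⁻¹ ≠ 0 := inv_ne_zero (hf l hl)
  obtain ⟨d₁, d1u, d1v, d1z, d1i⟩ := exists_dil hb hu hv huv hl
  have hperpU : ∀ (s : Set V) (t : V), (∀ y ∈ s, polar Q y t = 0) →
      ∀ y ∈ Submodule.span F s, polar Q y t = 0 := fun s t h y hy =>
    mem_orth.1 (mem_orth_span.2 h : t ∈ orth Q (Submodule.span F s)) y hy
  have heU : ∀ y ∈ Submodule.span F ({u, v, x} : Set V), polar Q y e = 0 := by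
    refine hperpU _ _ ?_
    rintro y (rfl | rfl | rfl)
    · exact he.1
    · exact he.2
    · rw [QuadraticMap.polar_comm]; exact hex
  have henU : e ∉ Submodule.span F ({u, v, x} : Set V) := by
    intro h
    simp only [Submodule.mem_span_insert, Submodule.mem_span_singleton] at h
    obtain ⟨a, _, ⟨b, _, ⟨c, rfl⟩, rfl⟩, hh⟩ := h
    have e1 := Fintype.linearIndependent_iff.1 hl0 ![a, b, -1, c] (by
      rw [Fin.sum_univ_four]
      simp only [Matrix.cons_val_zero, Matrix.cons_val_one, Matrix.cons_val_two,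
        Matrix.cons_val_three, Matrix.head_cons, Matrix.tail_cons]
      rw [hh]; module) 2
    simp at e1
  obtain ⟨e', he', hee', he'U⟩ := exists_singular_partner hb.nd hQe heU henU
  have hxU : ∀ y ∈ Submodule.span F ({u, v, e, e'} : Set V), polar Q y x = 0 := by
    refine hperpU _ _ ?_
    rintro y (rfl | rfl | rfl | rfl)
    · exact hx.1
    · exact hx.2
    · exact hex
    · rw [QuadraticMap.polar_comm]; exact he'U x (Submodule.subset_span (by simp))
  have hxnU : x ∉ Submodule.span F ({u, v, e, e'} : Set V) := by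
    intro h
    simp only [Submodule.mem_span_insert, Submodule.mem_span_singleton] at h
    obtain ⟨a, _, ⟨b, _, ⟨c, _, ⟨d, rfl⟩, rfl⟩, rfl⟩, hh⟩ := h
    have hd : d = 0 := by
      have := congrArg (polar Q e) hh
      simpa [polar_add_right', polar_smul_right', polar_self', hQe, hex, hee',
        QuadraticMap.polar_comm (⇑Q) e u, QuadraticMap.polar_comm (⇑Q) e v, he.1, he.2,
        eq_comm] using this
    rw [hd, zero_smul, add_zero] at hh
    have e1 := Fintype.linearIndependent_iff.1 hl0 ![a, b, c, -1] (by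
      rw [Fin.sum_univ_four]
      simp only [Matrix.cons_val_zero, Matrix.cons_val_one, Matrix.cons_val_two,
        Matrix.cons_val_three, Matrix.head_cons, Matrix.tail_cons]
      rw [hh]; module) 3
    simp at e1
  obtain ⟨x', hx', hxx', hx'U⟩ := exists_singular_partner hb.nd hQx hxU hxnU
  obtain ⟨d₂, d2e, -, d2z, d2i⟩ := exists_dil hb hQe he' hee' hm
  obtain ⟨d₃, d3x, -, d3z, d3i⟩ := exists_dil hb hQx hx' hxx' hm
  have hmem : g₁ * (d₁ * d₂ * d₃) ∈ commutator (OQ Q) := by
    rw [← ker_invHom_eq_commutator hb.nd hb.reflTop hn, MonoidHom.mem_ker, map_mul, map_mul,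
      map_mul, d1i, d2i, d3i]
    refine Prod.ext ?_ ?_
    · show (invHom hb.nd hb.reflTop g₁).1 * (1 * 1 * 1) = 1
      rw [hpar]; simp
    · show (invHom hb.nd hb.reflTop g₁).2 * (sqc l * sqc (f l)⁻¹ * sqc (f l)⁻¹) = 1
      rw [← hls, mul_assoc (sqc l), sqClass_mul_self, mul_one, sqClass_mul_self]
  have hue : polar Q u e' = 0 := he'U u (Submodule.subset_span (by simp))
  have hve : polar Q v e' = 0 := he'U v (Submodule.subset_span (by simp))
  have hxe : polar Q x e' = 0 := he'U x (Submodule.subset_span (by simp))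
  have hux : polar Q u x' = 0 := hx'U u (Submodule.subset_span (by simp))
  have hvx : polar Q v x' = 0 := hx'U v (Submodule.subset_span (by simp))
  have hex' : polar Q e x' = 0 := hx'U e (Submodule.subset_span (by simp))
  have happ : ∀ z, ap (⟨_, hmem⟩ : commutator (OQ Q)) z =
      (g₁ : V ≃ₗ[F] V) ((d₁ : V ≃ₗ[F] V) ((d₂ : V ≃ₗ[F] V) ((d₃ : V ≃ₗ[F] V) z))) := fun z => rfl
  have g1u : (g₁ : V ≃ₗ[F] V) u = u := hg₁ 0
  have g1v : (g₁ : V ≃ₗ[F] V) v = v := hg₁ 1
  have g1e : (g₁ : V ≃ₗ[F] V) e = e₂ := hg₁ 2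
  have g1x : (g₁ : V ≃ₗ[F] V) x = x₂ := hg₁ 3
  refine ⟨⟨_, hmem⟩, l, ⟨hl, ?_, ?_⟩, ?_, ?_⟩
  · rw [happ, d3z u hx.1 hux, d2z u he.1 hue, d1u, map_smul, g1u]
  · rw [happ, d3z v hx.2 hvx, d2z v he.2 hve, d1v, map_smul, g1v]
  · rw [happ, d3z e hex hex', d2e, map_smul,
      d1z e (by rw [QuadraticMap.polar_comm]; exact he.1) (by rw [QuadraticMap.polar_comm]; exact he.2),
      map_smul, g1e, smul_inv_smul₀ (hf l hl)]
  · rw [happ, d3x, map_smul, d2z x (by rw [QuadraticMap.polar_comm]; exact hex) hxe, map_smul,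
      d1z x (by rw [QuadraticMap.polar_comm]; exact hx.1) (by rw [QuadraticMap.polar_comm]; exact hx.2),
      map_smul, g1x, smul_inv_smul₀ (hf l hl)]

end

end CfsgLib.MinIndexOrth
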