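import Cfsg.Agent.Lib.Known.MinIndexOrth.Subspace

/-!
Subspaces of dimension at least three over a prime field have large orbits.
-/

set_option autoImplicit false

namespace CfsgLib.MinIndexOrth

open CfsgLib.Classical.Quad
open CfsgLib.Known.SpinMinus (orth mem_orth mem_orth_span finrank_orth)
open QuadraticMap (polar polarBilin)
open scoped _root_.Classical

noncomputable section

variable {F : Type*} [Field F] {V : Type*} [AddCommGroup V] [Module F V] [FiniteDimensional F V]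
  [Finite F] {Q : QuadraticForm F V} {p g i S S₂ : ℕ} {u v : V}

/-- A subgroup over the prime field as a subspace. -/
theorem exists_submodule (h : Ctx Q p g i S S₂) (hq : Nat.card F = p) (A : AddSubgroup V) :
    ∃ U : Submodule F V, (U : Set V) = A := by
  have := h.char
  have : Fact p.Prime := ⟨h.prime⟩
  have hsurj : ∀ c : F, ∃ n : ℕ, (n : F) = c := by
    intro c
    obtain ⟨z, rfl⟩ : ∃ z : ZMod p, ZMod.castHom (dvd_refl p) F z = c := by
      refine ((Nat.bijective_iff_injective_and_card _).2 ⟨?_, ?_⟩).2 c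
      · exact RingHom.injective _
      · rw [hq, Nat.card_zmod]
    exact ⟨z.val, by rw [ZMod.castHom_apply, ← ZMod.natCast_val]⟩
  exact ⟨{ carrier := A
           add_mem' := A.add_mem
           zero_mem' := A.zero_mem
           smul_mem' := fun c x hx => by
            obtain ⟨n, rfl⟩ := hsurj c
            rw [Nat.cast_smul_eq_nsmul]
            exact A.nsmul_mem hx n }, rfl⟩

theorem card_affine_le (U : Submodule F V) {e : ℕ} (hU : Nat.card U = Nat.card F ^ e) {x y : V}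
    (hy : y ∈ U) (hxy : polar Q x y ≠ 0) (β : F) :
    Nat.card {z : V // z ∈ U ∧ polar Q x z = β} ≤ Nat.card F ^ (e - 1) := by
  have : Finite V := Module.finite_of_finite F
  have hq : 2 ≤ Nat.card F := Finite.one_lt_card
  let ψ : U →ₗ[F] F := (polarBilin Q x).comp U.subtype
  have hne : ψ ≠ 0 := fun e0 => hxy (LinearMap.congr_fun e0 ⟨y, hy⟩)
  have h1 := LinearMap.finrank_range_add_finrank_ker ψ
  have h2 : 1 ≤ Module.finrank F (LinearMap.range ψ) := by
    by_contra hc
    push Not at hc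
    exact hne (LinearMap.range_eq_bot.1 (Submodule.finrank_eq_zero.1 (by omega)))
  have h3 : Module.finrank F U = e := Nat.pow_right_injective hq
    ((Module.natCard_eq_pow_finrank (K := F) (V := U)).symm.trans hU)
  have h4 : Nat.card (LinearMap.ker ψ) ≤ Nat.card F ^ (e - 1) := by
    rw [Module.natCard_eq_pow_finrank (K := F)]
    exact Nat.pow_le_pow_right (by omega) (by omega)
  refine le_trans ?_ h4
  by_cases hz : ∃ z₀ ∈ U, polar Q x z₀ = β
  · obtain ⟨z₀, hz₀, hzx⟩ := hz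
    refine Nat.card_le_card_of_injective (fun z => (⟨⟨(z : V) - z₀, U.sub_mem z.2.1 hz₀⟩, by
      show polar Q x ((z : V) - z₀) = 0
      rw [QuadraticMap.polar_sub_right, z.2.2, hzx, sub_self]⟩ : LinearMap.ker ψ)) ?_
    intro z z' e'
    exact Subtype.ext (sub_left_injective (congrArg (fun t : LinearMap.ker ψ => ((t : U) : V)) e' :))
  · have : IsEmpty {z : V // z ∈ U ∧ polar Q x z = β} := ⟨fun z => hz ⟨z, z.2.1, z.2.2⟩⟩
    rw [Nat.card_of_isEmpty]
    exact Nat.zero_le _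

theorem card_hyp_pairs_le (U : Submodule F V) {e : ℕ} (he : 1 ≤ e)
    (hU : Nat.card U = Nat.card F ^ e) {a b : V} (ha : a ∈ U) (hb' : b ∈ U) (hQa : Q a = 0)
    (hQb : Q b = 0) (hp : polar Q a b ≠ 0) :
    Nat.card {t : V × V // t.1 ∈ U ∧ t.2 ∈ U ∧ Q t.1 = 0 ∧ Q t.2 = 0 ∧
      polar Q t.1 t.2 = polar Q a b} ≤ nHyp (Nat.card F) e := by
  have : Finite V := Module.finite_of_finite F
  have hq : 2 ≤ Nat.card F := Finite.one_lt_card
  obtain ⟨β, hβ⟩ : ∃ β, β = polar Q a b := ⟨_, rfl⟩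
  rw [← hβ]
  rw [← hβ] at hp
  let A := {x : V // x ∈ U ∧ Q x = 0 ∧ x ≠ 0}
  have hfib : ∀ x : A, Nat.card {y : V // y ∈ U ∧ Q y = 0 ∧ polar Q (x : V) y = β} ≤
      if e = 3 then Nat.card F else Nat.card F ^ (e - 1) := by
    intro x
    by_cases hz : ∃ y ∈ U, Q y = 0 ∧ polar Q (x : V) y = β
    swap
    · have : IsEmpty {y : V // y ∈ U ∧ Q y = 0 ∧ polar Q (x : V) y = β} :=
        ⟨fun y => hz ⟨y, y.2.1, y.2.2.1, y.2.2.2⟩⟩
      rw [Nat.card_of_isEmpty]
      exact Nat.zero_le _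
    obtain ⟨y₀, hy₀, hQy, hxy⟩ := hz
    split
    · rename_i h3
      subst h3
      have he' : Q (β⁻¹ • y₀) = 0 := by rw [apply_smul, hQy, mul_zero]
      have hee : polar Q (x : V) (β⁻¹ • y₀) = 1 := by
        rw [polar_smul_right', hxy, inv_mul_cancel₀ hp]
      have hsplit := card_U_split (U := U) x.2.2.1 he' hee x.2.1 (U.smul_mem _ hy₀)
      rw [hU] at hsplit
      have hP : Nat.card (PP Q U (x : V) (β⁻¹ • y₀)) = Nat.card F :=
        (Nat.eq_of_mul_eq_mul_left (pow_pos (show 0 < Nat.card F by omega) 2)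
          (by rw [← hsplit]; ring)).symm
      rw [← hP]
      refine Nat.card_le_card_of_injective
        (fun y => ((splitEquiv x.2.2.1 he' hee x.2.1 (U.smul_mem _ hy₀)) ⟨(y : V), y.2.1⟩).2.2) ?_
      intro y y' h
      obtain ⟨s, hs⟩ : ∃ s, s = splitEquiv x.2.2.1 he' hee x.2.1 (U.smul_mem _ hy₀) := ⟨_, rfl⟩
      simp only [← hs] at h
      have key : ∀ y : {y : V // y ∈ U ∧ Q y = 0 ∧ polar Q (x : V) y = β},
          (s ⟨(y : V), y.2.1⟩).2.1 = β ∧
            (s ⟨(y : V), y.2.1⟩).1 * β + Q ((s ⟨(y : V), y.2.1⟩).2.2 : V) = 0 := by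
        intro y
        have e1 : (s ⟨(y : V), y.2.1⟩).2.1 = β := by
          rw [hs]
          show polar Q (y : V) (x : V) = β
          rw [QuadraticMap.polar_comm, y.2.2.2]
        refine ⟨e1, ?_⟩
        have e2 := apply_splitEquiv_symm (Q := Q) x.2.2.1 he' hee x.2.1 (U.smul_mem _ hy₀)
          (s ⟨(y : V), y.2.1⟩)
        rw [← hs, Equiv.symm_apply_apply, e1] at e2
        exact e2.symm.trans y.2.2.1
      obtain ⟨k1, k2⟩ := key y
      obtain ⟨k1', k2'⟩ := key y'
      have e3 : s ⟨(y : V), y.2.1⟩ = s ⟨(y' : V), y'.2.1⟩ := by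
        refine Prod.ext ?_ (Prod.ext (k1.trans k1'.symm) h)
        rw [h] at k2
        exact mul_right_cancel₀ hp (add_right_cancel (k2.trans k2'.symm))
      exact Subtype.ext (congrArg Subtype.val (s.injective e3) :)
    · refine le_trans (Nat.card_le_card_of_injective
        (fun y => (⟨(y : V), y.2.1, y.2.2.2⟩ : {z : V // z ∈ U ∧ polar Q (x : V) z = β}))
        fun y y' h => Subtype.ext (congrArg Subtype.val h :))
        (card_affine_le U hU hy₀ (by rw [hxy]; exact hp) β)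
  have hA : Nat.card A ≤ if e = 3 then 2 * Nat.card F ^ 2 - Nat.card F - 1 else Nat.card F ^ e - 1 := by
    have hsub : Nat.card A + 1 ≤ Nat.card {x : U // Q (x : V) = 0} := by
      have h1 : Nat.card (Option A) = Nat.card A + 1 := by
        rw [Finite.card_option]
      rw [← h1]
      refine Nat.card_le_card_of_injective
        (fun o => o.elim (⟨0, QuadraticMap.map_zero Q⟩ : {x : U // Q (x : V) = 0})
          fun x => ⟨⟨(x : V), x.2.1⟩, x.2.2.1⟩) ?_
      rintro (_ | x) (_ | y) h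
      · rfl
      · exact absurd (congrArg (fun t : {x : U // Q (x : V) = 0} => ((t : U) : V)) h).symm y.2.2.2
      · exact absurd (congrArg (fun t : {x : U // Q (x : V) = 0} => ((t : U) : V)) h) x.2.2.2
      · exact congrArg some (Subtype.ext
          (congrArg (fun t : {x : U // Q (x : V) = 0} => ((t : U) : V)) h))
    split
    · rename_i h3
      subst h3
      have he' : Q (β⁻¹ • b) = 0 := by rw [apply_smul, hQb, mul_zero]
      have hee : polar Q a (β⁻¹ • b) = 1 := by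
        rw [polar_smul_right', ← hβ, inv_mul_cancel₀ hp]
      have hsplit := card_U_split (U := U) hQa he' hee ha (U.smul_mem _ hb')
      have hv := card_value_split (U := U) hQa he' hee ha (U.smul_mem _ hb') 0
      rw [hU] at hsplit
      have hP : Nat.card (PP Q U a (β⁻¹ • b)) = Nat.card F :=
        (Nat.eq_of_mul_eq_mul_left (pow_pos (show 0 < Nat.card F by omega) 2)
          (by rw [← hsplit]; ring)).symm
      have hle : Nat.card {x : PP Q U a (β⁻¹ • b) // Q (x : V) = 0} ≤ Nat.card F :=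
        (Nat.card_le_card_of_injective _ Subtype.val_injective).trans (le_of_eq hP)
      rw [hv, hP] at hsub
      obtain ⟨w, hw⟩ : ∃ w, Nat.card F = w + 1 := ⟨Nat.card F - 1, by omega⟩
      rw [hw] at hsub hle ⊢
      simp only [Nat.add_sub_cancel] at hsub
      have := Nat.mul_le_mul_left (w + 1) hle
      have h2 : 2 * (w + 1) ^ 2 = (w + 1) * (w + 1) + w * (w + 1) + (w + 1) := by ring
      omega
    · have := hsub.trans (Nat.card_le_card_of_injective
        (fun x : {x : U // Q (x : V) = 0} => (x : U)) Subtype.val_injective)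
      rw [hU] at this
      omega
  let T := {t : V × V // t.1 ∈ U ∧ t.2 ∈ U ∧ Q t.1 = 0 ∧ Q t.2 = 0 ∧ polar Q t.1 t.2 = β}
  have e1 : T ≃ Σ x : A, {y : V // y ∈ U ∧ Q y = 0 ∧ polar Q (x : V) y = β} :=
    { toFun := fun t => ⟨⟨t.1.1, t.2.1, t.2.2.2.1, fun e0 => hp (by
          have := t.2.2.2.2.2
          rw [e0, QuadraticMap.polar_zero_left] at this
          exact this.symm)⟩, ⟨t.1.2, t.2.2.1, t.2.2.2.2.1, t.2.2.2.2.2⟩⟩
      invFun := fun s => ⟨((s.1 : V), (s.2 : V)), s.1.2.1, s.2.2.1, s.1.2.2.1, s.2.2.2.1, s.2.2.2.2⟩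
      left_inv := fun _ => rfl
      right_inv := fun _ => rfl }
  have := Fintype.ofFinite A
  rw [Nat.card_congr e1, Nat.card_sigma]
  refine le_trans (Finset.sum_le_sum fun x _ => hfib x) ?_
  rw [Finset.sum_const, Finset.card_univ, smul_eq_mul, ← Nat.card_eq_fintype_card, nHyp]
  split <;> rename_i h <;> simp only [h, if_true, if_false] at hA <;>
    exact Nat.mul_le_mul_right _ hA

theorem Ctx.mid (h : Ctx Q p g i S S₂) (hu : Q u = 0) (hv : Q v = 0) (huv : polar Q u v = 1)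
    {f : F → F} (hf : ∀ l, l ≠ 0 → f l ≠ 0) (hf1 : f 1 = 1) (hsq : ∀ l, l ≠ 0 → f l * f l = 1)
    (hq : Nat.card F = p) (A : AddSubgroup V) (hAW : ∀ x ∈ A, x ∈ WW Q u v) {e B c N : ℕ}
    (he : 3 ≤ e) (hA : Nat.card A = Nat.card F ^ e)
    (hN : c * Nat.card (orb Q f u v (A : Set V)) ≤ N) (hNB : N < B)
    (h1 : B * nHyp (Nat.card F) e ≤ c * (S * Nat.card F ^ (Module.finrank F V - 4)))
    (h2 : B * (Nat.card F - 1) ≤ c * S)
    (h3 : ∀ r, 2 ≤ r → r ≤ i → r ≤ e →
      B * ((Nat.card F ^ r - 1) * (Nat.card F ^ r - Nat.card F)) ≤ c * tPerp (Nat.card F) S S₂) :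
    False := by
  have : Finite V := Module.finite_of_finite F
  have hq2 : 2 ≤ Nat.card F := Finite.one_lt_card
  obtain ⟨U, hUA⟩ := exists_submodule h hq A
  have hmem : ∀ x, x ∈ U ↔ x ∈ A := fun x => Set.ext_iff.1 hUA x
  have hUcard : Nat.card U = Nat.card F ^ e := by
    rw [← hA]; exact Nat.card_congr (Equiv.subtypeEquivRight hmem)
  have fin : ∀ {n T : ℕ}, 0 < n → T ≤ Nat.card (orb Q f u v (A : Set V)) * n →
      B * n ≤ c * T → False := by
    intro n T hn hT hB
    have e1 := Nat.mul_le_mul_left c hT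
    rw [← mul_assoc] at e1
    have e2 := Nat.mul_le_mul_right n hN
    exact absurd (hB.trans (e1.trans e2)) (not_le.2 (Nat.mul_lt_mul_of_pos_right hNB hn))
  by_cases hyp : ∃ x ∈ A, ∃ y ∈ A, Q x = 0 ∧ Q y = 0 ∧ polar Q x y ≠ 0
  · obtain ⟨x, hx, y, hy, hQx, hQy, hxy⟩ := hyp
    have hc := h.cover_hyp_pair hu hv huv hf hf1 hsq (A : Set V) hx hy (hAW x hx) (hAW y hy) hQx hQy hxy
    have hn : Nat.card {q : V × V // q.1 ∈ (A : Set V) ∧ q.2 ∈ (A : Set V) ∧ Q q.1 = 0 ∧ Q q.2 = 0 ∧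
        polar Q q.1 q.2 = polar Q x y} ≤ nHyp (Nat.card F) e := by
      rw [← hUA]
      exact card_hyp_pairs_le U (by omega) hUcard ((hmem x).2 hx) ((hmem y).2 hy) hQx hQy hxy
    refine fin ?_ hc ((Nat.mul_le_mul_left _ hn).trans h1)
    rw [Nat.card_pos_iff]
    exact ⟨⟨⟨(x, y), hx, hy, hQx, hQy, rfl⟩⟩, inferInstance⟩
  push Not at hyp
  let R : Submodule F V :=
    { carrier := {x | x ∈ U ∧ Q x = 0}
      add_mem' := fun {x y} hx hy => ⟨U.add_mem hx.1 hy.1, by
        rw [apply_add, hx.2, hy.2, hyp x ((hmem x).1 hx.1) y ((hmem y).1 hy.1) hx.2 hy.2]; ring⟩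
      zero_mem' := ⟨U.zero_mem, QuadraticMap.map_zero Q⟩
      smul_mem' := fun c x hx => ⟨U.smul_mem c hx.1, by rw [apply_smul, hx.2, mul_zero]⟩ }
  obtain ⟨z, hzU, hz0, hQz⟩ := exists_zero_mem (Q := Q) U (by
    have := Nat.pow_right_injective hq2 ((Module.natCard_eq_pow_finrank (K := F) (V := U)).symm.trans hUcard)
    omega)
  by_cases hR : ∃ y ∈ A, Q y = 0 ∧ y ∉ Submodule.span F ({z} : Set V)
  · obtain ⟨y, hy, hQy, hyz⟩ := hR
    have hc := h.cover_perp_pair hf hu hv huv (A : Set V) ((hmem z).1 hzU) hy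
      (hAW z ((hmem z).1 hzU)) (hAW y hy) hz0 hQz hQy (hyp z ((hmem z).1 hzU) y hy hQz hQy) hyz
    obtain ⟨r, hr⟩ : ∃ r, Module.finrank F R = r := ⟨_, rfl⟩
    have hRcard : Nat.card R = Nat.card F ^ r := by
      rw [Module.natCard_eq_pow_finrank (K := F), hr]
    have hn : Nat.card {q : V × V // q.1 ∈ (A : Set V) ∧ q.2 ∈ (A : Set V) ∧ q.1 ≠ 0 ∧
        q.2 ∉ AddSubgroup.zmultiples q.1 ∧ Q q.1 = 0 ∧ Q q.2 = 0 ∧
        q.2 ∉ Submodule.span F ({q.1} : Set V)} ≤
        (Nat.card F ^ r - 1) * (Nat.card F ^ r - Nat.card F) := by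
      have e1 := card_indep_pairs h.prime h.smul_p R.toAddSubgroup
      rw [show Nat.card R.toAddSubgroup = Nat.card F ^ r from hRcard, ← hq] at e1
      rw [← e1]
      exact Nat.card_le_card_of_injective
        (fun q => ⟨q.1, ⟨(hmem _).2 q.2.1, q.2.2.2.2.2.1⟩, ⟨(hmem _).2 q.2.2.1, q.2.2.2.2.2.2.1⟩,
          q.2.2.2.1, q.2.2.2.2.1⟩)
        fun q q' e' => Subtype.ext (congrArg Subtype.val e' :)
    have hr2 : 2 ≤ r := by
      have hle : Submodule.span F (Set.range ![z, y]) ≤ R := Submodule.span_le.2 (by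
        rintro _ ⟨k, rfl⟩
        fin_cases k
        · exact ⟨hzU, hQz⟩
        · exact ⟨(hmem y).2 hy, hQy⟩)
      have e1 := Submodule.finrank_mono hle
      rw [finrank_span_eq_card (li_pair_of_notMem hz0 hyz), Fintype.card_fin, hr] at e1
      exact e1
    have hri : r ≤ i := hr ▸ h.ts u v hu hv huv R (fun x hx => hAW x ((hmem x).1 hx.1)) fun x hx => hx.2
    have hre : r ≤ e := by
      have h5 := Submodule.finrank_mono (show R ≤ U from fun x hx => hx.1)
      have := Nat.pow_right_injective hq2 ((Module.natCard_eq_pow_finrank (K := F) (V := U)).symm.trans hUcard)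
      omega
    refine fin ?_ hc ((Nat.mul_le_mul_left _ hn).trans (h3 r hr2 hri hre))
    rw [Nat.card_pos_iff]
    exact ⟨⟨⟨(z, y), (hmem z).1 hzU, hy, hz0, notMem_zmultiples hyz, hQz, hQy, hyz⟩⟩, inferInstance⟩
  · push Not at hR
    have hc := h.cover_sing_vec hf hu hv huv (A : Set V) ((hmem z).1 hzU) (hAW z ((hmem z).1 hzU))
      hz0 hQz
    have hn : Nat.card {x : V // x ∈ (A : Set V) ∧ x ≠ 0 ∧ Q x = 0} ≤ Nat.card F - 1 := by
      have : Nat.card {c : F // c ≠ 0} = Nat.card F - 1 := by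
        have := Fintype.ofFinite F
        rw [Nat.card_eq_fintype_card, Nat.card_eq_fintype_card, Fintype.card_subtype_compl,
          Fintype.card_subtype_eq]
      rw [← this]
      refine Nat.card_le_card_of_surjective (fun c : {c : F // c ≠ 0} =>
        (⟨(c : F) • z, (hmem _).1 (U.smul_mem _ hzU), smul_ne_zero c.2 hz0,
          by rw [apply_smul, hQz, mul_zero]⟩ : {x : V // x ∈ (A : Set V) ∧ x ≠ 0 ∧ Q x = 0})) ?_
      rintro ⟨x, hx, hx0, hQx⟩
      obtain ⟨c, rfl⟩ := Submodule.mem_span_singleton.1 (hR x hx hQx)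
      exact ⟨⟨c, fun e0 => hx0 (by rw [e0, zero_smul])⟩, rfl⟩
    refine fin ?_ hc ((Nat.mul_le_mul_left _ hn).trans h2)
    rw [Nat.card_pos_iff]
    exact ⟨⟨⟨z, (hmem z).1 hzU, hz0, hQz⟩⟩, inferInstance⟩

end

end CfsgLib.MinIndexOrth
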