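import Mathlib

/-!
The numerical conditions used by the counting.
-/

set_option autoImplicit false

namespace CfsgLib.MinIndexOrth

/-- Number of independent pairs over the prime field in a group of order `a`. -/
def nPairs (p a : ℕ) : ℕ := (a - 1) * (a - p)

/-- Lower bound for the pairs starting at a non-singular vector. -/
def tNs (q g d : ℕ) : ℕ := (q - 1) / g * ((q ^ 2 - 1) * q ^ (d - 3)) * ((q - 1) * q ^ (d - 3))

/-- Lower bound for the perpendicular singular pairs. -/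
def tPerp (q S S₂ : ℕ) : ℕ := S * (q * S₂)

/-- Bound for the hyperbolic pairs inside a subspace of order `q ^ e`. -/
def nHyp (q e : ℕ) : ℕ := if e = 3 then (2 * q ^ 2 - q - 1) * q else (q ^ e - 1) * q ^ (e - 1)

/-- The subspace case over a prime field. -/
def MidCond (q p d i B S S₂ a k : ℕ) : Prop :=
  q = p ∧ q ≤ 3 ∧ ∃ e, 3 ≤ e ∧ (a = q ^ e ∨ k = q ^ e) ∧
    B * nHyp q e ≤ a * (S * q ^ (d - 2)) ∧ B * (q - 1) ≤ a * S ∧
      ∀ r, 2 ≤ r → r ≤ i → r ≤ e → B * ((q ^ r - 1) * (q ^ r - q)) ≤ a * tPerp q S S₂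

/-- The numerical conditions. -/
structure Num (q p g d i B S S₂ : ℕ) : Prop where
  lt_two : B ≤ 2 * q ^ d
  two : q ^ 2 - 1 ≤ S
  le_points : (B - 1) * (q - 1) < (q - 1) * q ^ d + q * S + (q - 1)
  ns : ∀ a k, a * k = q ^ d → p < a → p < k →
    B * nPairs p a ≤ a * tNs q g d ∨ B * nPairs p k ≤ a * tNs q g d ∨ MidCond q p d i B S S₂ a k
  small : ∀ a k, a * k = q ^ d → 1 < k → k ≤ q →
    B * (k - 1) ≤ a * S ∧ B * (k - 1) ≤ a * ((q - 1) / g * ((q ^ 2 - 1) * q ^ (d - 3)))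
  perpK : ∀ a k, a * k = q ^ d → p < k → k ≤ q ^ i →
    B * nPairs p k ≤ a * tPerp q S S₂ ∨ (k = q ^ i ∧ a ≤ k)
  perpA : ∀ a k, a * k = q ^ d → p < a → a ≤ q ^ i →
    B * nPairs p a ≤ a * tPerp q S S₂ ∨ (a = q ^ i ∧ 4 ≤ q ∧
      B * nPairs p a ≤ 2 * (a * tPerp q S S₂) ∧ (q ^ d + 1) * nPairs p a ≤ a * tPerp q S S₂)
  sub : ∀ r, 3 ≤ r → r ≤ i + 1 →
    (q ^ r - 1) * ((q ^ (r - 1) - 1) * (q ^ (r - 1) - q)) ≤ (q - 1) * tPerp q S S₂

end CfsgLib.MinIndexOrth
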