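import Cfsg.Agent.Lib.Known.MinIndexOrth.Line

/-!
Some elements of `Ω`: products of two reflections and squares of dilations.
-/

set_option autoImplicit false

namespace CfsgLib.MinIndexOrth

open CfsgLib.Classical.Quad
open CfsgLib.Known.SpinMinus (orth mem_orth finrank_orth mem_orth_span exists_core)
open QuadraticMap (polar polarBilin)

noncomputable section

variable {F : Type*} [Field F] {V : Type*} [AddCommGroup V] [Module F V] [FiniteDimensional F V]
  [Finite F] {Q : QuadraticForm F V}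

open scoped commutatorElement in
theorem commutator_mem_OQ (g h : OQ Q) : ⁅g, h⁆ ∈ commutator (OQ Q) := by
  rw [commutator_def]
  exact Subgroup.commutator_mem_commutator (Subgroup.mem_top _) (Subgroup.mem_top _)

theorem refl_mul_refl_mem (hb : Big Q) {a b : V} (ha : Q a ≠ 0) (hb' : Q b ≠ 0)
    (h : sqc (Q a) = sqc (Q b)) : refl ha * refl hb' ∈ commutator (OQ Q) := by
  obtain ⟨g, hg⟩ := exists_conj_refl hb.nd ha hb' h
  have hi : (refl ha : OQ Q)⁻¹ = refl ha := inv_eq_of_mul_eq_one_right (refl_mul_self ha)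
  have := commutator_mem_OQ (refl ha) g
  rw [commutatorElement_def, hi] at this
  rwa [hg, show (refl ha : OQ Q) * (g * refl ha * g⁻¹) = refl ha * g * refl ha * g⁻¹ by group]

/-- The product of two reflections of equal values as an element of `Ω`. -/
theorem exists_rr (hb : Big Q) {a b : V} (ha : Q a ≠ 0) (h : Q b = Q a) :
    ∃ g : commutator (OQ Q), ∀ z, ap g z =
      (z - ((Q a)⁻¹ * polar Q z b) • b) -
        ((Q a)⁻¹ * polar Q (z - ((Q a)⁻¹ * polar Q z b) • b) a) • a := by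
  have hb' : Q b ≠ 0 := by rw [h]; exact ha
  refine ⟨⟨_, refl_mul_refl_mem hb ha hb' (by rw [h])⟩, fun z => ?_⟩
  show ((refl ha : OQ Q) : V ≃ₗ[F] V) (((refl hb' : OQ Q) : V ≃ₗ[F] V) z) = _
  rw [refl_apply, refl_apply, h]

/-- A square dilation on a hyperbolic pair. -/
theorem exists_torus (hb : Big Q) {u v : V} (hu : Q u = 0) (hv : Q v = 0) (huv : polar Q u v = 1)
    {l : F} (hl : l ≠ 0) :
    ∃ g : commutator (OQ Q), ap g u = (l * l) • u ∧ ap g v = (l * l)⁻¹ • v ∧
      ∀ z, polar Q u z = 0 → polar Q v z = 0 → ap g z = z := by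
  have hQ : Q (u - v) = -1 := by
    rw [sub_eq_add_neg, apply_add, QuadraticMap.map_neg, QuadraticMap.polar_neg_right, hu, hv, huv]
    ring
  have hne : Q (u - v) ≠ 0 := by rw [hQ]; exact neg_ne_zero.2 one_ne_zero
  obtain ⟨σ, hσ⟩ : ∃ σ : OQ Q, σ = refl hne := ⟨_, rfl⟩
  have hσu : (σ : V ≃ₗ[F] V) u = v := by
    rw [hσ, refl_apply, hQ, QuadraticMap.polar_sub_right, polar_self', hu, huv]
    module
  have hσv : (σ : V ≃ₗ[F] V) v = u := by
    rw [hσ, refl_apply, hQ, QuadraticMap.polar_sub_right, polar_self', hv,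
      QuadraticMap.polar_comm (⇑Q) v u, huv]
    module
  have hσz : ∀ z, polar Q u z = 0 → polar Q v z = 0 → (σ : V ≃ₗ[F] V) z = z := by
    intro z h1 h2
    rw [hσ, refl_apply, QuadraticMap.polar_sub_right, QuadraticMap.polar_comm (⇑Q) z u,
      QuadraticMap.polar_comm (⇑Q) z v, h1, h2, sub_self, mul_zero, zero_smul, sub_zero]
  have hσi : σ⁻¹ = σ := by rw [hσ]; exact inv_eq_of_mul_eq_one_right (refl_mul_self hne)
  obtain ⟨d, hd⟩ := exists_dilation hb.nd hu hv huv hl
  have hvu : polar Q v u = 1 := by rw [QuadraticMap.polar_comm]; exact huv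
  have hdu : (d : V ≃ₗ[F] V) u = l • u := by
    rw [hd, huv, polar_self', hu]
    module
  have hdv : (d : V ≃ₗ[F] V) v = l⁻¹ • v := by
    rw [hd, hvu, polar_self', hv]
    module
  have hdz : ∀ z, polar Q u z = 0 → polar Q v z = 0 → (d : V ≃ₗ[F] V) z = z := by
    intro z h1 h2
    rw [hd, QuadraticMap.polar_comm (⇑Q) z u, QuadraticMap.polar_comm (⇑Q) z v, h1, h2]
    simp
  have hdinv : ∀ z, (d : V ≃ₗ[F] V) (((d⁻¹ : OQ Q) : V ≃ₗ[F] V) z) = z := fun z =>
    LinearEquiv.apply_symm_apply _ _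
  open scoped commutatorElement in
  refine ⟨⟨⁅d, σ⁆, commutator_mem_OQ d σ⟩, ?_, ?_, fun z h1 h2 => ?_⟩
  all_goals
    show ((⁅d, σ⁆ : OQ Q) : V ≃ₗ[F] V) _ = _
    rw [commutatorElement_def, hσi]
    show (d : V ≃ₗ[F] V) ((σ : V ≃ₗ[F] V) (((d⁻¹ : OQ Q) : V ≃ₗ[F] V) ((σ : V ≃ₗ[F] V) _))) = _
  · have e : ((d⁻¹ : OQ Q) : V ≃ₗ[F] V) v = l • v := (d : V ≃ₗ[F] V).injective (by
      rw [hdinv, map_smul, hdv, smul_smul, mul_inv_cancel₀ hl, one_smul])
    rw [hσu, e, map_smul, hσv, map_smul, hdu, smul_smul]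
  · have e : ((d⁻¹ : OQ Q) : V ≃ₗ[F] V) u = l⁻¹ • u := (d : V ≃ₗ[F] V).injective (by
      rw [hdinv, map_smul, hdu, smul_smul, inv_mul_cancel₀ hl, one_smul])
    rw [hσv, e, map_smul, hσu, map_smul, hdv, smul_smul, mul_inv]
  · have e : ((d⁻¹ : OQ Q) : V ≃ₗ[F] V) z = z := (d : V ≃ₗ[F] V).injective (by
      rw [hdinv, hdz z h1 h2])
    rw [hσz z h1 h2, e, hσz z h1 h2, hdz z h1 h2]

/-- A non-singular vector perpendicular to a non-degenerate subspace. -/
theorem exists_ns_perp (hb : Big Q) (S : Submodule F V)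
    (hS : ∀ x ∈ S, (∀ y ∈ S, polar Q y x = 0) → x = 0)
    (hd : Module.finrank F S < Module.finrank F V) : ∃ c ∈ orth Q S, Q c ≠ 0 := by
  obtain ⟨K, hK, hn, hKd⟩ := exists_core hb.nd S
  have h0 : (S ⊓ orth Q S : Submodule F V) = ⊥ := by
    rw [eq_bot_iff]
    rintro x ⟨hx1, hx2⟩
    exact (Submodule.mem_bot F).2 (hS x hx1 hx2)
  rw [h0, finrank_bot] at hKd
  have : Nontrivial K := Module.nontrivial_of_finrank_pos (R := F) (by omega)
  obtain ⟨c, hc⟩ := exists_apply_ne_zero hn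
  exact ⟨c, hK c.2, hc⟩

/-- A hyperbolic pair perpendicular to a non-degenerate subspace. -/
theorem exists_pair_perp_nondeg (hb : Big Q) (S : Submodule F V)
    (hS : ∀ x ∈ S, (∀ y ∈ S, polar Q y x = 0) → x = 0)
    (hd : Module.finrank F S + 3 ≤ Module.finrank F V) :
    ∃ x y, x ∈ orth Q S ∧ y ∈ orth Q S ∧ Q x = 0 ∧ Q y = 0 ∧ polar Q x y = 1 := by
  refine CfsgLib.Known.SpinMinus.exists_pair_perp hb.nd S ?_
  have h0 : (S ⊓ orth Q S : Submodule F V) = ⊥ := by
    rw [eq_bot_iff]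
    rintro x ⟨hx1, hx2⟩
    exact (Submodule.mem_bot F).2 (hS x hx1 hx2)
  rw [h0, finrank_bot]
  omega

/-- An orthogonal frame adapted to a hyperbolic pair: the data used in small characteristic. -/
theorem exists_frame (hb : Big Q) {u v : V} (hu : Q u = 0) (hv : Q v = 0) (huv : polar Q u v = 1) :
    ∃ w w' e f c, Q w = 0 ∧ Q w' = 0 ∧ Q e = 0 ∧ Q f = 0 ∧ Q c ≠ 0 ∧
      polar Q w w' = 1 ∧ polar Q e f = 1 ∧
      (∀ x ∈ ({w, w', e, f, c} : Set V), polar Q u x = 0 ∧ polar Q v x = 0) ∧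
      (∀ x ∈ ({e, f, c} : Set V), polar Q w x = 0 ∧ polar Q w' x = 0) ∧
      polar Q e c = 0 ∧ polar Q f c = 0 := by
  obtain ⟨w, w', hw, hw', huw, hvw, huw', hvw', hww⟩ := exists_zero_pair hb u v
  have hvu : polar Q v u = 1 := by rw [QuadraticMap.polar_comm]; exact huv
  have hw'w : polar Q w' w = 1 := by rw [QuadraticMap.polar_comm]; exact hww
  have hS : ∀ x ∈ Submodule.span F ({u, v, w, w'} : Set V),
      (∀ y ∈ Submodule.span F ({u, v, w, w'} : Set V), polar Q y x = 0) → x = 0 := by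
    intro x hx h
    simp only [Submodule.mem_span_insert, Submodule.mem_span_singleton] at hx
    obtain ⟨a, _, ⟨b, _, ⟨c, _, ⟨d, rfl⟩, rfl⟩, rfl⟩, rfl⟩ := hx
    have e1 := h u (Submodule.subset_span (by simp))
    have e2 := h v (Submodule.subset_span (by simp))
    have e3 := h w (Submodule.subset_span (by simp))
    have e4 := h w' (Submodule.subset_span (by simp))
    simp only [polar_add_right', polar_smul_right', polar_self', hu, hv, hw, hw', huv, hvu, hww,
      hw'w, huw, hvw, huw', hvw', QuadraticMap.polar_comm (⇑Q) w u, QuadraticMap.polar_comm (⇑Q) w v,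
      QuadraticMap.polar_comm (⇑Q) w' u, QuadraticMap.polar_comm (⇑Q) w' v, mul_zero, mul_one,
      add_zero, zero_add] at e1 e2 e3 e4
    simp [e1, e2, e3, e4]
  have hdim := hb.dim
  have h4 := CfsgLib.Known.SpinMinus.finrank_span_four hb.nd u v w w'
  obtain ⟨e, f, he, hf, hQe, hQf, hef⟩ := exists_pair_perp_nondeg hb _ hS (by omega)
  rw [mem_orth_span] at he hf
  have hfe : polar Q f e = 1 := by rw [QuadraticMap.polar_comm]; exact hef
  have hS2 : ∀ x ∈ Submodule.span F ({u, v, w, w', e, f} : Set V),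
      (∀ y ∈ Submodule.span F ({u, v, w, w', e, f} : Set V), polar Q y x = 0) → x = 0 := by
    intro x hx h
    simp only [Submodule.mem_span_insert, Submodule.mem_span_singleton] at hx
    obtain ⟨a, _, ⟨b, _, ⟨c, _, ⟨d, _, ⟨g, _, ⟨k, rfl⟩, rfl⟩, rfl⟩, rfl⟩, rfl⟩, rfl⟩ := hx
    have e1 := h u (Submodule.subset_span (by simp))
    have e2 := h v (Submodule.subset_span (by simp))
    have e3 := h w (Submodule.subset_span (by simp))
    have e4 := h w' (Submodule.subset_span (by simp))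
    have e5 := h e (Submodule.subset_span (by simp))
    have e6 := h f (Submodule.subset_span (by simp))
    simp only [polar_add_right', polar_smul_right', polar_self', hu, hv, hw, hw', hQe, hQf, huv,
      hvu, hww, hw'w, hef, hfe, huw, hvw, huw', hvw', he u (by simp), he v (by simp),
      he w (by simp), he w' (by simp), hf u (by simp), hf v (by simp), hf w (by simp),
      hf w' (by simp), QuadraticMap.polar_comm (⇑Q) w u, QuadraticMap.polar_comm (⇑Q) w v,
      QuadraticMap.polar_comm (⇑Q) w' u, QuadraticMap.polar_comm (⇑Q) w' v,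
      QuadraticMap.polar_comm (⇑Q) e u, QuadraticMap.polar_comm (⇑Q) e v,
      QuadraticMap.polar_comm (⇑Q) e w, QuadraticMap.polar_comm (⇑Q) e w',
      QuadraticMap.polar_comm (⇑Q) f u, QuadraticMap.polar_comm (⇑Q) f v,
      QuadraticMap.polar_comm (⇑Q) f w, QuadraticMap.polar_comm (⇑Q) f w', mul_zero, mul_one,
      add_zero, zero_add] at e1 e2 e3 e4 e5 e6
    simp [e1, e2, e3, e4, e5, e6]
  have h6 : Module.finrank F (Submodule.span F ({u, v, w, w', e, f} : Set V)) ≤ 6 := by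
    rw [show ({u, v, w, w', e, f} : Set V) = {u, v, w, w'} ∪ {e, f} by
      ext; simp; tauto, Submodule.span_union]
    have h := Submodule.finrank_sup_add_finrank_inf_eq (Submodule.span F ({u, v, w, w'} : Set V))
      (Submodule.span F ({e, f} : Set V))
    have h2 := CfsgLib.Known.SpinMinus.finrank_span_two hb.nd e f
    omega
  obtain ⟨c, hc, hQc⟩ := exists_ns_perp hb _ hS2 (by omega)
  rw [mem_orth_span] at hc
  refine ⟨w, w', e, f, c, hw, hw', hQe, hQf, hQc, hww, hef, ?_, ?_, hc e (by simp), hc f (by simp)⟩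
  · rintro x (rfl | rfl | rfl | rfl | rfl)
    · exact ⟨huw, hvw⟩
    · exact ⟨huw', hvw'⟩
    · exact ⟨he u (by simp), he v (by simp)⟩
    · exact ⟨hf u (by simp), hf v (by simp)⟩
    · exact ⟨hc u (by simp), hc v (by simp)⟩
  · rintro x (rfl | rfl | rfl)
    · exact ⟨he w (by simp), he w' (by simp)⟩
    · exact ⟨hf w (by simp), hf w' (by simp)⟩
    · exact ⟨hc w (by simp), hc w' (by simp)⟩

end

end CfsgLib.MinIndexOrth
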