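import Cfsg.Agent.Lib.Known.MinIndexOrth.Maps

/-!
The orbit of the part of an Eichler group in a subgroup bounds the index.
-/

set_option autoImplicit false

namespace CfsgLib.MinIndexOrth

open CfsgLib.Classical.Quad
open QuadraticMap (polar polarBilin)
open scoped _root_.Classical

noncomputable section

variable {F : Type*} [Field F] {V : Type*} [AddCommGroup V] [Module F V] [FiniteDimensional F V]
  [Finite F] {Q : QuadraticForm F V}

theorem finite_OQ : Finite (OQ Q) :=
  have : Finite V := Module.finite_of_finite F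
  Finite.of_injective (fun g : OQ Q => ((g : V ≃ₗ[F] V) : V → V))
    fun _ _ h => Subtype.ext (LinearEquiv.ext (congrFun h))

/-- The stabiliser of a point. -/
def PS (Q : QuadraticForm F V) (u : V) : Subgroup (commutator (OQ Q)) where
  carrier := {g | ∃ c : F, c ≠ 0 ∧ ap g u = c • u}
  mul_mem' := by
    rintro g h ⟨c, hc, e⟩ ⟨d, hd, e'⟩
    exact ⟨d * c, mul_ne_zero hd hc, by rw [ap_mul, e', map_smul, e, smul_smul]⟩
  one_mem' := ⟨1, one_ne_zero, by rw [one_smul]; rfl⟩
  inv_mem' := by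
    rintro g ⟨c, hc, e⟩
    refine ⟨c⁻¹, inv_ne_zero hc, (ap g).injective ?_⟩
    rw [ap_apply_inv, map_smul, e, inv_smul_smul₀ hc]

theorem mem_PS {u : V} {g : commutator (OQ Q)} : g ∈ PS Q u ↔ ∃ c : F, c ≠ 0 ∧ ap g u = c • u :=
  Iff.rfl

variable (H : Subgroup (commutator (OQ Q)))

/-- The part of the Eichler group at `u` in the subgroup, in the complement. -/
def KK (u v : V) : AddSubgroup V := XS H u ⊓ (WW Q u v).toAddSubgroup

/-- The images of a set under the scaled Levi group. -/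
def orb (Q : QuadraticForm F V) (f : F → F) (u v : V) (S : Set V) : Set (Set V) :=
  {T | ∃ (g : commutator (OQ Q)) (l : F), Lev u v g l ∧ T = (fun x => f l • ap g x) '' S}

variable {H}

theorem mem_KK {u v x : V} :
    x ∈ KK H u v ↔ (polar Q u x = 0 ∧ El Q u x ∈ H) ∧ x ∈ WW Q u v := Iff.rfl

theorem self_mem_orb (f : F → F) (hf : f 1 = 1) (u v : V) (S : Set V) : S ∈ orb Q f u v S :=
  ⟨1, 1, Lev.one u v, by ext x; simp [hf, ap_one]⟩

theorem El_mem_shift (hb : Big Q) {u x : V} (hu : Q u = 0) (hx : polar Q u x = 0) (c : F) :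
    (El Q u (x + c • u) : commutator (OQ Q)) = El Q u x := by
  rw [El_add hx (by rw [polar_smul_right', polar_self', hu]; ring), El_self hb hu, mul_one]

/-- Elements of the subgroup between two Levi translates identify the translated parts. -/
theorem image_subset_of_mem (hb : Big Q) {u v : V} (hu : Q u = 0) {g g' : commutator (OQ Q)}
    {l l' : F} (hg : Lev u v g l) (hg' : Lev u v g' l') {d : V} (hd : polar Q u d = 0)
    (h : g'⁻¹ * El Q u d * g ∈ H) :
    (fun x => l • ap g x) '' (KK H u v : Set V) ⊆ (fun x => l' • ap g' x) '' (KK H u v : Set V) := by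
  rintro _ ⟨k, hk, rfl⟩
  obtain ⟨hk1, hk2⟩ := mem_KK.1 hk
  obtain ⟨m, hm⟩ : ∃ m, m = g'⁻¹ * El Q u d * g := ⟨_, rfl⟩
  have hgk := hg.mem_WW hk2
  have hmu : ap m u = (l'⁻¹ * l) • u := by
    rw [hm, ap_mul, ap_mul, hg.2.1, map_smul,
      El_fix hb hu hd (by rw [polar_self', hu, mul_zero]) hd, map_smul, hg'.inv.2.1, smul_smul,
      mul_comm]
  obtain ⟨c, hc⟩ : ∃ c : F, ap m k = ap g'⁻¹ (ap g k) + c • u := by
    refine ⟨polar Q (ap g k) d * l'⁻¹, ?_⟩
    rw [hm, ap_mul, ap_mul, ap_El hb hu hd,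
      show polar Q (ap g k) u = 0 by rw [QuadraticMap.polar_comm]; exact (MinIndexOrth.mem_WW.1 hgk).1]
    simp [hg'.inv.2.1, smul_smul]
  have hy : ap g'⁻¹ (ap g k) ∈ WW Q u v := hg'.inv.mem_WW hgk
  have hy1 : polar Q u (ap g'⁻¹ (ap g k)) = 0 := (MinIndexOrth.mem_WW.1 hy).1
  have e := conj_El hb m hu hk1.1
  rw [hmu, hc, El_smul_left hb hu (by rw [polar_add_right', hy1, polar_smul_right', polar_self', hu]; ring), smul_add, smul_smul,
    El_mem_shift hb hu (by rw [polar_smul_right', hy1, mul_zero])] at e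
  refine ⟨(l'⁻¹ * l) • ap g'⁻¹ (ap g k), mem_KK.2 ⟨⟨by rw [polar_smul_right', hy1, mul_zero], ?_⟩,
    (WW Q u v).smul_mem _ hy⟩, ?_⟩
  · rw [← e]
    exact H.mul_mem (H.mul_mem (hm ▸ h) hk1.2) (H.inv_mem (hm ▸ h))
  · show l' • ap g' _ = _
    rw [map_smul, ap_apply_inv, smul_smul, ← mul_assoc, mul_inv_cancel₀ hg'.1, one_mul]

theorem translate_PS (hb : Big Q) {u v : V} (hu : Q u = 0) {g : commutator (OQ Q)} {l : F}
    (hg : Lev u v g l) {x : V} (hx : polar Q u x = 0) : El Q u x * g ∈ PS Q u :=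
  ⟨l, hg.1, by
    rw [ap_mul, hg.2.1, map_smul, El_fix hb hu hx (by rw [polar_self', hu, mul_zero]) hx]⟩

/-- The basic index bound. -/
theorem orbit_bound (hb : Big Q) {u v : V} (hu : Q u = 0) (huv : polar Q u v = 1) {ι : Type*}
    [Finite ι] (r : ι → commutator (OQ Q)) (m : ι → F) (hr : ∀ i, Lev u v (r i) (m i))
    (hstab : ∀ i, (fun x => m i • ap (r i) x) '' (KK H u v : Set V) = KK H u v)
    (hsep : ∀ i j, i ≠ j → ∀ d ∈ WW Q u v, (r i)⁻¹ * El Q u d * r j ∉ H) :
    Nat.card (WW Q u v) * Nat.card (orb Q id u v (KK H u v : Set V)) * Nat.card ι ≤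
      H.relIndex (PS Q u) * Nat.card (KK H u v) := by
  have : Finite V := Module.finite_of_finite F
  have := finite_OQ (Q := Q)
  have hfO : Finite (orb Q id u v (KK H u v : Set V)) := Subtype.finite
  choose g l hg hS using fun S : orb Q id u v (KK H u v : Set V) => S.2
  let Φ : WW Q u v × (orb Q id u v (KK H u v : Set V)) × ι →
      (PS Q u) ⧸ H.subgroupOf (PS Q u) := fun p =>
    QuotientGroup.mk ⟨El Q u (p.1 : V) * (g p.2.1 * r p.2.2),
      translate_PS hb hu ((hg p.2.1).mul (hr p.2.2)) (MinIndexOrth.mem_WW.1 p.1.2).1⟩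
  let T := WW Q u v × (orb Q id u v (KK H u v : Set V)) × ι
  have hfib : ∀ p p' : T, Φ p = Φ p' → p.2 = p'.2 ∧
      (l p'.2.1)⁻¹ • ap (g p'.2.1)⁻¹ ((p.1 : V) - p'.1) ∈ KK H u v := by
    intro p p' e
    obtain ⟨⟨x, hx⟩, S, i⟩ := p
    obtain ⟨⟨x', hx'⟩, S', i'⟩ := p'
    have h := QuotientGroup.eq.1 e.symm
    rw [Subgroup.mem_subgroupOf] at h
    simp only [Subgroup.coe_mul, InvMemClass.coe_inv] at h
    have hd : polar Q u (x - x') = 0 := by
      rw [QuadraticMap.polar_sub_right, (MinIndexOrth.mem_WW.1 hx).1, (MinIndexOrth.mem_WW.1 hx').1,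
        sub_zero]
    have hxx : El Q u (x - x') = (El Q u x')⁻¹ * El Q u x := by
      rw [El_inv (MinIndexOrth.mem_WW.1 hx').1,
        ← El_add (polar_neg' (MinIndexOrth.mem_WW.1 hx').1) (MinIndexOrth.mem_WW.1 hx).1,
        neg_add_eq_sub]
    have h' : (g S' * r i')⁻¹ * El Q u (x - x') * (g S * r i) ∈ H := by
      rw [hxx]; simpa [mul_assoc] using h
    have img : ∀ (A : orb Q id u v (KK H u v : Set V)) (j : ι),
        (fun y => (l A * m j) • ap (g A * r j) y) '' (KK H u v : Set V) = A := by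
      intro A j
      conv_rhs => rw [hS A, ← hstab j, Set.image_image]
      refine Set.image_congr fun y _ => ?_
      show _ = id (l A) • ap (g A) (m j • ap (r j) y)
      rw [id, map_smul, smul_smul, ap_mul]
    have hinv : (g S * r i)⁻¹ * El Q u (-(x - x')) * (g S' * r i') ∈ H := by
      rw [← El_inv hd]
      simpa [mul_assoc] using H.inv_mem h'
    have heq : S = S' := by
      refine Subtype.ext (Set.Subset.antisymm ?_ ?_)
      · rw [← img S i, ← img S' i']
        exact image_subset_of_mem hb hu ((hg S).mul (hr i)) ((hg S').mul (hr i')) hd h'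
      · rw [← img S i, ← img S' i']
        exact image_subset_of_mem hb hu ((hg S').mul (hr i')) ((hg S).mul (hr i)) (polar_neg' hd)
          hinv
    subst heq
    obtain ⟨d, hddef⟩ : ∃ d, d = (l S)⁻¹ • ap (g S)⁻¹ (x - x') := ⟨_, rfl⟩
    have hdW : d ∈ WW Q u v := by
      rw [hddef]; exact (WW Q u v).smul_mem _ ((hg S).inv.mem_WW (Submodule.sub_mem _ hx hx'))
    have hconj : (g S)⁻¹ * El Q u (x - x') * g S = El Q u d := by
      have e1 := conj_El hb (g S)⁻¹ hu hd
      rw [inv_inv, (hg S).inv.2.1, El_smul_left hb hu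
        (MinIndexOrth.mem_WW.1 ((hg S).inv.mem_WW (Submodule.sub_mem _ hx hx'))).1, ← hddef] at e1
      exact e1
    have h'' : (r i')⁻¹ * El Q u d * r i ∈ H := by
      rw [← hconj]; simpa [mul_assoc] using h'
    have hi : i = i' := by
      by_contra hne
      exact hsep i' i (Ne.symm hne) d hdW h''
    subst hi
    refine ⟨rfl, ?_⟩
    show (l S)⁻¹ • ap (g S)⁻¹ (x - x') ∈ KK H u v
    rw [← hddef]
    obtain ⟨d', hd'⟩ : ∃ d', d' = (m i)⁻¹ • ap (r i)⁻¹ d := ⟨_, rfl⟩
    have e2 := conj_El hb (r i)⁻¹ hu (MinIndexOrth.mem_WW.1 hdW).1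
    rw [inv_inv, (hr i).inv.2.1, El_smul_left hb hu
      (MinIndexOrth.mem_WW.1 ((hr i).inv.mem_WW hdW)).1, ← hd'] at e2
    rw [e2] at h''
    have hd'W : d' ∈ WW Q u v := by
      rw [hd']; exact (WW Q u v).smul_mem _ ((hr i).inv.mem_WW hdW)
    have hd'K : d' ∈ KK H u v := mem_KK.2 ⟨⟨(MinIndexOrth.mem_WW.1 hd'W).1, h''⟩, hd'W⟩
    have hmem : m i • ap (r i) d' ∈ (KK H u v : Set V) := by
      rw [← hstab i]; exact ⟨d', hd'K, rfl⟩
    rwa [hd', map_smul, ap_apply_inv, smul_inv_smul₀ (hr i).1] at hmem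
  have := Fintype.ofFinite T
  have := Fintype.ofFinite ((PS Q u) ⧸ H.subgroupOf (PS Q u))
  have hcount : ∀ q ∈ (Finset.univ : Finset T).image Φ,
      ((Finset.univ : Finset T).filter fun p => Φ p = q).card ≤ Nat.card (KK H u v) := by
    intro q hq
    obtain ⟨p₀, -, rfl⟩ := Finset.mem_image.1 hq
    rw [← Fintype.card_subtype, ← Nat.card_eq_fintype_card]
    refine Nat.card_le_card_of_injective
      (fun p : {p : T // Φ p = Φ p₀} => (⟨_, (hfib p.1 p₀ p.2).2⟩ : KK H u v)) ?_
    intro p p' e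
    have e' := congrArg Subtype.val e
    simp only at e'
    have hs := (hfib p.1 p₀ p.2).1.trans (hfib p'.1 p₀ p'.2).1.symm
    have h1 : ((p.1).1 : V) = (p'.1).1 :=
      sub_left_injective ((ap _).injective (smul_right_injective V (inv_ne_zero (hg _).1) e'))
    exact Subtype.ext (Prod.ext (Subtype.ext h1) hs)
  have key := Finset.card_le_mul_card_image (Finset.univ : Finset T) _ hcount
  rw [Finset.card_univ, ← Nat.card_eq_fintype_card, Nat.card_prod, Nat.card_prod, ← mul_assoc] at key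
  refine key.trans ?_
  rw [mul_comm]
  refine Nat.mul_le_mul_right _ ((Finset.card_le_univ _).trans ?_)
  rw [← Nat.card_eq_fintype_card]
  rfl

theorem orbit_bound_one (hb : Big Q) {u v : V} (hu : Q u = 0) (huv : polar Q u v = 1) :
    Nat.card (WW Q u v) * Nat.card (orb Q id u v (KK H u v : Set V)) ≤
      H.relIndex (PS Q u) * Nat.card (KK H u v) := by
  have h := orbit_bound (H := H) hb hu huv (fun _ : Unit => 1) (fun _ => 1) (fun _ => Lev.one u v)
    (fun _ => by ext x; simp [ap_one]) (fun i j h => absurd (Subsingleton.elim i j) h)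
  simpa using h

theorem orbit_bound_two (hb : Big Q) {u v : V} (hu : Q u = 0) (huv : polar Q u v = 1)
    {t : commutator (OQ Q)} {m : F} (ht : Lev u v t m)
    (hstab : (fun x => m • ap t x) '' (KK H u v : Set V) = KK H u v)
    (hlift : ∀ d ∈ WW Q u v, El Q u d * t ∉ H) :
    Nat.card (WW Q u v) * Nat.card (orb Q id u v (KK H u v : Set V)) * 2 ≤
      H.relIndex (PS Q u) * Nat.card (KK H u v) := by
  have h := orbit_bound (H := H) hb hu huv (fun b : Bool => if b then t else 1)
    (fun b => if b then m else 1)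
    (fun b => by cases b with | false => exact Lev.one u v | true => exact ht)
    (fun b => by
      cases b with
      | false => ext x; simp [ap_one]
      | true => exact hstab)
    (fun i j hij d hd => by
      cases i <;> cases j
      · exact absurd rfl hij
      · show (1 : commutator (OQ Q))⁻¹ * El Q u d * t ∉ H
        rw [inv_one, one_mul]
        exact hlift d hd
      · show t⁻¹ * El Q u d * 1 ∉ H
        intro h
        refine hlift (-d) (Submodule.neg_mem _ hd) ?_
        rw [← El_inv (MinIndexOrth.mem_WW.1 hd).1]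
        simpa using H.inv_mem h
      · exact absurd rfl hij)
  simpa using h

theorem relIndex_le_index' (P : Subgroup (commutator (OQ Q))) : H.relIndex P ≤ H.index := by
  have := finite_OQ (Q := Q)
  rw [← Subgroup.relIndex_top_right H]
  exact Subgroup.relIndex_le_of_le_right le_top Subgroup.index_ne_zero_of_finite

theorem index_mul_orbit (P : Subgroup (commutator (OQ Q))) :
    H.index * P.relIndex H = P.index * H.relIndex P := by
  rw [← Subgroup.inf_relIndex_right P H, ← Subgroup.inf_relIndex_left P H, mul_comm H.index,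
    Subgroup.relIndex_mul_index inf_le_right, mul_comm P.index,
    Subgroup.relIndex_mul_index inf_le_left]

/-- Two points not in one orbit of the subgroup. -/
theorem orbit_add_le (hb : Big Q) {u w : V} (hu : Q u = 0) (hu0 : u ≠ 0) (hw : Q w = 0)
    (hw0 : w ≠ 0) (hne : ∀ h ∈ H, ∀ c : F, c ≠ 0 → ap h u ≠ c • w) :
    (PS Q u).relIndex H + (PS Q w).relIndex H ≤ (PS Q u).index := by
  have := finite_OQ (Q := Q)
  obtain ⟨s, hs, hsu⟩ := exists_move_singular hb.nd hb.five hu hu0 hw hw0
  rw [eichGroup_eq_commutator hb.nd hb.five] at hs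
  obtain ⟨g₀, hg₀⟩ : ∃ g₀ : commutator (OQ Q), ap g₀ u = w := ⟨⟨s, hs⟩, hsu⟩
  have coset : ∀ a b : commutator (OQ Q),
      (a : commutator (OQ Q) ⧸ PS Q u) = b ↔ ∃ c : F, c ≠ 0 ∧ ap b u = c • ap a u := by
    intro a b
    rw [QuotientGroup.eq, mem_PS]
    refine exists_congr fun c => and_congr_right fun _ => ?_
    rw [ap_mul]
    constructor
    · intro e
      rw [← ap_apply_inv a (ap b u), e, map_smul]
    · intro e
      rw [e, map_smul, ap_inv_apply]
  have wit : ∀ (x : V) (a b : H), (a : H ⧸ (PS Q x).subgroupOf H) = b ↔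
      ∃ c : F, c ≠ 0 ∧ ap (b : commutator (OQ Q)) x = c • ap (a : commutator (OQ Q)) x := by
    intro x a b
    rw [QuotientGroup.eq, Subgroup.mem_subgroupOf, mem_PS]
    refine exists_congr fun c => and_congr_right fun _ => ?_
    rw [Subgroup.coe_mul, InvMemClass.coe_inv, ap_mul]
    constructor
    · intro e
      rw [← ap_apply_inv (a : commutator (OQ Q)) (ap (b : commutator (OQ Q)) x), e, map_smul]
    · intro e
      rw [e, map_smul, ap_inv_apply]
  let f : (H ⧸ (PS Q u).subgroupOf H) ⊕ (H ⧸ (PS Q w).subgroupOf H) →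
      commutator (OQ Q) ⧸ PS Q u := Sum.elim
    (fun a => ((Quotient.out a : H) : commutator (OQ Q)))
    (fun a => (((Quotient.out a : H) : commutator (OQ Q)) * g₀ : commutator (OQ Q)))
  have hf : Function.Injective f := by
    have cross : ∀ (a : H ⧸ (PS Q u).subgroupOf H) (b : H ⧸ (PS Q w).subgroupOf H),
        f (Sum.inl a) ≠ f (Sum.inr b) := by
      intro a b e
      obtain ⟨c, hc, e'⟩ := (coset _ _).1 e
      rw [ap_mul, hg₀] at e'
      refine hne (((Quotient.out b : H) : commutator (OQ Q))⁻¹ * (Quotient.out a : H))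
        (H.mul_mem (H.inv_mem (Quotient.out b : H).2) (Quotient.out a : H).2) c⁻¹ (inv_ne_zero hc) ?_
      rw [ap_mul, show ap ((Quotient.out a : H) : commutator (OQ Q)) u =
        c⁻¹ • ap ((Quotient.out b : H) : commutator (OQ Q)) w by rw [e', inv_smul_smul₀ hc],
        map_smul, ap_inv_apply]
    rintro (a | a) (b | b) e
    · rw [← QuotientGroup.out_eq' a, ← QuotientGroup.out_eq' b]
      exact congrArg Sum.inl ((wit u _ _).2 ((coset _ _).1 e))
    · exact absurd e (cross a b)
    · exact absurd e.symm (cross b a)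
    · rw [← QuotientGroup.out_eq' a, ← QuotientGroup.out_eq' b]
      refine congrArg Sum.inr ((wit w _ _).2 ?_)
      have := (coset _ _).1 e
      rwa [ap_mul, ap_mul, hg₀] at this
  have := Nat.card_le_card_of_injective f hf
  rwa [Nat.card_sum] at this

theorem index_PS_mul (hb : Big Q) {u : V} (hu : Q u = 0) (hu0 : u ≠ 0) :
    (PS Q u).index * (Nat.card F - 1) = Nat.card {x : V // x ≠ 0 ∧ Q x = 0} := by
  have := finite_OQ (Q := Q)
  have : Finite V := Module.finite_of_finite F
  let f : (commutator (OQ Q) ⧸ PS Q u) × {c : F // c ≠ 0} → {x : V // x ≠ 0 ∧ Q x = 0} :=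
    fun p => ⟨(p.2 : F) • ap (Quotient.out p.1) u,
      smul_ne_zero p.2.2 fun e => hu0 ((ap _).injective (e.trans (map_zero _).symm)),
      by rw [apply_smul, ap_Q, hu, mul_zero]⟩
  have hf : Function.Bijective f := by
    refine ⟨fun p p' e => ?_, fun x => ?_⟩
    · have e' : (p.2 : F) • ap (Quotient.out p.1) u = (p'.2 : F) • ap (Quotient.out p'.1) u :=
        congrArg Subtype.val e
      have h1 : p.1 = p'.1 := by
        rw [← QuotientGroup.out_eq' p.1, ← QuotientGroup.out_eq' p'.1, QuotientGroup.eq, mem_PS]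
        refine ⟨(p'.2 : F)⁻¹ * p.2, mul_ne_zero (inv_ne_zero p'.2.2) p.2.2, ?_⟩
        rw [ap_mul, ← inv_smul_smul₀ p'.2.2 (ap (Quotient.out p'.1) u), ← e', map_smul, map_smul,
          ap_inv_apply, smul_smul]
      refine Prod.ext h1 (Subtype.ext ?_)
      rw [h1] at e'
      exact smul_left_injective F
        (fun e => hu0 ((ap _).injective (e.trans (map_zero _).symm))) e'
    · obtain ⟨s, hs, hsu⟩ := exists_move_singular hb.nd hb.five hu hu0 x.2.2 x.2.1
      rw [eichGroup_eq_commutator hb.nd hb.five] at hs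
      obtain ⟨g, hg⟩ : ∃ g : commutator (OQ Q), ap g u = x := ⟨⟨s, hs⟩, hsu⟩
      obtain ⟨c, hc, hcu⟩ : ∃ c : F, c ≠ 0 ∧
          ap (Quotient.out (g : commutator (OQ Q) ⧸ PS Q u)) u = c • (x : V) := by
        obtain ⟨p, hp⟩ := QuotientGroup.mk_out_eq_mul (PS Q u) g
        obtain ⟨c, hc, hcu⟩ := mem_PS.1 p.2
        exact ⟨c, hc, by rw [hp, ap_mul, hcu, map_smul, hg]⟩
      refine ⟨(g, ⟨c⁻¹, inv_ne_zero hc⟩), Subtype.ext ?_⟩
      show c⁻¹ • ap _ u = (x : V)
      rw [hcu, inv_smul_smul₀ hc]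
  rw [← Nat.card_congr (Equiv.ofBijective f hf), Nat.card_prod, ← Subgroup.index]
  congr 1
  classical
  have : Fintype F := Fintype.ofFinite F
  rw [Nat.card_eq_fintype_card, Nat.card_eq_fintype_card, Fintype.card_subtype_compl,
    Fintype.card_subtype_eq]

end

end CfsgLib.MinIndexOrth
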