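import Cfsg.Agent.Lib.Known.MinIndexOrth.Omega

/-!
No subgroup of index below `2 q ^ (n - 2)` meets every Eichler group trivially.
-/

set_option autoImplicit false

namespace CfsgLib.MinIndexOrth

open CfsgLib.Classical.Quad
open CfsgLib.Known.SpinMinus (orth mem_orth mem_orth_span finrank_orth)
open QuadraticMap (polar polarBilin)

noncomputable section

variable {F : Type*} [Field F] {V : Type*} [AddCommGroup V] [Module F V] [FiniteDimensional F V]
  [Finite F] {Q : QuadraticForm F V} {H : Subgroup (commutator (OQ Q))}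

/-- The complement of a hyperbolic pair. -/
def WW (Q : QuadraticForm F V) (u v : V) : Submodule F V :=
  orth Q (Submodule.span F ({u, v} : Set V))

theorem mem_WW {u v x : V} : x ∈ WW Q u v ↔ polar Q u x = 0 ∧ polar Q v x = 0 := by
  rw [WW, mem_orth_span]
  simp

theorem finrank_WW (hb : Big Q) {u v : V} (hu : Q u = 0) (huv : polar Q u v = 1) :
    Module.finrank F (WW Q u v) + 2 = Module.finrank F V := by
  rw [WW, ← finrank_orth hb.nd (Submodule.span F ({u, v} : Set V))]
  congr 1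
  have hli : LinearIndependent F ![u, v] :=
    linearIndependent_of_polar hb.nd hu (by rw [huv]; exact one_ne_zero)
  have := finrank_span_eq_card hli
  rw [show Set.range ![u, v] = ({u, v} : Set V) by
    simp [Matrix.range_cons, Matrix.range_empty, Set.pair_comm], Fintype.card_fin] at this
  exact this.symm

theorem card_WW (hb : Big Q) {u v : V} (hu : Q u = 0) (huv : polar Q u v = 1) :
    Nat.card (WW Q u v) = Nat.card F ^ (Module.finrank F V - 2) := by
  rw [Module.natCard_eq_pow_finrank (K := F)]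
  congr 1
  have := finrank_WW hb hu huv
  omega

theorem eq_zero_of_mem_span_WW {u v x : V} (huv : polar Q u v = 1)
    (h : x ∈ Submodule.span F ({u} : Set V)) (hx : x ∈ WW Q u v) : x = 0 := by
  obtain ⟨c, rfl⟩ := Submodule.mem_span_singleton.1 h
  have := (mem_WW.1 hx).2
  rw [polar_smul_right', QuadraticMap.polar_comm, huv, mul_one] at this
  rw [this, zero_smul]

theorem ap_fix_WW {u v : V} {l : commutator (OQ Q)} (h1 : ap l u = u) (h2 : ap l v = v) {x : V}
    (hx : x ∈ WW Q u v) : ap l x ∈ WW Q u v := by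
  rw [mem_WW] at hx ⊢
  exact ⟨by rw [← h1, ap_polar]; exact hx.1, by rw [← h2, ap_polar]; exact hx.2⟩

theorem translate_mem {g : commutator (OQ Q)} {u x x' : V} (hx : polar Q u x = 0)
    (hx' : polar Q u x' = 0)
    (h : (g⁻¹ * (El Q u x')⁻¹ * El Q u x * g : commutator (OQ Q)) ∈ H) :
    g⁻¹ * El Q u (x - x') * g ∈ H := by
  have e : El Q u (x - x') = (El Q u x')⁻¹ * El Q u x := by
    rw [El_inv hx', ← El_add (polar_neg' hx') hx, neg_add_eq_sub]
  rw [e]
  simpa [mul_assoc] using h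

/-- All cosets form one regular orbit. -/
theorem exists_translate (hb : Big Q) (hreg : ∀ u, u ≠ 0 → Q u = 0 → Reg H u)
    (hidx : H.index < 2 * Nat.card F ^ (Module.finrank F V - 2)) {u v : V} (hu : Q u = 0)
    (huv : polar Q u v = 1) (g : commutator (OQ Q)) :
    ∃ x ∈ WW Q u v, El Q u x * g ∈ H := by
  have hu0 : u ≠ 0 := fun e => by simp [e] at huv
  have : Finite V := Module.finite_of_finite F
  have : Finite (OQ Q) :=
    Finite.of_injective (fun g : OQ Q => ((g : V ≃ₗ[F] V) : V → V))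
      fun a b h => Subtype.ext (LinearEquiv.ext (congrFun h))
  by_contra hc
  push Not at hc
  have hinj : ∀ (k : commutator (OQ Q)) {x x' : V}, x ∈ WW Q u v → x' ∈ WW Q u v →
      ((El Q u x * k : commutator (OQ Q)) : commutator (OQ Q) ⧸ H) =
        ((El Q u x' * k : commutator (OQ Q)) : commutator (OQ Q) ⧸ H) → x = x' := by
    intro k x x' hx hx' e
    have h := QuotientGroup.eq.1 e
    rw [mul_inv_rev, ← mul_assoc] at h
    have hd : polar Q u (x' - x) = 0 := by
      rw [QuadraticMap.polar_sub_right, (mem_WW.1 hx).1, (mem_WW.1 hx').1, sub_self]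
    have h' := translate_mem (mem_WW.1 hx').1 (mem_WW.1 hx).1 h
    have e2 := conj_El hb k⁻¹ hu hd
    rw [inv_inv] at e2
    rw [e2] at h'
    have hne : ap k⁻¹ u ≠ 0 := fun e => hu0 (by rw [← ap_apply_inv k u, e, map_zero])
    obtain ⟨c, hc'⟩ := Submodule.mem_span_singleton.1 (hreg _ hne (by rw [ap_Q, hu])
      (ap k⁻¹ (x' - x)) (by rw [ap_polar, hd]) h')
    rw [← map_smul] at hc'
    have := eq_zero_of_mem_span_WW huv
      (Submodule.mem_span_singleton.2 ⟨c, (ap k⁻¹).injective hc'⟩)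
      (Submodule.sub_mem _ hx' hx)
    exact (sub_eq_zero.1 this).symm
  let f : WW Q u v ⊕ WW Q u v → commutator (OQ Q) ⧸ H := Sum.elim
    (fun x => ((El Q u (x : V) * 1 : commutator (OQ Q)) : commutator (OQ Q) ⧸ H))
    (fun x => ((El Q u (x : V) * g : commutator (OQ Q)) : commutator (OQ Q) ⧸ H))
  have hf : Function.Injective f := by
    have cross : ∀ x x' : WW Q u v, f (Sum.inl x) ≠ f (Sum.inr x') := by
      intro x x' e
      have h := QuotientGroup.eq.1 (show ((El Q u (x : V) * 1 : commutator (OQ Q)) :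
        commutator (OQ Q) ⧸ H) = ((El Q u (x' : V) * g : commutator (OQ Q)) :
        commutator (OQ Q) ⧸ H) from e)
      rw [mul_one, El_inv (mem_WW.1 x.2).1, ← mul_assoc,
        ← El_add (polar_neg' (mem_WW.1 x.2).1) (mem_WW.1 x'.2).1] at h
      exact hc _ (Submodule.add_mem _ (Submodule.neg_mem _ x.2) x'.2) h
    rintro (x | x) (x' | x') e
    · rw [Subtype.ext (hinj 1 x.2 x'.2 e)]
    · exact absurd e (cross x x')
    · exact absurd e.symm (cross x' x)
    · rw [Subtype.ext (hinj g x.2 x'.2 e)]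
  have := Nat.card_le_card_of_injective f hf
  rw [Nat.card_sum, card_WW hb hu huv, ← Subgroup.index] at this
  omega

/-- The functions describing lifts of elements fixing the pair. -/
def IsLift (H : Subgroup (commutator (OQ Q))) (u v : V) (z : commutator (OQ Q) → V) : Prop :=
  (∀ g, z g ∈ WW Q u v ∧ El Q u (z g) * g ∈ H) ∧
    ∀ g, ∀ x ∈ WW Q u v, El Q u x * g ∈ H → x = z g

theorem exists_isLift (hb : Big Q) (hreg : ∀ u, u ≠ 0 → Q u = 0 → Reg H u)
    (hidx : H.index < 2 * Nat.card F ^ (Module.finrank F V - 2)) {u v : V} (hu : Q u = 0)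
    (huv : polar Q u v = 1) : ∃ z, IsLift H u v z := by
  choose z hz hzH using exists_translate hb hreg hidx hu huv
  refine ⟨z, fun g => ⟨hz g, hzH g⟩, fun g x hx hxH => ?_⟩
  have h := H.mul_mem hxH (H.inv_mem (hzH g))
  rw [mul_inv_rev, ← mul_assoc, mul_assoc (El Q u x), mul_inv_cancel, mul_one,
    El_inv (mem_WW.1 (hz g)).1, ← El_add (mem_WW.1 hx).1 (polar_neg' (mem_WW.1 (hz g)).1),
    ← sub_eq_add_neg] at h
  have hu0 : u ≠ 0 := fun e => by simp [e] at huv
  refine sub_eq_zero.1 (eq_zero_of_mem_span_WW huv (hreg u hu0 hu _ ?_ h)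
    (Submodule.sub_mem _ hx (hz g)))
  rw [QuadraticMap.polar_sub_right, (mem_WW.1 hx).1, (mem_WW.1 (hz g)).1, sub_self]

theorem IsLift.mul_scalar (hb : Big Q) {u v : V} {z : commutator (OQ Q) → V} (hz : IsLift H u v z)
    (hu : Q u = 0) {l l' : commutator (OQ Q)} {μ : F} (hlu : ap l u = μ • u)
    (hl : ∀ x ∈ WW Q u v, ap l x ∈ WW Q u v) :
    z (l * l') = z l + μ • ap l (z l') := by
  have hm : z l + μ • ap l (z l') ∈ WW Q u v :=
    Submodule.add_mem _ (hz.1 l).1 (Submodule.smul_mem _ _ (hl _ (hz.1 l').1))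
  refine (hz.2 _ _ hm ?_).symm
  have hp : polar Q u (z l') = 0 := (mem_WW.1 (hz.1 l').1).1
  have hp' : polar Q u (ap l (z l')) = 0 := (mem_WW.1 (hl _ (hz.1 l').1)).1
  have e := conj_El hb l hu hp
  rw [hlu, El_smul_left hb hu hp' μ] at e
  rw [El_add (mem_WW.1 (hz.1 l).1).1 (by rw [polar_smul_right', hp', mul_zero]), ← e]
  have := H.mul_mem (hz.1 l).2 (hz.1 l').2
  simpa [mul_assoc] using this

theorem IsLift.mul (hb : Big Q) {u v : V} {z : commutator (OQ Q) → V} (hz : IsLift H u v z)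
    (hu : Q u = 0) {l l' : commutator (OQ Q)} (h1 : ap l u = u) (h2 : ap l v = v) :
    z (l * l') = z l + ap l (z l') := by
  rw [hz.mul_scalar hb hu (μ := 1) (by rw [one_smul, h1]) (fun x hx => ap_fix_WW h1 h2 hx), one_smul]

theorem El_fix_pair (hb : Big Q) {u v w x : V} (hw : Q w = 0) (hwx : polar Q w x = 0)
    (hwW : w ∈ WW Q u v) (hxW : x ∈ WW Q u v) : ap (El Q w x) u = u ∧ ap (El Q w x) v = v :=
  ⟨El_fix hb hw hwx (mem_WW.1 hwW).1 (mem_WW.1 hxW).1,
    El_fix hb hw hwx (mem_WW.1 hwW).2 (mem_WW.1 hxW).2⟩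

/-- A coboundary gives an element of an Eichler group in the subgroup. -/
theorem IsLift.false_of_coboundary (hb : Big Q) (hreg : ∀ u, u ≠ 0 → Q u = 0 → Reg H u)
    {u v w x c : V} {z : commutator (OQ Q) → V} (hz : IsLift H u v z) (hu : Q u = 0)
    (hw : Q w = 0) (hwx : polar Q w x = 0) (hwW : w ∈ WW Q u v) (hxW : x ∈ WW Q u v)
    (hxw : x ∉ Submodule.span F ({w} : Set V)) (hw0 : w ≠ 0) (hc : c ∈ WW Q u v)
    (e : z (El Q w x) = ap (El Q w x) c - c) : False := by
  obtain ⟨hbu, hbv⟩ := El_fix_pair hb hw hwx hwW hxW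
  have hcu : polar Q u c = 0 := (mem_WW.1 hc).1
  have hbc : polar Q u (ap (El Q w x) c) = 0 :=
    (mem_WW.1 (ap_fix_WW hbu hbv hc)).1
  have h1 := (hz.1 (El Q w x)).2
  rw [e, sub_eq_neg_add, El_add (polar_neg' hcu) hbc] at h1
  have e1 := conj_El hb (El Q w x) hu hcu
  rw [hbu] at e1
  rw [← e1, ← El_inv hcu] at h1
  have h2 : (El Q u c)⁻¹ * El Q w x * ((El Q u c)⁻¹)⁻¹ ∈ H := by
    rw [inv_inv]; simpa [mul_assoc] using h1
  rw [conj_El hb _ hw hwx] at h2
  have hne : ap (El Q u c)⁻¹ w ≠ 0 := fun e => hw0 ((ap _).injective (e.trans (map_zero _).symm))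
  obtain ⟨a, ha⟩ := Submodule.mem_span_singleton.1
    (hreg _ hne (by rw [ap_Q, hw]) _ (by rw [ap_polar, hwx]) h2)
  rw [← map_smul] at ha
  exact hxw (Submodule.mem_span_singleton.2 ⟨a, (ap _).injective ha⟩)

theorem false_of_four (hb : Big Q) (hreg : ∀ u, u ≠ 0 → Q u = 0 → Reg H u) {u v : V}
    {z : commutator (OQ Q) → V} (hz : IsLift H u v z) (hu : Q u = 0) (hv : Q v = 0)
    (huv : polar Q u v = 1) {l : F} (hl : l ≠ 0) (hl1 : l * l ≠ 1) : False := by
  obtain ⟨w, w', e, f, c, hw, hw', -, -, -, hww, hef, hin, hin', -, -⟩ := exists_frame hb hu hv huv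
  have hwW : w ∈ WW Q u v := mem_WW.2 (hin w (by simp))
  have heW : e ∈ WW Q u v := mem_WW.2 (hin e (by simp))
  have hwe : polar Q w e = 0 := (hin' e (by simp)).1
  have hxw : e ∉ Submodule.span F ({w} : Set V) := by
    intro h
    obtain ⟨a, rfl⟩ := Submodule.mem_span_singleton.1 h
    rw [polar_smul_left', (hin' f (by simp)).1, mul_zero] at hef
    exact zero_ne_one hef
  obtain ⟨t, htu, htv, htz⟩ := exists_torus hb hu hv huv hl
  have htW : ∀ x ∈ WW Q u v, ap t x ∈ WW Q u v := fun x hx => by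
    rw [htz x (mem_WW.1 hx).1 (mem_WW.1 hx).2]; exact hx
  obtain ⟨hbu, hbv⟩ := El_fix_pair hb hw hwe hwW heW
  have hcomm : t * El Q w e = El Q w e * t := by
    have e1 := conj_El hb t hw hwe
    rw [htz w (mem_WW.1 hwW).1 (mem_WW.1 hwW).2, htz e (mem_WW.1 heW).1 (mem_WW.1 heW).2] at e1
    exact mul_inv_eq_iff_eq_mul.1 e1
  have h1 := hz.mul_scalar hb hu (l' := El Q w e) htu htW
  have hzb := (hz.1 (El Q w e)).1
  rw [hcomm, hz.mul hb hu hbu hbv, htz _ (mem_WW.1 hzb).1 (mem_WW.1 hzb).2] at h1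
  have hne : l * l - 1 ≠ 0 := sub_ne_zero.2 hl1
  refine hz.false_of_coboundary hb hreg hu hw hwe hwW heW hxw
    (fun e0 => by simp [e0] at hww) (Submodule.smul_mem _ (l * l - 1)⁻¹ (hz.1 t).1) ?_
  rw [map_smul, ← smul_sub]
  have h2 : ap (El Q w e) (z t) - z t = (l * l - 1) • z (El Q w e) := by
    linear_combination (norm := module) h1
  rw [h2, smul_smul, inv_mul_cancel₀ hne, one_smul]

end

end CfsgLib.MinIndexOrth
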