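import Cfsg.Agent.Lib.Known.MinIndexOrth.Cover
import Cfsg.Agent.Lib.Known.MinIndexOrth.Counts
import Cfsg.Agent.Lib.Known.MinIndexOrth.Num

/-!
Orbits of subgroups of the complement: covering by vectors and pairs.
-/

set_option autoImplicit false

namespace CfsgLib.MinIndexOrth

open CfsgLib.Classical.Quad
open CfsgLib.Known.SpinMinus (orth mem_orth mem_orth_span finrank_orth)
open QuadraticMap (polar polarBilin)
open scoped _root_.Classical

noncomputable section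

variable {F : Type*} [Field F] {V : Type*} [AddCommGroup V] [Module F V] [FiniteDimensional F V]
  [Finite F] {Q : QuadraticForm F V}

/-- The standing data: counts and the bound for totally singular subspaces. -/
structure Ctx (Q : QuadraticForm F V) (p g i S S₂ : ℕ) : Prop where
  big : Big Q
  odd_of_seven : Module.finrank F V = 7 → (2 : F) ≠ 0
  prime : p.Prime
  char : CharP F p
  squares : ∀ c : F, c ≠ 0 →
    (Nat.card F - 1) / g ≤ Nat.card {d : F // ∃ μ : F, μ ≠ 0 ∧ d = μ * μ * c}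
  sing : ∀ u v : V, Q u = 0 → Q v = 0 → polar Q u v = 1 →
    Nat.card {x : WW Q u v // Q (x : V) = 0} = S + 1
  sing₂ : ∀ u v e e' : V, Q u = 0 → Q v = 0 → polar Q u v = 1 → e ∈ WW Q u v → e' ∈ WW Q u v →
    Q e = 0 → Q e' = 0 → polar Q e e' = 1 →
    Nat.card {x : PP Q (WW Q u v) e e' // Q (x : V) = 0} = S₂ + 1
  ts : ∀ u v : V, Q u = 0 → Q v = 0 → polar Q u v = 1 → ∀ E : Submodule F V, E ≤ WW Q u v →
    (∀ x ∈ E, Q x = 0) → Module.finrank F E ≤ i

variable {p g i S S₂ : ℕ} {f : F → F} {u v : V}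

theorem Ctx.smul_p (h : Ctx Q p g i S S₂) (x : V) : p • x = 0 := by
  have := h.char
  rw [← Nat.cast_smul_eq_nsmul F, CharP.cast_eq_zero, zero_smul]

theorem Ctx.card_singular (h : Ctx Q p g i S S₂) (hu : Q u = 0) (hv : Q v = 0)
    (huv : polar Q u v = 1) : Nat.card {x : V // x ∈ WW Q u v ∧ x ≠ 0 ∧ Q x = 0} = S := by
  have h1 : Nat.card {x : {x : WW Q u v // Q (x : V) = 0} // x ≠ ⟨0, QuadraticMap.map_zero Q⟩} = S := by
    have : Finite V := Module.finite_of_finite F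
    have := Fintype.ofFinite {x : WW Q u v // Q (x : V) = 0}
    have e := h.sing u v hu hv huv
    rw [Nat.card_eq_fintype_card] at e
    rw [Nat.card_eq_fintype_card, Fintype.card_subtype_compl, Fintype.card_subtype_eq, e]
    rfl
  refine (Nat.card_congr ?_).trans h1
  exact
    { toFun := fun x => ⟨⟨⟨x.1, x.2.1⟩, x.2.2.2⟩, fun e => x.2.2.1
        (congrArg (fun y : {x : WW Q u v // Q (x : V) = 0} => (y.1 : V)) e)⟩
      invFun := fun x => ⟨(x.1.1 : V), x.1.1.2, fun e => x.2 (Subtype.ext (Subtype.ext e)), x.1.2⟩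
      left_inv := fun _ => rfl
      right_inv := fun _ => rfl }

theorem Ctx.exists_partner_WW (h : Ctx Q p g i S S₂) (hu : Q u = 0) (hv : Q v = 0)
    (huv : polar Q u v = 1) {e : V} (he : e ∈ WW Q u v) (he0 : e ≠ 0) (hQe : Q e = 0) :
    ∃ e', e' ∈ WW Q u v ∧ Q e' = 0 ∧ polar Q e e' = 1 := by
  rw [mem_WW] at he
  obtain ⟨e', h1, h2, h3⟩ := exists_singular_partner h.big.nd hQe
    (U := Submodule.span F ({u, v} : Set V)) (fun x hx => perp_pair he.1 he.2 x hx) (fun hm => by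
      obtain ⟨a, b, rfl⟩ := Submodule.mem_span_pair.1 hm
      have hvu : polar Q v u = 1 := by rw [QuadraticMap.polar_comm]; exact huv
      simp [polar_add_right', polar_smul_right', polar_self', hu, hv, huv, hvu] at he
      simp [he.1, he.2] at he0)
  exact ⟨e', mem_WW.2 ⟨h3 u (Submodule.subset_span (by simp)), h3 v (Submodule.subset_span (by simp))⟩,
    h1, h2⟩

theorem surj_of_inj (f : F → F) (hf : ∀ l, l ≠ 0 → f l ≠ 0)
    (hinj : Function.Injective f) {μ : F} (hμ : μ ≠ 0) : ∃ l, l ≠ 0 ∧ f l = μ := by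
  obtain ⟨l, rfl⟩ := Finite.surjective_of_injective hinj μ
  refine ⟨l, fun e => ?_, rfl⟩
  subst e
  by_cases h : ∃ a, a ≠ 0 ∧ f a = 0
  · obtain ⟨a, ha, h0⟩ := h; exact hf a ha h0
  · obtain ⟨z, hz⟩ := Finite.surjective_of_injective hinj 0
    exact h ⟨z, fun e => hμ (by subst e; exact hz), hz⟩

/-- A singular vector covers. -/
theorem Ctx.cover_sing_vec (h : Ctx Q p g i S S₂) (hf : ∀ l, l ≠ 0 → f l ≠ 0) (hu : Q u = 0)
    (hv : Q v = 0) (huv : polar Q u v = 1) (A : Set V) {a : V} (ha : a ∈ A) (haW : a ∈ WW Q u v)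
    (ha0 : a ≠ 0) (hQa : Q a = 0) :
    S ≤ Nat.card (orb Q f u v A) * Nat.card {x : V // x ∈ A ∧ x ≠ 0 ∧ Q x = 0} := by
  have : Finite V := Module.finite_of_finite F
  have hc := cover_bound (Q := Q) hf (u := u) (v := v) A
    {t : V × V | t.1 ∈ WW Q u v ∧ t.1 ≠ 0 ∧ Q t.1 = 0 ∧ t.2 = t.1}
    (fun x y => x ≠ 0 ∧ Q x = 0 ∧ y = x)
    (fun g l x y hg hxy => by
      refine ⟨fun e => hxy.1 (by rw [e, map_zero, smul_zero]), ?_,
        scaled_injective hf g hg.1 hxy.2.2⟩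
      have := hxy.2.1
      rw [apply_smul, ap_Q] at this
      exact (mul_eq_zero.1 this).resolve_left (mul_ne_zero (hf l hg.1) (hf l hg.1)))
    (fun t ht => ht.2)
    (fun t ht => by
      obtain ⟨hW, h0, hQ, hs⟩ := ht
      obtain ⟨g, hg, hga⟩ := exists_lev_one h.big hu hv huv haW
        ((WW Q u v).smul_mem (f 1)⁻¹ hW) ha0 (smul_ne_zero (inv_ne_zero (hf 1 one_ne_zero)) h0)
        (by rw [apply_smul, hQ, hQa, mul_zero]) one_ne_zero
      have e : f 1 • ap g a = t.1 := by rw [hga, smul_inv_smul₀ (hf 1 one_ne_zero)]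
      exact ⟨g, 1, a, a, hg, ha, ha, e, e.trans hs.symm⟩)
  have e1 : Nat.card ({t : V × V | t.1 ∈ WW Q u v ∧ t.1 ≠ 0 ∧ Q t.1 = 0 ∧ t.2 = t.1} : Set (V × V)) = S := by
    refine (Nat.card_congr ?_).trans (h.card_singular hu hv huv)
    exact
      { toFun := fun t => ⟨t.1.1, t.2.1, t.2.2.1, t.2.2.2.1⟩
        invFun := fun x => ⟨(x.1, x.1), x.2.1, x.2.2.1, x.2.2.2, rfl⟩
        left_inv := fun t => Subtype.ext (Prod.ext rfl t.2.2.2.2.symm)
        right_inv := fun _ => rfl }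
  rw [e1] at hc
  refine hc.trans (Nat.mul_le_mul_left _ (le_of_eq (Nat.card_congr ?_)))
  exact
    { toFun := fun t => ⟨t.1.1, t.2.1, t.2.2.2.1, t.2.2.2.2.1⟩
      invFun := fun x => ⟨(x.1, x.1), x.2.1, x.2.1, x.2.2.1, x.2.2.2, rfl⟩
      left_inv := fun t => Subtype.ext (Prod.ext rfl t.2.2.2.2.2.symm)
      right_inv := fun _ => rfl }

/-- The vectors in the class of a value. -/
theorem Ctx.card_class (h : Ctx Q p g i S S₂) (hu : Q u = 0) (hv : Q v = 0)
    (huv : polar Q u v = 1) {c : F} (hc : c ≠ 0) :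
    (Nat.card F - 1) / g * ((Nat.card F ^ 2 - 1) * Nat.card F ^ (Module.finrank F V - 5)) ≤
      Nat.card {x : V // x ∈ WW Q u v ∧ ∃ μ : F, μ ≠ 0 ∧ Q x = μ * μ * c} := by
  have : Finite V := Module.finite_of_finite F
  have h1 := card_fibre_le (A := {d : F // ∃ μ : F, μ ≠ 0 ∧ d = μ * μ * c}) (B := WW Q u v)
    (fun d x => Q (x : V) = (d : F)) _ fun d => le_card_value_WW h.big hu hv huv (d : F)
  refine (Nat.mul_le_mul_right _ (h.squares c hc)).trans (h1.trans ?_)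
  refine Nat.card_le_card_of_injective (fun q => ⟨(q.1.2 : V), q.1.2.2, by
    obtain ⟨μ, hμ, e⟩ := q.1.1.2
    exact ⟨μ, hμ, by rw [q.2, e]⟩⟩) ?_
  intro q q' e
  have e' : q.1.2 = q'.1.2 := Subtype.ext (congrArg Subtype.val e :)
  refine Subtype.ext (Prod.ext (Subtype.ext ?_) e')
  rw [← q.2, ← q'.2, e']

/-- A non-singular vector covers. -/
theorem Ctx.cover_ns_vec (h : Ctx Q p g i S S₂) (hf : ∀ l, l ≠ 0 → f l ≠ 0)
    (hinj : Function.Injective f) (hu : Q u = 0) (hv : Q v = 0) (huv : polar Q u v = 1) (A : Set V)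
    {a : V} (ha : a ∈ A) (haW : a ∈ WW Q u v) (hQa : Q a ≠ 0) :
    (Nat.card F - 1) / g * ((Nat.card F ^ 2 - 1) * Nat.card F ^ (Module.finrank F V - 5)) ≤
      Nat.card (orb Q f u v A) * Nat.card {x : V // x ∈ A ∧ x ≠ 0} := by
  have : Finite V := Module.finite_of_finite F
  have ha0 : a ≠ 0 := fun e => hQa (by rw [e, QuadraticMap.map_zero])
  have hc := cover_bound (Q := Q) hf (u := u) (v := v) A
    {t : V × V | t.1 ∈ WW Q u v ∧ (∃ μ : F, μ ≠ 0 ∧ Q t.1 = μ * μ * Q a) ∧ t.2 = t.1}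
    (fun x y => x ≠ 0 ∧ y = x)
    (fun g l x y hg hxy => ⟨fun e => hxy.1 (by rw [e, map_zero, smul_zero]),
      scaled_injective hf g hg.1 hxy.2⟩)
    (fun t ht => by
      obtain ⟨-, ⟨μ, hμ, e⟩, hs⟩ := ht
      refine ⟨fun e0 => ?_, hs⟩
      rw [e0, QuadraticMap.map_zero] at e
      exact mul_ne_zero (mul_ne_zero hμ hμ) hQa e.symm)
    (fun t ht => by
      obtain ⟨hW, ⟨μ, hμ, hQ⟩, hs⟩ := ht
      obtain ⟨l, hl, hfl⟩ := surj_of_inj f hf hinj hμ
      have h0 : t.1 ≠ 0 := fun e => by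
        rw [e, QuadraticMap.map_zero] at hQ
        exact mul_ne_zero (mul_ne_zero hμ hμ) hQa hQ.symm
      obtain ⟨g, hg, hga⟩ := exists_lev_one h.big hu hv huv haW
        ((WW Q u v).smul_mem μ⁻¹ hW) ha0 (smul_ne_zero (inv_ne_zero hμ) h0)
        (by rw [apply_smul, hQ]; field_simp) hl
      have e : f l • ap g a = t.1 := by rw [hga, hfl, smul_inv_smul₀ hμ]
      exact ⟨g, l, a, a, hg, ha, ha, e, e.trans hs.symm⟩)
  refine ((h.card_class hu hv huv hQa).trans (le_of_eq (Nat.card_congr ?_))).trans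
    (hc.trans (Nat.mul_le_mul_left _ (le_of_eq (Nat.card_congr ?_))))
  · exact
      { toFun := fun x => ⟨(x.1, x.1), x.2.1, x.2.2, rfl⟩
        invFun := fun t => ⟨t.1.1, t.2.1, t.2.2.1⟩
        left_inv := fun _ => rfl
        right_inv := fun t => Subtype.ext (Prod.ext rfl t.2.2.2.symm) }
  · exact
      { toFun := fun t => ⟨t.1.1, t.2.1, t.2.2.2.1⟩
        invFun := fun x => ⟨(x.1, x.1), x.2.1, x.2.1, x.2.2, rfl⟩
        left_inv := fun t => Subtype.ext (Prod.ext rfl t.2.2.2.2.symm)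
        right_inv := fun _ => rfl }

theorem smul_indep {f : F → F} (hf : ∀ l, l ≠ 0 → f l ≠ 0) {g : commutator (OQ Q)} {l : F}
    (hl : l ≠ 0) {x y : V} (hx : f l • ap g x ≠ 0)
    (hy : f l • ap g y ∉ AddSubgroup.zmultiples (f l • ap g x)) :
    x ≠ 0 ∧ y ∉ AddSubgroup.zmultiples x := by
  refine ⟨fun e => hx (by rw [e, map_zero, smul_zero]), fun h => hy ?_⟩
  obtain ⟨n, rfl⟩ := AddSubgroup.mem_zmultiples_iff.1 h
  exact AddSubgroup.mem_zmultiples_iff.2 ⟨n, by rw [map_zsmul, smul_comm]⟩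

theorem notMem_zmultiples {x y : V} (h : y ∉ Submodule.span F ({x} : Set V)) :
    y ∉ AddSubgroup.zmultiples x := fun hm => h (by
  obtain ⟨n, rfl⟩ := AddSubgroup.mem_zmultiples_iff.1 hm
  rw [← Int.cast_smul_eq_zsmul F]
  exact Submodule.smul_mem _ _ (Submodule.mem_span_singleton_self x))

theorem li_pair_of_notMem {x y : V} (hx : x ≠ 0) (h : y ∉ Submodule.span F ({x} : Set V)) :
    LinearIndependent F ![x, y] :=
  (LinearIndependent.pair_iff' hx).2 fun c hc => h (Submodule.mem_span_singleton.2 ⟨c, hc⟩)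

theorem Ctx.rad_bound (h : Ctx Q p g i S S₂) {a b : V} (hQa : Q a ≠ 0) :
    Module.finrank F (Submodule.span F ({a, b} : Set V) ⊓ orth Q (Submodule.span F {a, b}) :
      Submodule F V) + 6 ≤ Module.finrank F V := by
  have h2 := CfsgLib.Known.SpinMinus.finrank_span_two h.big.nd a b
  have h1 := Submodule.finrank_mono (inf_le_left :
    Submodule.span F ({a, b} : Set V) ⊓ orth Q (Submodule.span F {a, b}) ≤ _)
  have hdim := h.big.dim
  by_cases h7 : Module.finrank F V = 7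
  swap
  · omega
  have h22 := h.odd_of_seven h7
  have hne : ¬ Submodule.span F ({a, b} : Set V) ≤
      (Submodule.span F ({a, b} : Set V) ⊓ orth Q (Submodule.span F {a, b})) := by
    intro hle
    have := mem_orth_span.1 (hle (Submodule.subset_span (Set.mem_insert a _))).2 a (Set.mem_insert a _)
    rw [polar_self'] at this
    exact mul_ne_zero h22 hQa this
  have hlt : (Submodule.span F ({a, b} : Set V) ⊓ orth Q (Submodule.span F {a, b})) <
      Submodule.span F ({a, b} : Set V) := lt_of_le_of_ne inf_le_left fun e => hne e.ge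
  have := Submodule.finrank_lt_finrank_of_lt hlt
  omega

/-- A pair starting at a non-singular vector covers. -/
theorem Ctx.cover_ns_pair (h : Ctx Q p g i S S₂) (hf : ∀ l, l ≠ 0 → f l ≠ 0)
    (hinj : Function.Injective f) (hu : Q u = 0) (hv : Q v = 0) (huv : polar Q u v = 1)
    (A : AddSubgroup V) {a b : V} (ha : a ∈ A) (hb' : b ∈ A) (haW : a ∈ WW Q u v)
    (hbW : b ∈ WW Q u v) (hQa : Q a ≠ 0) (hab : b ∉ Submodule.span F ({a} : Set V)) :
    tNs (Nat.card F) g (Module.finrank F V - 2) ≤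
      Nat.card (orb Q f u v (A : Set V)) * nPairs p (Nat.card A) := by
  have : Finite V := Module.finite_of_finite F
  have ha0 : a ≠ 0 := fun e => hQa (by rw [e, QuadraticMap.map_zero])
  have hc := cover_bound (Q := Q) hf (u := u) (v := v) (A : Set V)
    {t : V × V | t.1 ∈ WW Q u v ∧ t.2 ∈ WW Q u v ∧ t.2 ∉ Submodule.span F ({t.1} : Set V) ∧
      ∃ μ : F, μ ≠ 0 ∧ Q t.1 = μ * μ * Q a ∧ polar Q t.1 t.2 = μ * μ * polar Q a b ∧
        Q t.2 = μ * μ * Q b}
    (fun x y => x ≠ 0 ∧ y ∉ AddSubgroup.zmultiples x)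
    (fun g l x y hg hxy => smul_indep hf hg.1 hxy.1 hxy.2)
    (fun t ht => by
      obtain ⟨-, -, hs, μ, hμ, e, -, -⟩ := ht
      refine ⟨fun e0 => ?_, notMem_zmultiples hs⟩
      rw [e0, QuadraticMap.map_zero] at e
      exact mul_ne_zero (mul_ne_zero hμ hμ) hQa e.symm)
    (fun t ht => by
      obtain ⟨hW, hW', hs, μ, hμ, h1, h2, h3⟩ := ht
      obtain ⟨l, hl, hfl⟩ := surj_of_inj f hf hinj hμ
      have h0 : t.1 ≠ 0 := fun e => by
        rw [e, QuadraticMap.map_zero] at h1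
        exact mul_ne_zero (mul_ne_zero hμ hμ) hQa h1.symm
      have hli : LinearIndependent F ![μ⁻¹ • t.1, μ⁻¹ • t.2] := by
        refine li_pair_of_notMem (smul_ne_zero (inv_ne_zero hμ) h0) fun hm => hs ?_
        obtain ⟨c, hc⟩ := Submodule.mem_span_singleton.1 hm
        refine Submodule.mem_span_singleton.2 ⟨c, smul_right_injective V (inv_ne_zero hμ) ?_⟩
        show μ⁻¹ • (c • t.1) = μ⁻¹ • t.2
        rw [← hc, smul_comm]
      obtain ⟨g, hg, hga, hgb⟩ := exists_lev_two h.big hu hv huv haW hbW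
        ((WW Q u v).smul_mem μ⁻¹ hW) ((WW Q u v).smul_mem μ⁻¹ hW') (li_pair_of_notMem ha0 hab) hli
        (by rw [apply_smul, h1]; field_simp) (by rw [apply_smul, h3]; field_simp)
        (by rw [polar_smul_left', polar_smul_right', h2]; field_simp) (h.rad_bound hQa) hl
      exact ⟨g, l, a, b, hg, ha, hb', by rw [hga, hfl, smul_inv_smul₀ hμ],
        by rw [hgb, hfl, smul_inv_smul₀ hμ]⟩)
  refine (le_trans ?_ hc).trans (Nat.mul_le_mul_left _ (le_of_eq ?_))
  · have hdim := h.big.dim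
    rw [tNs, show Module.finrank F V - 2 - 3 = Module.finrank F V - 5 by omega]
    have hfib := card_fibre_le (A := {x : V // x ∈ WW Q u v ∧ ∃ μ : F, μ ≠ 0 ∧ Q x = μ * μ * Q a})
      (B := V) (fun x y => y ∈ WW Q u v ∧ polar Q (x : V) y = x.2.2.choose * x.2.2.choose * polar Q a b ∧
        Q y = x.2.2.choose * x.2.2.choose * Q b ∧ y ∉ Submodule.span F ({(x : V)} : Set V)) _
      fun x => le_card_fibre_WW h.big hu hv huv x.2.1 (fun e => by
        obtain ⟨μ, hμ, e'⟩ := x.2.2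
        rw [e, QuadraticMap.map_zero] at e'
        exact mul_ne_zero (mul_ne_zero hμ hμ) hQa e'.symm) _ _
    refine (Nat.mul_le_mul_right _ (h.card_class hu hv huv hQa)).trans (hfib.trans ?_)
    refine Nat.card_le_card_of_injective (fun q => ⟨((q.1.1 : V), q.1.2), q.1.1.2.1, q.2.1, q.2.2.2.2,
      q.1.1.2.2.choose, q.1.1.2.2.choose_spec.1, q.1.1.2.2.choose_spec.2, q.2.2.1, q.2.2.2.1⟩) ?_
    intro q q' e
    have e' := congrArg Subtype.val e
    simp only [Prod.mk.injEq] at e'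
    exact Subtype.ext (Prod.ext (Subtype.ext e'.1) e'.2)
  · exact card_indep_pairs h.prime h.smul_p A

/-- The perpendicular singular pairs. -/
theorem Ctx.le_card_perp_pairs (h : Ctx Q p g i S S₂) (hu : Q u = 0) (hv : Q v = 0)
    (huv : polar Q u v = 1) :
    tPerp (Nat.card F) S S₂ ≤ Nat.card {t : V × V // t.1 ∈ WW Q u v ∧ t.1 ≠ 0 ∧ Q t.1 = 0 ∧
      t.2 ∈ WW Q u v ∧ polar Q t.1 t.2 = 0 ∧ Q t.2 = 0 ∧ t.2 ∉ Submodule.span F ({t.1} : Set V)} := by
  have : Finite V := Module.finite_of_finite F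
  have hfib := card_fibre_le (A := {x : V // x ∈ WW Q u v ∧ x ≠ 0 ∧ Q x = 0}) (B := V)
    (fun x y => y ∈ WW Q u v ∧ polar Q (x : V) y = 0 ∧ Q y = 0 ∧
      y ∉ Submodule.span F ({(x : V)} : Set V)) (Nat.card F * S₂) fun x => by
    obtain ⟨e', he'W, he', hee⟩ := h.exists_partner_WW hu hv huv x.2.1 x.2.2.1 x.2.2.2
    have := le_card_perp_WW (u := u) (v := v) x.2.1 he'W x.2.2.2 he' hee
    rwa [h.sing₂ u v _ e' hu hv huv x.2.1 he'W x.2.2.2 he' hee, Nat.add_sub_cancel] at this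
  rw [h.card_singular hu hv huv] at hfib
  refine le_trans hfib ?_
  refine Nat.card_le_card_of_injective (fun q => ⟨((q.1.1 : V), q.1.2), q.1.1.2.1, q.1.1.2.2.1,
    q.1.1.2.2.2, q.2.1, q.2.2.1, q.2.2.2.1, q.2.2.2.2⟩) ?_
  intro q q' e
  have e' := congrArg Subtype.val e
  simp only [Prod.mk.injEq] at e'
  exact Subtype.ext (Prod.ext (Subtype.ext e'.1) e'.2)

/-- A perpendicular singular pair covers. -/
theorem Ctx.cover_perp_pair (h : Ctx Q p g i S S₂) (hf : ∀ l, l ≠ 0 → f l ≠ 0)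
    (hu : Q u = 0) (hv : Q v = 0) (huv : polar Q u v = 1)
    (A : Set V) {a b : V} (ha : a ∈ A) (hb' : b ∈ A) (haW : a ∈ WW Q u v)
    (hbW : b ∈ WW Q u v) (ha0 : a ≠ 0) (hQa : Q a = 0) (hQb : Q b = 0) (hp : polar Q a b = 0)
    (hab : b ∉ Submodule.span F ({a} : Set V)) :
    tPerp (Nat.card F) S S₂ ≤ Nat.card (orb Q f u v A) * Nat.card {q : V × V // q.1 ∈ A ∧ q.2 ∈ A ∧
      q.1 ≠ 0 ∧ q.2 ∉ AddSubgroup.zmultiples q.1 ∧ Q q.1 = 0 ∧ Q q.2 = 0 ∧
      q.2 ∉ Submodule.span F ({q.1} : Set V)} := by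
  have : Finite V := Module.finite_of_finite F
  have hc := cover_bound (Q := Q) hf (u := u) (v := v) A
    {t : V × V | t.1 ∈ WW Q u v ∧ t.1 ≠ 0 ∧ Q t.1 = 0 ∧ t.2 ∈ WW Q u v ∧ polar Q t.1 t.2 = 0 ∧
      Q t.2 = 0 ∧ t.2 ∉ Submodule.span F ({t.1} : Set V)}
    (fun x y => x ≠ 0 ∧ y ∉ AddSubgroup.zmultiples x ∧ Q x = 0 ∧ Q y = 0 ∧
      y ∉ Submodule.span F ({x} : Set V))
    (fun g l x y hg hxy => by
      obtain ⟨h1, h2, h3, h4, h5⟩ := hxy
      obtain ⟨e1, e2⟩ := smul_indep hf hg.1 h1 h2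
      rw [apply_smul, ap_Q] at h3 h4
      have hne := mul_ne_zero (hf l hg.1) (hf l hg.1)
      refine ⟨e1, e2, (mul_eq_zero.1 h3).resolve_left hne, (mul_eq_zero.1 h4).resolve_left hne,
        fun hm => h5 ?_⟩
      obtain ⟨c, rfl⟩ := Submodule.mem_span_singleton.1 hm
      exact Submodule.mem_span_singleton.2 ⟨c, by rw [map_smul, smul_comm]⟩)
    (fun t ht => ⟨ht.2.1, notMem_zmultiples ht.2.2.2.2.2.2, ht.2.2.1, ht.2.2.2.2.2.1,
      ht.2.2.2.2.2.2⟩)
    (fun t ht => by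
      obtain ⟨hW, h0, h1, hW', h2, h3, hs⟩ := ht
      obtain ⟨g, l, hg, hga, hgb⟩ := exists_lev_perp h.big hu hv huv haW hbW hW hW'
        (li_pair_of_notMem ha0 hab) (li_pair_of_notMem h0 hs) hQa hQb hp h1 h3 h2 f hf
      exact ⟨g, l, a, b, hg, ha, hb', hga, hgb⟩)
  exact (h.le_card_perp_pairs hu hv huv).trans hc

theorem Ctx.cover_perp_pair' (h : Ctx Q p g i S S₂) (hf : ∀ l, l ≠ 0 → f l ≠ 0)
    (hu : Q u = 0) (hv : Q v = 0) (huv : polar Q u v = 1)
    (A : AddSubgroup V) {a b : V} (ha : a ∈ A) (hb' : b ∈ A) (haW : a ∈ WW Q u v)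
    (hbW : b ∈ WW Q u v) (ha0 : a ≠ 0) (hQa : Q a = 0) (hQb : Q b = 0) (hp : polar Q a b = 0)
    (hab : b ∉ Submodule.span F ({a} : Set V)) :
    tPerp (Nat.card F) S S₂ ≤
      Nat.card (orb Q f u v (A : Set V)) * nPairs p (Nat.card A) := by
  have : Finite V := Module.finite_of_finite F
  refine (h.cover_perp_pair hf hu hv huv (A : Set V) ha hb' haW hbW ha0 hQa hQb hp hab).trans
    (Nat.mul_le_mul_left _ ?_)
  rw [nPairs, ← card_indep_pairs h.prime h.smul_p A]
  exact Nat.card_le_card_of_injective (fun q => ⟨q.1, q.2.1, q.2.2.1, q.2.2.2.1, q.2.2.2.2.1⟩)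
    fun q q' e => Subtype.ext (congrArg Subtype.val e :)

/-- A hyperbolic pair covers. -/
theorem Ctx.cover_hyp_pair (h : Ctx Q p g i S S₂) (hu : Q u = 0) (hv : Q v = 0)
    (huv : polar Q u v = 1) (hf : ∀ l, l ≠ 0 → f l ≠ 0) (hf1 : f 1 = 1)
    (hsq : ∀ l, l ≠ 0 → f l * f l = 1)
    (A : Set V) {a b : V} (ha : a ∈ A) (hb' : b ∈ A) (haW : a ∈ WW Q u v)
    (hbW : b ∈ WW Q u v) (hQa : Q a = 0) (hQb : Q b = 0) (hp : polar Q a b ≠ 0) :
    S * Nat.card F ^ (Module.finrank F V - 4) ≤ Nat.card (orb Q f u v A) *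
      Nat.card {q : V × V // q.1 ∈ A ∧ q.2 ∈ A ∧ Q q.1 = 0 ∧ Q q.2 = 0 ∧
        polar Q q.1 q.2 = polar Q a b} := by
  have : Finite V := Module.finite_of_finite F
  have : FiniteDimensional F V := inferInstance
  have hli : ∀ x y : V, Q x = 0 → polar Q x y ≠ 0 → LinearIndependent F ![x, y] := fun x y hx hxy =>
    linearIndependent_of_polar h.big.nd hx hxy
  have hc := cover_bound (Q := Q) hf (u := u) (v := v) A
    {t : V × V | t.1 ∈ WW Q u v ∧ Q t.1 = 0 ∧ t.2 ∈ WW Q u v ∧ Q t.2 = 0 ∧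
      polar Q t.1 t.2 = polar Q a b}
    (fun x y => Q x = 0 ∧ Q y = 0 ∧ polar Q x y = polar Q a b)
    (fun g l x y hg hxy => by
      obtain ⟨h1, h2, h3⟩ := hxy
      rw [apply_smul, ap_Q] at h1 h2
      rw [polar_smul_left', polar_smul_right', ap_polar, ← mul_assoc, hsq l hg.1, one_mul] at h3
      have hne := mul_ne_zero (hf l hg.1) (hf l hg.1)
      exact ⟨(mul_eq_zero.1 h1).resolve_left hne, (mul_eq_zero.1 h2).resolve_left hne, h3⟩)
    (fun t ht => ⟨ht.2.1, ht.2.2.2.1, ht.2.2.2.2⟩)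
    (fun t ht => by
      obtain ⟨hW, h1, hW', h2, h3⟩ := ht
      obtain ⟨g, hg, hga, hgb⟩ := exists_lev_two h.big hu hv huv haW hbW hW hW'
        (hli a b hQa hp) (hli _ _ h1 (by rw [h3]; exact hp)) (by rw [h1, hQa]) (by rw [h2, hQb]) h3
        (by
          have h0 : (Submodule.span F ({a, b} : Set V) ⊓ orth Q (Submodule.span F {a, b}) :
              Submodule F V) = ⊥ := by
            rw [eq_bot_iff]
            rintro x ⟨hx, hx'⟩
            obtain ⟨c, d, rfl⟩ := Submodule.mem_span_pair.1 hx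
            rw [SetLike.mem_coe, mem_orth_span] at hx'
            have e1 := hx' a (by simp)
            have e2 := hx' b (by simp)
            simp only [polar_add_right', polar_smul_right', polar_self', hQa, hQb, mul_zero,
              zero_add, add_zero, QuadraticMap.polar_comm (⇑Q) b a] at e1 e2
            rw [(mul_eq_zero.1 e1).resolve_right hp, (mul_eq_zero.1 e2).resolve_right hp]
            simp
          rw [h0, finrank_bot]
          have := h.big.dim
          omega) one_ne_zero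
      exact ⟨g, 1, a, b, hg, ha, hb', by rw [hf1, one_smul, hga], by rw [hf1, one_smul, hgb]⟩)
  refine le_trans ?_ ((hc).trans ?_)
  · have hfib := card_fibre_le (A := {x : V // x ∈ WW Q u v ∧ x ≠ 0 ∧ Q x = 0}) (B := V)
      (fun x y => y ∈ WW Q u v ∧ Q y = 0 ∧ polar Q (x : V) y = polar Q a b)
      (Nat.card F ^ (Module.finrank F V - 4)) fun x => by
      obtain ⟨e', he'W, he', hee⟩ := h.exists_partner_WW hu hv huv x.2.1 x.2.2.1 x.2.2.2
      rw [← card_PP_WW h.big hu huv x.2.1 he'W x.2.2.2 he' hee]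
      refine (le_card_partner_WW (u := u) (v := v) x.2.1 he'W x.2.2.2 he' hee).trans ?_
      refine Nat.card_le_card_of_injective (fun y => ⟨polar Q a b • (y : V),
        (WW Q u v).smul_mem _ y.2.1, by rw [apply_smul, y.2.2.2, mul_zero],
        by rw [polar_smul_right', y.2.2.1, mul_one]⟩) ?_
      intro y y' e
      exact Subtype.ext (smul_right_injective V hp (congrArg Subtype.val e :))
    rw [h.card_singular hu hv huv] at hfib
    refine hfib.trans (Nat.card_le_card_of_injective (fun q => ⟨((q.1.1 : V), q.1.2), q.1.1.2.1,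
      q.1.1.2.2.2, q.2.1, q.2.2.1, q.2.2.2⟩) ?_)
    intro q q' e
    have e' := congrArg Subtype.val e
    simp only [Prod.mk.injEq] at e'
    exact Subtype.ext (Prod.ext (Subtype.ext e'.1) e'.2)
  · exact Nat.mul_le_mul_left _ (le_of_eq rfl)

end

end CfsgLib.MinIndexOrth
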