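import Cfsg.Agent.Lib.Known.MinIndexOrth.Mid

/-!
The possible cores in a subgroup of small index.
-/

set_option autoImplicit false

namespace CfsgLib.MinIndexOrth

open CfsgLib.Classical.Quad
open CfsgLib.Known.SpinMinus (orth mem_orth mem_orth_span finrank_orth orth_orth)
open QuadraticMap (polar polarBilin)
open scoped _root_.Classical

noncomputable section

variable {F : Type*} [Field F] {V : Type*} [AddCommGroup V] [Module F V] [FiniteDimensional F V]
  [Finite F] {Q : QuadraticForm F V} {H : Subgroup (commutator (OQ Q))} {p g i B S S₂ : ℕ} {u v : V}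

theorem full_or_line (hb : Big Q) {u w : V} (hu0 : u ≠ 0) (hu : Q u = 0) (hw : polar Q u w = 0)
    (hwu : w ∉ Submodule.span F ({u} : Set V))
    (hc : ∀ x, polar Q u x = 0 → polar Q w x = 0 → x ∈ core H u) : Full H u ∨ LineT H u w := by
  by_cases hex : ∃ x ∈ core H u, polar Q w x ≠ 0
  · obtain ⟨x, hx, hwx⟩ := hex
    refine Or.inl ⟨hu0, hu, fun y hy => core_El ?_⟩
    have h1 : y - (polar Q w y / polar Q w x) • x ∈ core H u := by
      refine hc _ ?_ ?_
      · rw [QuadraticMap.polar_sub_right, polar_smul_right', hy, core_perp hx]; ring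
      · rw [QuadraticMap.polar_sub_right, polar_smul_right', div_mul_cancel₀ _ hwx, sub_self]
    simpa using (core H u).add_mem h1 ((core H u).smul_mem (polar Q w y / polar Q w x) hx)
  · push Not at hex
    exact Or.inr ⟨hu0, hu, hw, hwu, fun x => ⟨fun h => ⟨core_perp h, hex x h⟩, fun h => hc x h.1 h.2⟩⟩

theorem sub_smul_mem_WW (hu : Q u = 0) (huv : polar Q u v = 1) {x : V} (hx : polar Q u x = 0) :
    x - polar Q v x • u ∈ WW Q u v := by
  rw [mem_WW]
  have hvu : polar Q v u = 1 := by rw [QuadraticMap.polar_comm]; exact huv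
  constructor
  · rw [QuadraticMap.polar_sub_right, polar_smul_right', polar_self', hu, hx]; ring
  · rw [QuadraticMap.polar_sub_right, polar_smul_right', hvu]; ring

theorem El_sub_smul (hb : Big Q) (hu : Q u = 0) {x : V} (hx : polar Q u x = 0) (c : F) :
    (El Q u (x - c • u) : commutator (OQ Q)) = El Q u x := by
  rw [sub_eq_add_neg, ← neg_smul, El_mem_shift hb hu hx]

theorem pos_nPairs {p a : ℕ} (hp : 0 < p) (h : p < a) : 0 < nPairs p a :=
  Nat.mul_pos (by omega) (by omega)

theorem contra {N B c o n T : ℕ} (hN : c * o ≤ N) (hNB : N < B) (hn : 0 < n) (hT : T ≤ o * n)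
    (hB : B * n ≤ c * T) : False := by
  have e1 := Nat.mul_le_mul_left c hT
  rw [← mul_assoc] at e1
  have e2 := Nat.mul_le_mul_right n hN
  exact absurd (hB.trans (e1.trans e2)) (not_le.2 (Nat.mul_lt_mul_of_pos_right hNB hn))

theorem Ctx.scalars (h : Ctx Q p g i S S₂) : 0 < Nat.card F - 1 ∧ p ≤ Nat.card F := by
  have hq : 2 ≤ Nat.card F := Finite.one_lt_card
  refine ⟨by omega, ?_⟩
  have := h.char
  have : Fintype F := Fintype.ofFinite F
  obtain ⟨n, hp, hn⟩ := FiniteField.card F p
  rw [Nat.card_eq_fintype_card, hn]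
  exact Nat.le_self_pow n.pos.ne' p

/-- Non-zero elements of a subgroup. -/
theorem card_ne_zero (A : AddSubgroup V) [Finite V] :
    Nat.card {x : V // x ∈ (A : Set V) ∧ x ≠ 0} = Nat.card A - 1 := by
  have := Fintype.ofFinite A
  have e : {x : V // x ∈ (A : Set V) ∧ x ≠ 0} ≃ {x : A // x ≠ 0} :=
    { toFun := fun x => ⟨⟨x.1, x.2.1⟩, fun h => x.2.2 (congrArg Subtype.val h)⟩
      invFun := fun x => ⟨(x.1 : V), x.1.2, fun h => x.2 (Subtype.ext h)⟩
      left_inv := fun _ => rfl
      right_inv := fun _ => rfl }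
  rw [Nat.card_congr e, Nat.card_eq_fintype_card, Nat.card_eq_fintype_card,
    Fintype.card_subtype_compl, Fintype.card_subtype_eq]

/-- A maximal totally singular part with all translates lifting gives a point with a hyperplane
core. -/
theorem Ctx.bad (h : Ctx Q p g i S S₂) (hu : Q u = 0) (hv : Q v = 0) (huv : polar Q u v = 1)
    {l : F} (hl : l ≠ 0) (hl1 : l * l ≠ 1) (E : Submodule F V) (hEW : E ≤ WW Q u v)
    (hE : ∀ x ∈ E, Q x = 0) {e : V} (he : e ∈ E) (he0 : e ≠ 0)
    (hK : ∀ x, x ∈ KK H u v ↔ x ∈ WW Q u v ∧ ∀ y ∈ E, polar Q y x = 0)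
    (hlift : ∀ t m, Lev u v t m → (fun x => m • ap t x) '' (KK H u v : Set V) = KK H u v →
      ∃ d ∈ WW Q u v, El Q u d * t ∈ H) :
    ∃ e' : V, Full H e' ∨ (LineT H e' u ∧ ∀ c : F, e' ≠ c • u) := by
  have hb := h.big
  have hEE : ∀ x ∈ E, ∀ y ∈ E, polar Q x y = 0 := fun x hx y hy => by
    rw [QuadraticMap.polar, hE _ (E.add_mem hx hy), hE x hx, hE y hy]; ring
  have hKsub : ∀ {x : V} (c : F), x ∈ KK H u v → c • x ∈ KK H u v := fun {x} c hx => by
    rw [hK] at hx ⊢
    exact ⟨(WW Q u v).smul_mem _ hx.1, fun y hy => by rw [polar_smul_right', hx.2 y hy, mul_zero]⟩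
  have hEK : ∀ x ∈ E, x ∈ KK H u v := fun x hx => (hK x).2 ⟨hEW hx, fun y hy => hEE y hy x hx⟩
  obtain ⟨t, htu, htv, htz⟩ := exists_torus hb hu hv huv hl
  have hlev : Lev u v t (l * l) := ⟨mul_ne_zero hl hl, htu, htv⟩
  have htW : ∀ x ∈ WW Q u v, ap t x = x := fun x hx => htz x (mem_WW.1 hx).1 (mem_WW.1 hx).2
  obtain ⟨d, hdW, hd⟩ := hlift t (l * l) hlev (by
    ext x
    constructor
    · rintro ⟨k, hk, rfl⟩
      show (l * l) • ap t k ∈ KK H u v
      rw [htW k ((hK k).1 hk).1]
      exact hKsub _ hk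
    · intro hx
      refine ⟨(l * l)⁻¹ • x, hKsub _ hx, ?_⟩
      show (l * l) • ap t ((l * l)⁻¹ • x) = x
      rw [map_smul, htW x ((hK x).1 hx).1, smul_inv_smul₀ (mul_ne_zero hl hl)])
  have hμ : l * l - 1 ≠ 0 := sub_ne_zero.2 hl1
  obtain ⟨c, hc⟩ : ∃ c, c = (l * l - 1)⁻¹ • d := ⟨_, rfl⟩
  have hcW : c ∈ WW Q u v := hc ▸ (WW Q u v).smul_mem _ hdW
  have hcu : polar Q u c = 0 := (mem_WW.1 hcW).1
  -- the translates of the Eichler elements of `E`
  have main : ∀ x ∈ WW Q u v, polar Q e x = 0 → El Q (ap (El Q u c)⁻¹ e) (ap (El Q u c)⁻¹ x) ∈ H := by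
    intro x hxW hex
    obtain ⟨b, hbdef⟩ : ∃ b, b = El Q e x := ⟨_, rfl⟩
    obtain ⟨hbu, hbv⟩ := El_fix_pair hb (hE e he) hex (hEW he) hxW
    rw [← hbdef] at hbu hbv
    have hblev : Lev u v b 1 := ⟨one_ne_zero, by rw [hbu, one_smul], by rw [hbv, inv_one, one_smul]⟩
    have hbK : ∀ (x : V), x ∈ WW Q u v → polar Q e x = 0 → ∀ k, k ∈ KK H u v →
        ap (El Q e x) k ∈ KK H u v := by
      intro x hxW hex k hk
      have hke : polar Q k e = 0 := by rw [QuadraticMap.polar_comm]; exact ((hK k).1 hk).2 e he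
      rw [ap_El hb (hE e he) hex, hke]
      simp only [mul_zero, sub_zero, neg_zero, zero_smul, add_zero]
      exact AddSubgroup.add_mem _ hk (hKsub _ (hEK e he))
    obtain ⟨y, hyW, hy⟩ := hlift b 1 hblev (by
      ext k
      constructor
      · rintro ⟨k', hk', rfl⟩
        show (1 : F) • ap b k' ∈ KK H u v
        rw [one_smul, hbdef]
        exact hbK x hxW hex k' hk'
      · intro hk
        refine ⟨ap b⁻¹ k, ?_, ?_⟩
        · rw [hbdef, El_inv hex]
          exact hbK _ (Submodule.neg_mem _ hxW) (polar_neg' hex) k hk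
        · show (1 : F) • ap b (ap b⁻¹ k) = k
          rw [one_smul, ap_apply_inv])
    have hyu : polar Q u y = 0 := (mem_WW.1 hyW).1
    have hbdW := hblev.mem_WW hdW
    have hbdu : polar Q u (ap b d) = 0 := (mem_WW.1 hbdW).1
    have hcomm : t * b = b * t := by
      have e1 := conj_El hb t (hE e he) hex
      rw [htW e (hEW he), htW x hxW, ← hbdef] at e1
      exact mul_inv_eq_iff_eq_mul.1 e1
    have hp1 : polar Q u ((l * l) • y) = 0 := by rw [polar_smul_right', hyu, mul_zero]
    have e1 : El Q u d * t * (El Q u y * b) = El Q u (d + (l * l) • y) * (t * b) := by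
      have e2 := conj_El hb t hu hyu
      rw [htu, htW y hyW, El_smul_left hb hu hyu] at e2
      rw [El_add (mem_WW.1 hdW).1 hp1, ← e2]
      group
    have e1' : El Q u y * b * (El Q u d * t) = El Q u (y + ap b d) * (b * t) := by
      have e2 := conj_El hb b hu (mem_WW.1 hdW).1
      rw [hbu] at e2
      rw [El_add hyu hbdu, ← e2]
      group
    obtain ⟨z, hz⟩ : ∃ z, z = (d + (l * l) • y) - (y + ap b d) := ⟨_, rfl⟩
    have hzW : z ∈ WW Q u v := hz ▸ Submodule.sub_mem _
      (Submodule.add_mem _ hdW ((WW Q u v).smul_mem _ hyW)) (Submodule.add_mem _ hyW hbdW)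
    have hzK : z ∈ KK H u v := by
      refine mem_KK.2 ⟨⟨(mem_WW.1 hzW).1, ?_⟩, hzW⟩
      have h3 := H.mul_mem (H.mul_mem hd hy) (H.inv_mem (H.mul_mem hy hd))
      have hq1 : polar Q u (d + (l * l) • y) = 0 := by
        rw [polar_add_right', (mem_WW.1 hdW).1, hp1, add_zero]
      have hq2 : polar Q u (y + ap b d) = 0 := by rw [polar_add_right', hyu, hbdu, add_zero]
      rw [hz, sub_eq_add_neg, El_add hq1 (polar_neg' hq2), ← El_inv hq2]
      rw [e1, e1', hcomm, mul_inv_rev, ← mul_assoc, mul_assoc _ (b * t), mul_inv_cancel, mul_one] at h3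
      exact h3
    have hdiff : (ap b c - c) - y ∈ KK H u v := by
      have := hKsub (-(l * l - 1)⁻¹) hzK
      rw [hz] at this
      convert this using 1
      rw [hc, map_smul]
      match_scalars <;> field_simp <;> ring_nf
      all_goals (
        have hinv := mul_inv_cancel₀ hμ
        ring_nf at hinv
        linear_combination hinv)
    have hbcu : polar Q u (ap b c) = 0 := (mem_WW.1 (hblev.mem_WW hcW)).1
    have h4 : El Q u (ap b c - c) * b ∈ H := by
      have h5 := H.mul_mem (mem_KK.1 hdiff).1.2 hy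
      rwa [← mul_assoc, ← El_add (mem_KK.1 hdiff).1.1 hyu, sub_add_cancel] at h5
    rw [sub_eq_neg_add, El_add (polar_neg' hcu) hbcu] at h4
    have e3 := conj_El hb b hu hcu
    rw [hbu] at e3
    rw [← e3, ← El_inv hcu] at h4
    have h6 : (El Q u c)⁻¹ * b * ((El Q u c)⁻¹)⁻¹ ∈ H := by
      rw [inv_inv]; simpa [mul_assoc] using h4
    rw [hbdef, conj_El hb _ (hE e he) hex] at h6
    exact h6
  obtain ⟨e', he'⟩ : ∃ e', e' = ap (El Q u c)⁻¹ e := ⟨_, rfl⟩
  refine ⟨e', ?_⟩
  have he'Q : Q e' = 0 := by rw [he', ap_Q, hE e he]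
  have heu : polar Q u e = 0 := (mem_WW.1 (hEW he)).1
  have hfix : ap (El Q u c) u = u := El_fix hb hu hcu (by rw [polar_self', hu, mul_zero]) hcu
  have hfix' : ap (El Q u c)⁻¹ u = u := by
    have h9 := ap_inv_apply (El Q u c) u
    rwa [hfix] at h9
  have he'eq : ∃ k : F, e' = e + k • u := by
    rw [he', El_inv hcu, ap_El hb hu (polar_neg' hcu), QuadraticMap.polar_comm (⇑Q) e u, heu]
    exact ⟨polar Q e (-c), by simp⟩
  obtain ⟨k, hk⟩ := he'eq
  have hne : ∀ a : F, e' ≠ a • u := by
    intro a ha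
    have e1 : e = (a - k) • u := by rw [sub_smul, ← ha, hk, add_sub_cancel_right]
    exact he0 (eq_zero_of_mem_span_WW huv (Submodule.mem_span_singleton.2 ⟨_, e1.symm⟩) (hEW he))
  have he'0 : e' ≠ 0 := fun e1 => hne 0 (by rw [e1, zero_smul])
  have hperp : polar Q e' u = 0 := by
    rw [hk, polar_add_left', polar_smul_left', QuadraticMap.polar_comm (⇑Q) e u, heu, polar_self', hu]
    ring
  have hu' : u ∉ Submodule.span F ({e'} : Set V) := by
    intro hm
    obtain ⟨a, ha⟩ := Submodule.mem_span_singleton.1 hm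
    have ha0 : a ≠ 0 := fun e0 => by simp [← ha, e0] at huv
    exact hne a⁻¹ (by rw [← ha, inv_smul_smul₀ ha0])
  have he'u : e' ∈ core H u := by
    intro a
    have h7 := mem_KK.1 (hKsub a (hEK e he))
    have h8 : polar Q u ((a * k) • u) = 0 := by rw [polar_smul_right', polar_self', hu]; ring
    refine ⟨by rw [polar_smul_right', QuadraticMap.polar_comm, hperp, mul_zero], ?_⟩
    rw [hk, smul_add, smul_smul, El_mem_shift hb hu h7.1.1]
    exact h7.1.2
  refine Or.imp id (fun hline => ⟨hline, hne⟩) (full_or_line hb he'0 he'Q hperp hu' fun z hz1 hz2 => ?_)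
  -- split `z` along `u`
  obtain ⟨z', hz'⟩ : ∃ z', z' = ap (El Q u c) z := ⟨_, rfl⟩
  have hz'u : polar Q u z' = 0 := by
    have h9 := ap_polar (El Q u c) u z
    rw [hfix] at h9
    rw [hz', h9, hz2]
  have hz'e : polar Q e z' = 0 := by
    rw [hz', ← ap_apply_inv (El Q u c) e, ← he', ap_polar, hz1]
  have hwW := sub_smul_mem_WW hu huv hz'u
  have hwe : polar Q e (z' - polar Q v z' • u) = 0 := by
    rw [QuadraticMap.polar_sub_right, polar_smul_right', hz'e, QuadraticMap.polar_comm (⇑Q) e u, heu]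
    ring
  have hmem : ap (El Q u c)⁻¹ (z' - polar Q v z' • u) ∈ core H e' := by
    intro a
    rw [← map_smul, he']
    refine ⟨by rw [ap_polar, polar_smul_right', hwe, mul_zero], ?_⟩
    exact main _ ((WW Q u v).smul_mem _ hwW) (by rw [polar_smul_right', hwe, mul_zero])
  have hz_eq : z = ap (El Q u c)⁻¹ (z' - polar Q v z' • u) + polar Q v z' • u := by
    rw [map_sub, map_smul, hfix', hz', ap_inv_apply, sub_add_cancel]
  rw [hz_eq]
  exact (core H e').add_mem hmem ((core H e').smul_mem _ (core_symm hb hu he'Q he'u))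

/-- The span of a totally singular set of mutually perpendicular vectors is totally singular. -/
theorem singular_span {T : Set V} (h0 : ∀ x ∈ T, Q x = 0) (hp : ∀ x ∈ T, ∀ y ∈ T, polar Q x y = 0)
    {x : V} (hx : x ∈ Submodule.span F T) : Q x = 0 := by
  have h1 : ∀ y ∈ T, ∀ z ∈ Submodule.span F T, polar Q y z = 0 := by
    intro y hy z hz
    induction hz using Submodule.span_induction with
    | mem t ht => exact hp y hy t ht
    | zero => exact QuadraticMap.polar_zero_right _ _
    | add a b _ _ e1 e2 => rw [polar_add_right', e1, e2, add_zero]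
    | smul c a _ e1 => rw [polar_smul_right', e1, mul_zero]
  have h2 : ∀ y ∈ Submodule.span F T, ∀ z ∈ Submodule.span F T, polar Q y z = 0 := by
    intro y hy z hz
    induction hy using Submodule.span_induction with
    | mem t ht => exact h1 t ht z hz
    | zero => exact QuadraticMap.polar_zero_left _ _
    | add a b _ _ e1 e2 => rw [polar_add_left', e1, e2, add_zero]
    | smul c a _ e1 => rw [polar_smul_left', e1, mul_zero]
  induction hx using Submodule.span_induction with
  | mem t ht => exact h0 t ht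
  | zero => exact QuadraticMap.map_zero Q
  | add a b ha hb e1 e2 => rw [apply_add, e1, e2, h2 a ha b hb]; ring
  | smul c a _ e1 => rw [apply_smul, e1, mul_zero]

/-- The number of points. -/
theorem Ctx.card_points (h : Ctx Q p g i S S₂) (hu : Q u = 0) (hu0 : u ≠ 0) :
    (PS Q u).index * (Nat.card F - 1) =
      (Nat.card F - 1) * Nat.card F ^ (Module.finrank F V - 2) + Nat.card F * S + (Nat.card F - 1) := by
  have : Finite V := Module.finite_of_finite F
  obtain ⟨v, hv, huv⟩ := exists_partner_of_singular h.big.nd hu hu0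
  rw [index_PS_mul h.big hu hu0]
  have hs := card_value_split (U := (⊤ : Submodule F V)) hu hv huv Submodule.mem_top Submodule.mem_top 0
  rw [PP_top, h.sing u v hu hv huv, card_WW h.big hu huv] at hs
  have e1 : Nat.card {x : V // x ≠ 0 ∧ Q x = 0} + 1 =
      Nat.card {x : (⊤ : Submodule F V) // Q (x : V) = 0} := by
    rw [← Finite.card_option]
    refine Nat.card_congr
      { toFun := fun o => o.elim ⟨0, QuadraticMap.map_zero Q⟩ fun x => ⟨⟨x.1, Submodule.mem_top⟩, x.2.2⟩
        invFun := fun x => if hx : (x.1 : V) = 0 then none else some ⟨x.1, hx, x.2⟩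
        left_inv := fun o => by
          cases o with
          | none => simp
          | some x => simp [x.2.1]
        right_inv := fun x => by
          by_cases hx : (x.1 : V) = 0
          · simp only [hx, dite_true, Option.elim]
            exact Subtype.ext (Subtype.ext hx.symm)
          · simp [hx] }
  obtain ⟨w, hw⟩ : ∃ w, Nat.card F = w + 1 := ⟨Nat.card F - 1, by
    have := Nat.card_pos (α := F); omega⟩
  rw [hw, Nat.add_sub_cancel] at hs ⊢
  rw [← e1] at hs
  have : (w + 1) * (S + 1) = (w + 1) * S + w + 1 := by ring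
  omega

theorem exists_ns_or_line (A : AddSubgroup V) (h1 : A ≠ ⊥) :
    (∃ z ∈ A, z ≠ 0 ∧ (A : Set V) ⊆ (Submodule.span F ({z} : Set V) : Set V)) ∨
      (∃ a ∈ A, ∃ b ∈ A, Q a ≠ 0 ∧ b ∉ Submodule.span F ({a} : Set V)) ∨
      ((∀ x ∈ A, Q x = 0) ∧ ∃ a ∈ A, ∃ b ∈ A, a ≠ 0 ∧ b ∉ Submodule.span F ({a} : Set V)) := by
  obtain ⟨z, hz, hz0⟩ := (AddSubgroup.bot_or_exists_ne_zero A).resolve_left h1
  by_cases hns : ∃ a ∈ A, Q a ≠ 0
  · obtain ⟨a, ha, hQa⟩ := hns
    by_cases hline : ∃ b ∈ A, b ∉ Submodule.span F ({a} : Set V)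
    · obtain ⟨b, hb', hab⟩ := hline
      exact Or.inr (Or.inl ⟨a, ha, b, hb', hQa, hab⟩)
    · push Not at hline
      exact Or.inl ⟨a, ha, fun e => hQa (by rw [e, QuadraticMap.map_zero]), hline⟩
  · push Not at hns
    by_cases hline : ∃ b ∈ A, b ∉ Submodule.span F ({z} : Set V)
    · obtain ⟨b, hb', hab⟩ := hline
      exact Or.inr (Or.inr ⟨hns, z, hz, b, hb', hz0, hab⟩)
    · push Not at hline
      exact Or.inl ⟨z, hz, hz0, hline⟩

theorem card_le_of_subset_line {A : AddSubgroup V} {z : V}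
    (hAz : (A : Set V) ⊆ (Submodule.span F ({z} : Set V) : Set V)) : Nat.card A ≤ Nat.card F := by
  have : Finite V := Module.finite_of_finite F
  refine le_trans (Nat.card_le_card_of_injective
    (fun x : A => (⟨(x : V), hAz x.2⟩ : Submodule.span F ({z} : Set V)))
    fun x y e => Subtype.ext (congrArg Subtype.val e :)) ?_
  rw [Module.natCard_eq_pow_finrank (K := F)]
  have := finrank_span_le_card (R := F) ({z} : Set V)
  refine (Nat.pow_le_pow_right Nat.card_pos this).trans ?_
  simp

/-- A line core at one point of a pair of perpendicular points bounds the orbit below. -/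
theorem Ctx.line_orbit (h : Ctx Q p g i S S₂) (hu : Q u = 0) (hv : Q v = 0) (huv : polar Q u v = 1)
    {w : V} (hl : LineT H u w) (hw : Q w = 0) (hne : KK H u v ≠ (WW Q u v).toAddSubgroup) :
    Nat.card F * S ≤ H.relIndex (PS Q u) * (Nat.card F - 1) := by
  have hb := h.big
  have : Finite V := Module.finite_of_finite F
  have := h.char
  have : Fact p.Prime := ⟨h.prime⟩
  obtain ⟨τ, hτ⟩ := exists_functional (F := F) (p := p)
  obtain ⟨A, hA⟩ : ∃ A, A = ann Q τ u v (KK H u v : Set V) := ⟨_, rfl⟩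
  have hKW : ∀ x ∈ KK H u v, x ∈ WW Q u v := fun x hx => (mem_KK.1 hx).2
  have h1 := card_ann_mul hb h.smul_p hτ hu hv huv (KK H u v) hKW
  rw [← hA] at h1
  have h2 := ann_ann hb h.smul_p hτ hu hv huv (KK H u v) hKW
  rw [← hA] at h2
  have h3 := orbit_bound_one (H := H) hb hu huv
  rw [← h1] at h3
  have h4 := card_orb_ann (Q := Q) (τ := τ) (u := u) (v := v) (KK H u v : Set V)
  rw [← hA] at h4
  have hK0 : 0 < Nat.card (KK H u v) := Nat.card_pos
  have hN : Nat.card A * Nat.card (orb Q id u v (KK H u v : Set V)) ≤ H.relIndex (PS Q u) :=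
    Nat.le_of_mul_le_mul_right (by rwa [mul_right_comm] at h3) hK0
  obtain ⟨w', hw'⟩ : ∃ w', w' = w - polar Q v w • u := ⟨_, rfl⟩
  have hw'W : w' ∈ WW Q u v := hw' ▸ sub_smul_mem_WW hu huv hl.2.2.1
  have hw'0 : w' ≠ 0 := fun e => hl.ne_span (polar Q v w) (sub_eq_zero.1 (hw'.symm.trans e))
  have hA_line : ∀ a ∈ A, a ∈ Submodule.span F ({w'} : Set V) := by
    intro a ha
    rw [hA, mem_ann] at ha
    refine mem_span_of_perp hb fun z hz => ?_
    have hz' := hz w' (Submodule.mem_span_singleton_self w')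
    by_contra hne
    obtain ⟨y, hy⟩ : ∃ y, y = z + (-polar Q z v) • u + (-polar Q z u) • v := ⟨_, rfl⟩
    have hvu : polar Q v u = 1 := by rw [QuadraticMap.polar_comm]; exact huv
    have hyW : y ∈ WW Q u v := by
      rw [mem_WW, hy]
      constructor
      · simp only [polar_add_right', polar_smul_right', polar_self', hu, huv,
          QuadraticMap.polar_comm (⇑Q) z u]
        ring
      · simp only [polar_add_right', polar_smul_right', polar_self', hv, hvu,
          QuadraticMap.polar_comm (⇑Q) z v]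
        ring
    have hproj : ∀ x ∈ WW Q u v, polar Q x y = polar Q x z := by
      intro x hx
      rw [mem_WW] at hx
      rw [hy, polar_add_right', polar_add_right', polar_smul_right', polar_smul_right',
        QuadraticMap.polar_comm (⇑Q) x u, QuadraticMap.polar_comm (⇑Q) x v, hx.1, hx.2]
      ring
    have hwy : polar Q w y = 0 := by
      have : w = w' + polar Q v w • u := by rw [hw', sub_add_cancel]
      rw [this, polar_add_left', polar_smul_left', hproj w' hw'W, hz', (mem_WW.1 hyW).1]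
      ring
    have hmem : ∀ b : F, b • y ∈ KK H u v := fun b => by
      have hc : y ∈ core H u := (hl.2.2.2.2 y).2 ⟨(mem_WW.1 hyW).1, hwy⟩
      exact mem_KK.2 ⟨mem_core.1 hc b, (WW Q u v).smul_mem _ hyW⟩
    obtain ⟨b₀, hb₀⟩ : ∃ b₀, τ b₀ ≠ 0 := by
      by_contra hh
      push Not at hh
      exact hτ (AddMonoidHom.ext hh)
    have := ha.2 _ (hmem (b₀ / polar Q a z))
    rw [polar_smul_left', QuadraticMap.polar_comm (⇑Q) y a, hproj a ha.1, div_mul_cancel₀ _ hne] at this
    exact hb₀ this
  obtain ⟨a₀, ha₀, ha₀0⟩ : ∃ a ∈ A, a ≠ 0 := by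
    by_contra hc
    push Not at hc
    refine hne ?_
    rw [← h2]
    ext x
    refine ⟨fun hx => (mem_ann.1 hx).1, fun hx => mem_ann.2 ⟨hx, fun a ha => ?_⟩⟩
    rw [hc a ha, QuadraticMap.polar_zero_left, map_zero]
  have hQw' : Q w' = 0 := by
    rw [hw', sub_eq_add_neg, ← neg_smul, apply_add, apply_smul, polar_smul_right', hw, hu,
      QuadraticMap.polar_comm (⇑Q) w u, hl.2.2.1]
    ring
  have hsing : ∀ x ∈ A, Q x = 0 := by
    intro x hx
    obtain ⟨c, rfl⟩ := Submodule.mem_span_singleton.1 (hA_line x hx)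
    rw [apply_smul, hQw', mul_zero]
  have hc := h.cover_sing_vec (f := fun l => l⁻¹) (fun l hl => inv_ne_zero hl) hu hv huv (A : Set V) ha₀
    (mem_ann.1 (hA ▸ ha₀)).1 ha₀0 (hsing a₀ ha₀)
  have hn : Nat.card {x : V // x ∈ (A : Set V) ∧ x ≠ 0 ∧ Q x = 0} ≤ Nat.card A - 1 := by
    rw [← card_ne_zero A]
    exact Nat.card_le_card_of_injective (fun x => ⟨x.1, x.2.1, x.2.2.1⟩)
      fun x y e => Subtype.ext (congrArg Subtype.val e :)
  have hcard : Nat.card A ≤ Nat.card F := card_le_of_subset_line hA_line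
  have e1 : S ≤ Nat.card (orb Q id u v (KK H u v : Set V)) * (Nat.card A - 1) :=
    hc.trans (Nat.mul_le_mul h4 hn)
  have ha2 : 1 ≤ Nat.card A := Nat.card_pos
  obtain ⟨a', ha'⟩ : ∃ a', Nat.card A = a' + 1 := ⟨Nat.card A - 1, by omega⟩
  obtain ⟨q', hq'⟩ : ∃ q', Nat.card F = q' + 1 := ⟨Nat.card F - 1, by
    have := Nat.card_pos (α := F); omega⟩
  rw [ha', Nat.add_sub_cancel] at e1
  rw [ha'] at hN
  rw [hq', ha'] at hcard
  rw [hq', Nat.add_sub_cancel]
  calc (q' + 1) * S ≤ (q' + 1) * (Nat.card (orb Q id u v (KK H u v : Set V)) * a') :=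
        Nat.mul_le_mul_left _ e1
    _ = ((q' + 1) * a') * Nat.card (orb Q id u v (KK H u v : Set V)) := by ring
    _ ≤ ((a' + 1) * q') * Nat.card (orb Q id u v (KK H u v : Set V)) := Nat.mul_le_mul_right _ (by
        have : (q' + 1) * a' = q' * a' + a' := by ring
        have : (a' + 1) * q' = q' * a' + q' := by ring
        omega)
    _ = ((a' + 1) * Nat.card (orb Q id u v (KK H u v : Set V))) * q' := by ring
    _ ≤ H.relIndex (PS Q u) * q' := Nat.mul_le_mul_right _ hN

/-- In a subgroup of small index, a point is regular, or some point is full, or the core at the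
point is a hyperplane. -/
theorem Ctx.dich (h : Ctx Q p g i S S₂)
    (num : Num (Nat.card F) p g (Module.finrank F V - 2) i B S S₂) (hidx : H.index < B) {u : V}
    (hu0 : u ≠ 0) (hu : Q u = 0) : Reg H u ∨ (∃ x, Full H x) ∨ ∃ w, LineT H u w := by
  have hb := h.big
  have : Finite V := Module.finite_of_finite F
  have := finite_OQ (Q := Q)
  have := h.char
  have : Fact p.Prime := ⟨h.prime⟩
  obtain ⟨v, hv, huv⟩ := exists_partner_of_singular hb.nd hu hu0
  have hvu : polar Q v u = 1 := by rw [QuadraticMap.polar_comm]; exact huv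
  obtain ⟨τ, hτ⟩ := exists_functional (F := F) (p := p)
  obtain ⟨A, hA⟩ : ∃ A, A = ann Q τ u v (KK H u v : Set V) := ⟨_, rfl⟩
  have hKW : ∀ x ∈ KK H u v, x ∈ WW Q u v := fun x hx => (mem_KK.1 hx).2
  have hAW : ∀ x ∈ A, x ∈ WW Q u v := fun x hx => (mem_ann.1 (hA ▸ hx)).1
  have hak := card_ann_mul hb h.smul_p hτ hu hv huv (KK H u v) hKW
  rw [← hA, card_WW hb hu huv] at hak
  have haa := ann_ann hb h.smul_p hτ hu hv huv (KK H u v) hKW
  rw [← hA] at haa
  -- the zero part
  by_cases hKbot : KK H u v = ⊥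
  · left
    intro x hx hEl
    have hm : x - polar Q v x • u ∈ KK H u v := mem_KK.2 ⟨⟨(mem_WW.1 (sub_smul_mem_WW hu huv hx)).1,
      by rw [El_sub_smul hb hu hx]; exact hEl⟩, sub_smul_mem_WW hu huv hx⟩
    rw [hKbot, AddSubgroup.mem_bot, sub_eq_zero] at hm
    exact Submodule.mem_span_singleton.2 ⟨_, hm.symm⟩
  by_cases hAbot : A = ⊥
  · right; left
    refine ⟨u, hu0, hu, fun x hx => ?_⟩
    have hm : x - polar Q v x • u ∈ KK H u v := by
      rw [← haa, hAbot]
      exact mem_ann.2 ⟨sub_smul_mem_WW hu huv hx, fun a ha => by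
        rw [show a = 0 from AddSubgroup.mem_bot.1 ha, QuadraticMap.polar_zero_left, map_zero]⟩
    rw [← El_sub_smul hb hu hx (polar Q v x)]
    exact (mem_KK.1 hm).1.2
  obtain ⟨oK, hoK⟩ : ∃ o, o = Nat.card (orb Q id u v (KK H u v : Set V)) := ⟨_, rfl⟩
  have hbound := orbit_bound_one (H := H) hb hu huv
  rw [card_WW hb hu huv, ← hak, ← hoK] at hbound
  have hNrel : Nat.card A * oK ≤ H.relIndex (PS Q u) :=
    Nat.le_of_mul_le_mul_right (by rwa [mul_right_comm] at hbound) Nat.card_pos
  have hN : Nat.card A * oK ≤ H.index := hNrel.trans (relIndex_le_index' _)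
  have hoA : Nat.card (orb Q (fun l => l⁻¹) u v (A : Set V)) ≤ oK := by
    rw [hA, hoK]; exact card_orb_ann (KK H u v : Set V)
  have hNA : Nat.card A * Nat.card (orb Q (fun l => l⁻¹) u v (A : Set V)) ≤ H.index :=
    (Nat.mul_le_mul_left _ hoA).trans hN
  have hinv : ∀ l : F, l ≠ 0 → (fun l => l⁻¹) l ≠ 0 := fun l hl => inv_ne_zero hl
  have hid : ∀ l : F, l ≠ 0 → id l ≠ 0 := fun l hl => hl
  have hp0 : 0 < p := h.prime.pos
  have p_lt : ∀ {D : AddSubgroup V} {a b : V}, a ∈ D → b ∈ D → a ≠ 0 →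
      b ∉ Submodule.span F ({a} : Set V) → p < Nat.card D := by
    intro D a b ha hb' ha0 hab
    have hn : 0 < (Nat.card D - 1) * (Nat.card D - p) := by
      rw [← card_indep_pairs h.prime h.smul_p D, Nat.card_pos_iff]
      exact ⟨⟨⟨(a, b), ha, hb', ha0, notMem_zmultiples hab⟩⟩, inferInstance⟩
    rcases Nat.lt_or_ge p (Nat.card D) with h' | h'
    · exact h'
    · rw [Nat.sub_eq_zero_of_le h', mul_zero] at hn; omega
  rcases exists_ns_or_line A hAbot (Q := Q) (F := F) with ⟨w, hwA, hw0, hline⟩ | ⟨a, ha, b, hbA, hQa, hab⟩ |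
      ⟨hsing, a, ha, b, hbA, ha0, hab⟩
  · -- the annihilator is in a line
    have hwW := hAW w hwA
    have hwu : polar Q u w = 0 := (mem_WW.1 hwW).1
    have hc : ∀ x, polar Q u x = 0 → polar Q w x = 0 → x ∈ core H u := by
      intro x hx hwx c
      refine ⟨by rw [polar_smul_right', hx, mul_zero], ?_⟩
      have hcx : polar Q u (c • x) = 0 := by rw [polar_smul_right', hx, mul_zero]
      rw [← El_sub_smul hb hu hcx (polar Q v (c • x))]
      refine (mem_KK.1 (?_ : c • x - polar Q v (c • x) • u ∈ KK H u v)).1.2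
      rw [← haa]
      refine mem_ann.2 ⟨sub_smul_mem_WW hu huv hcx, fun y hy => ?_⟩
      obtain ⟨r, rfl⟩ := Submodule.mem_span_singleton.1 (hline hy)
      rw [polar_smul_left', QuadraticMap.polar_sub_right, polar_smul_right', polar_smul_right', hwx,
        QuadraticMap.polar_comm (⇑Q) w u, hwu]
      simp
    rcases full_or_line hb hu0 hu hwu (fun hm => hw0 (eq_zero_of_mem_span_WW huv hm hwW)) hc with hf | hl
    · exact Or.inr (Or.inl ⟨u, hf⟩)
    · exact Or.inr (Or.inr ⟨w, hl⟩)
  · -- a non-singular vector in the annihilator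
    exfalso
    have ha0 : a ≠ 0 := fun e => hQa (by rw [e, QuadraticMap.map_zero])
    have hpA := p_lt ha hbA ha0 hab
    have hcovA := h.cover_ns_pair (f := fun l => l⁻¹) hinv inv_injective hu hv huv A ha hbA
      (hAW a ha) (hAW b hbA) hQa hab
    rcases exists_ns_or_line (KK H u v) hKbot (Q := Q) (F := F) with
      ⟨z, hzK, hz0, hline⟩ | ⟨a', ha', b', hb', hQa', hab'⟩ | ⟨hsK, a', ha', b', hb', ha'0, hab'⟩
    · have hk : Nat.card (KK H u v) ≤ Nat.card F := card_le_of_subset_line hline
      have hk1 : 1 < Nat.card (KK H u v) := by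
        have : Nontrivial (KK H u v) := ⟨⟨⟨z, hzK⟩, 0, fun e => hz0 (congrArg Subtype.val e)⟩⟩
        exact Finite.one_lt_card
      obtain ⟨hS, hO⟩ := num.small _ _ hak hk1 hk
      by_cases hQz : Q z = 0
      · refine contra hN hidx (show 0 < Nat.card (KK H u v) - 1 by omega) ?_ hS
        refine (h.cover_sing_vec hid hu hv huv (KK H u v : Set V) hzK (hKW z hzK) hz0 hQz).trans ?_
        rw [← hoK]
        refine Nat.mul_le_mul_left _ ?_
        rw [← card_ne_zero]
        exact Nat.card_le_card_of_injective (fun x => ⟨x.1, x.2.1, x.2.2.1⟩)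
          fun x y e => Subtype.ext (congrArg Subtype.val e :)
      · refine contra hN hidx (show 0 < Nat.card (KK H u v) - 1 by omega) ?_ hO
        rw [← card_ne_zero, hoK, show Module.finrank F V - 2 - 3 = Module.finrank F V - 5 by omega]
        exact h.cover_ns_vec hid Function.injective_id hu hv huv (KK H u v : Set V) hzK (hKW z hzK) hQz
    · have ha'0 : a' ≠ 0 := fun e => hQa' (by rw [e, QuadraticMap.map_zero])
      have hpK := p_lt ha' hb' ha'0 hab'
      rcases num.ns _ _ hak hpA hpK with hA1 | hK1 | ⟨hqp, hq3, e, he, hor, m1, m2, m3⟩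
      · exact contra hNA hidx (pos_nPairs hp0 hpA) hcovA hA1
      · refine contra hN hidx (pos_nPairs hp0 hpK) ?_ hK1
        rw [hoK]
        exact h.cover_ns_pair hid Function.injective_id hu hv huv (KK H u v) ha' hb' (hKW a' ha')
          (hKW b' hb') hQa' hab'
      · have hsqu : ∀ l : F, l ≠ 0 → l * l = 1 := by
          intro l hl
          have : Fintype F := Fintype.ofFinite F
          have h2 : 2 ≤ Fintype.card F := Fintype.one_lt_card
          rw [Nat.card_eq_fintype_card] at hq3
          have hp := FiniteField.pow_card_sub_one_eq_one l hl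
          rcases (show Fintype.card F = 2 ∨ Fintype.card F = 3 by omega) with hc | hc <;> rw [hc] at hp
          · rw [show 2 - 1 = 1 from rfl, pow_one] at hp; rw [hp, one_mul]
          · rwa [show 3 - 1 = 2 from rfl, pow_two] at hp
        rw [show Module.finrank F V - 2 - 2 = Module.finrank F V - 4 by omega] at m1
        rcases hor with hor | hor
        · exact h.mid hu hv huv hinv inv_one (fun l hl => by
            rw [← mul_inv, hsqu l hl, inv_one]) hqp A hAW he hor hNA hidx m1 m2 m3
        · exact h.mid hu hv huv hid rfl (fun l hl => hsqu l hl) hqp (KK H u v) hKW he hor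
            (hoK ▸ hN) hidx m1 m2 m3
    · -- the part in the subgroup is totally singular
      have hpK := p_lt ha' hb' ha'0 hab'
      have hperp : ∀ x ∈ KK H u v, ∀ y ∈ KK H u v, polar Q x y = 0 := fun x hx y hy => by
        rw [QuadraticMap.polar, hsK _ (AddSubgroup.add_mem _ hx hy), hsK x hx, hsK y hy]; ring
      obtain ⟨E, hE⟩ : ∃ E, E = Submodule.span F (KK H u v : Set V) := ⟨_, rfl⟩
      have hEts : ∀ x ∈ E, Q x = 0 := fun x hx => singular_span hsK hperp (hE ▸ hx)
      have hEW : E ≤ WW Q u v := hE ▸ Submodule.span_le.2 hKW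
      have hEi := h.ts u v hu hv huv E hEW hEts
      have hk : Nat.card (KK H u v) ≤ Nat.card F ^ i := by
        refine le_trans (Nat.card_le_card_of_injective
          (fun x : KK H u v => (⟨(x : V), hE ▸ Submodule.subset_span x.2⟩ : E))
          fun x y e => Subtype.ext (congrArg Subtype.val e :)) ?_
        rw [Module.natCard_eq_pow_finrank (K := F)]
        exact Nat.pow_le_pow_right Nat.card_pos hEi
      rcases num.perpK _ _ hak hpK hk with hK1 | ⟨hk', hle⟩
      · refine contra hN hidx (pos_nPairs hp0 hpK) ?_ hK1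
        rw [hoK]
        exact h.cover_perp_pair' hid hu hv huv (KK H u v) ha' hb' (hKW a' ha') (hKW b' hb') ha'0
          (hsK a' ha') (hsK b' hb') (hperp a' ha' b' hb') hab'
      · have hsub : KK H u v ≤ A := fun x hx => hA ▸ mem_ann.2 ⟨hKW x hx, fun y hy => by
          rw [hperp y hy x hx, map_zero]⟩
        have := AddSubgroup.eq_of_le_of_card_ge hsub hle
        exact hQa (hsK a (this ▸ ha))
  · -- the annihilator is totally singular
    have hperp : ∀ x ∈ A, ∀ y ∈ A, polar Q x y = 0 := fun x hx y hy => by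
      rw [QuadraticMap.polar, hsing _ (AddSubgroup.add_mem _ hx hy), hsing x hx, hsing y hy]; ring
    have hpA := p_lt ha hbA ha0 hab
    have hcov := h.cover_perp_pair' (f := fun l => l⁻¹) hinv hu hv huv A ha hbA (hAW a ha)
      (hAW b hbA) ha0 (hsing a ha) (hsing b hbA) (hperp a ha b hbA) hab
    obtain ⟨E, hE⟩ : ∃ E, E = Submodule.span F (A : Set V) := ⟨_, rfl⟩
    have hEts : ∀ x ∈ E, Q x = 0 := fun x hx => singular_span hsing hperp (hE ▸ hx)
    have hEW : E ≤ WW Q u v := hE ▸ Submodule.span_le.2 hAW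
    have hEcard : Nat.card E ≤ Nat.card F ^ i := by
      rw [Module.natCard_eq_pow_finrank (K := F)]
      exact Nat.pow_le_pow_right Nat.card_pos (h.ts u v hu hv huv E hEW hEts)
    have hAE : ∀ x ∈ A, x ∈ E := fun x hx => hE ▸ Submodule.subset_span hx
    have hale : Nat.card A ≤ Nat.card F ^ i := le_trans (Nat.card_le_card_of_injective
      (fun x : A => (⟨(x : V), hAE x x.2⟩ : E)) fun x y e => Subtype.ext (congrArg Subtype.val e :))
      hEcard
    rcases num.perpA _ _ hak hpA hale with hA1 | ⟨hai, hq4, htwo, hplus⟩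
    · exact (contra hNA hidx (pos_nPairs hp0 hpA) hcov hA1).elim
    have hEA : ∀ x, x ∈ E ↔ x ∈ A := by
      intro x
      refine ⟨fun hx => ?_, hAE x⟩
      have : E.toAddSubgroup = A :=
        (AddSubgroup.eq_of_le_of_card_ge (show A ≤ E.toAddSubgroup from hAE)
          (show Nat.card E ≤ Nat.card A by rw [hai]; exact hEcard)).symm
      rw [← this]; exact hx
    have hKE : ∀ x, x ∈ KK H u v ↔ x ∈ WW Q u v ∧ ∀ y ∈ E, polar Q y x = 0 := by
      intro x
      constructor
      · intro hx
        refine ⟨hKW x hx, fun y hy => ?_⟩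
        by_contra hne
        obtain ⟨b₀, hb₀⟩ : ∃ b₀, τ b₀ ≠ 0 := by
          by_contra hh
          push Not at hh
          exact hτ (AddMonoidHom.ext hh)
        have h1 : (b₀ / polar Q y x) • y ∈ ann Q τ u v (KK H u v : Set V) :=
          hA ▸ (hEA _).1 (E.smul_mem _ hy)
        have := (mem_ann.1 h1).2 x hx
        rw [polar_smul_right', QuadraticMap.polar_comm (⇑Q) x y, div_mul_cancel₀ _ hne] at this
        exact hb₀ this
      · rintro ⟨hxW, hx⟩
        rw [← haa]
        exact mem_ann.2 ⟨hxW, fun y hy => by rw [hx y (hAE y hy), map_zero]⟩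
    have hlift : ∀ t m, Lev u v t m →
        (fun x => m • ap t x) '' (KK H u v : Set V) = KK H u v →
        ∃ d ∈ WW Q u v, El Q u d * t ∈ H := by
      intro t m ht hst
      by_contra hc
      push Not at hc
      have h2 := orbit_bound_two (H := H) hb hu huv ht hst hc
      rw [card_WW hb hu huv, ← hak, ← hoK] at h2
      have h3 : Nat.card A * oK * 2 ≤ H.relIndex (PS Q u) :=
        Nat.le_of_mul_le_mul_right (by linarith) (Nat.card_pos (α := KK H u v))
      have h4 : 2 * Nat.card A * Nat.card (orb Q (fun l => l⁻¹) u v (A : Set V)) ≤ H.index := by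
        have := Nat.mul_le_mul_left (Nat.card A * 2) hoA
        have := relIndex_le_index' (H := H) (PS Q u)
        linarith
      exact contra h4 hidx (pos_nPairs hp0 hpA) hcov (by rw [mul_assoc]; exact htwo)
    obtain ⟨l, hl, hl1⟩ : ∃ l : F, l ≠ 0 ∧ l * l ≠ 1 := by
      by_contra hc
      push Not at hc
      have hs : ({0, 1, -1} : Finset F).card ≤ 3 := Finset.card_le_three
      have hle : Nat.card F ≤ 3 := by
        refine le_trans (Nat.card_le_card_of_injective (β := ({0, 1, -1} : Finset F))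
          (fun x => ⟨x, by
            by_cases hx : x = 0
            · simp [hx]
            · rcases mul_self_eq_one_iff.1 (hc x hx) with h' | h' <;> simp [h']⟩)
          fun x y e => congrArg Subtype.val e) ?_
        rw [Nat.card_eq_fintype_card, Fintype.card_coe]
        exact hs
      omega
    obtain ⟨e', hcase⟩ := h.bad hu hv huv hl hl1 E hEW hEts (hAE a ha) ha0 hKE hlift
    rcases hcase with hf | ⟨hline, hne⟩
    · exact Or.inr (Or.inl ⟨e', hf⟩)
    right; left
    by_contra hnf
    push Not at hnf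
    -- two orbits of points
    obtain ⟨v', hv', he'v'⟩ := exists_partner_of_singular hb.nd hline.2.1 hline.1
    have hnotfull : KK H e' v' ≠ (WW Q e' v').toAddSubgroup := by
      intro eq
      refine hnf e' ⟨hline.1, hline.2.1, fun x hx => ?_⟩
      have hm := sub_smul_mem_WW hline.2.1 he'v' hx
      have hm' : x - polar Q v' x • e' ∈ KK H e' v' := by rw [eq]; exact hm
      rw [← El_sub_smul hb hline.2.1 hx (polar Q v' x)]
      exact (mem_KK.1 hm').1.2
    have hL := h.line_orbit hline.2.1 hv' he'v' hline hu hnotfull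
    have hsep : ∀ k ∈ H, ∀ c : F, c ≠ 0 → ap k u ≠ c • e' := by
      intro k hk c hc he
      -- otherwise the core at `u` would be a hyperplane
      have hmap := hline.map hb (H.inv_mem hk)
      have hk' : ap k⁻¹ e' = c⁻¹ • u := by
        rw [← inv_smul_smul₀ hc e', ← he, map_smul, ap_inv_apply]
      rw [hk'] at hmap
      have hl2 := hmap.smul hb hc
      rw [smul_inv_smul₀ hc] at hl2
      obtain ⟨w, hw⟩ : ∃ w, w = ap k⁻¹ u - polar Q v (ap k⁻¹ u) • u := ⟨_, rfl⟩
      have hwW : w ∈ WW Q u v := hw ▸ sub_smul_mem_WW hu huv hl2.2.2.1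
      have hEw : ∀ y ∈ E, y ∈ Submodule.span F ({w} : Set V) := by
        intro y hy
        refine mem_span_of_perp hb fun z hz => ?_
        have hwz := hz w (Submodule.mem_span_singleton_self w)
        obtain ⟨z', hz'⟩ : ∃ z', z' = z + (-polar Q z v) • u + (-polar Q z u) • v := ⟨_, rfl⟩
        have hz'W : z' ∈ WW Q u v := by
          rw [mem_WW, hz']
          constructor
          · simp only [polar_add_right', polar_smul_right', polar_self', hu, huv,
              QuadraticMap.polar_comm (⇑Q) z u]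
            ring
          · simp only [polar_add_right', polar_smul_right', polar_self', hv, hvu,
              QuadraticMap.polar_comm (⇑Q) z v]
            ring
        have hproj : ∀ x ∈ WW Q u v, polar Q x z' = polar Q x z := by
          intro x hx
          rw [mem_WW] at hx
          rw [hz', polar_add_right', polar_add_right', polar_smul_right', polar_smul_right',
            QuadraticMap.polar_comm (⇑Q) x u, QuadraticMap.polar_comm (⇑Q) x v, hx.1, hx.2]
          ring
        have hc' : z' ∈ core H u := by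
          refine (hl2.2.2.2.2 z').2 ⟨(mem_WW.1 hz'W).1, ?_⟩
          rw [← sub_add_cancel (ap k⁻¹ u) (polar Q v (ap k⁻¹ u) • u), ← hw, polar_add_left',
            polar_smul_left', hproj w hwW, hwz, (mem_WW.1 hz'W).1]
          ring
        have := ((hKE z').1 (mem_KK.2 ⟨by simpa [mem_XS] using mem_core.1 hc' 1, hz'W⟩)).2 y hy
        rwa [hproj y (hEW hy)] at this
      obtain ⟨r, hr⟩ := Submodule.mem_span_singleton.1 (hEw a (hAE a ha))
      obtain ⟨s, hs⟩ := Submodule.mem_span_singleton.1 (hEw b (hAE b hbA))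
      have hr0 : r ≠ 0 := fun e => ha0 (by rw [← hr, e, zero_smul])
      exact hab (Submodule.mem_span_singleton.2 ⟨s / r, by
        rw [← hr, smul_smul, div_mul_cancel₀ _ hr0, hs]⟩)
    have hsum := orbit_add_le (H := H) hb hu hu0 hline.2.1 hline.1 hsep
    have hP := h.card_points hu hu0
    have hP' := h.card_points hline.2.1 hline.1
    have hu_orb := index_mul_orbit (H := H) (PS Q u)
    have he_orb := index_mul_orbit (H := H) (PS Q e')
    obtain ⟨hqpos, -⟩ := h.scalars
    have hPeq : (PS Q e').index = (PS Q u).index :=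
      Nat.eq_of_mul_eq_mul_right hqpos (hP'.trans hP.symm)
    have hqd : Nat.card F ^ (Module.finrank F V - 2) + 1 ≤ H.relIndex (PS Q u) := by
      have hn := pos_nPairs hp0 hpA
      refine Nat.le_of_mul_le_mul_right (hplus.trans ?_) hn
      refine (Nat.mul_le_mul_left _ hcov).trans ?_
      rw [← mul_assoc]
      exact Nat.mul_le_mul_right _ ((Nat.mul_le_mul_left _ hoA).trans hNrel)
    have hBP : H.index * (Nat.card F - 1) < (PS Q u).index * (Nat.card F - 1) := by
      rw [hP]
      exact lt_of_le_of_lt (Nat.mul_le_mul_right _ (by omega : H.index ≤ B - 1)) num.le_points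
    have hNP : H.index < (PS Q u).index := Nat.lt_of_mul_lt_mul_right hBP
    obtain ⟨s₁, hs₁⟩ : ∃ s, s = H.relIndex (PS Q u) := ⟨_, rfl⟩
    obtain ⟨s₂, hs₂⟩ : ∃ s, s = H.relIndex (PS Q e') := ⟨_, rfl⟩
    rw [← hs₁] at hu_orb hqd
    rw [← hs₂] at he_orb hL
    rw [hPeq] at he_orb
    have hbig : (PS Q u).index ≤ s₁ + s₂ := by
      refine Nat.le_of_mul_le_mul_right ?_ hqpos
      rw [hP, add_mul]
      have := Nat.mul_le_mul_right (Nat.card F - 1) hqd
      rw [add_mul, one_mul, mul_comm] at this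
      omega
    obtain ⟨P, hPdef⟩ : ∃ P, P = (PS Q u).index := ⟨_, rfl⟩
    obtain ⟨h₁, hh₁⟩ : ∃ x, x = (PS Q u).relIndex H := ⟨_, rfl⟩
    obtain ⟨h₂, hh₂⟩ : ∃ x, x = (PS Q e').relIndex H := ⟨_, rfl⟩
    rw [← hPdef, ← hh₁] at hu_orb
    rw [← hPdef, ← hh₂] at he_orb
    rw [← hh₁, ← hh₂, ← hPdef] at hsum
    rw [← hPdef] at hbig hNP
    have : H.index * (h₁ + h₂) = P * (s₁ + s₂) := by rw [mul_add, mul_add, hu_orb, he_orb]
    have hPpos : 0 < P := lt_of_le_of_lt (Nat.zero_le _) hNP
    have : P * P ≤ P * (s₁ + s₂) := Nat.mul_le_mul_left _ hbig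
    have : H.index * (h₁ + h₂) ≤ H.index * P := Nat.mul_le_mul_left _ hsum
    have : H.index * P < P * P := Nat.mul_lt_mul_of_pos_right hNP hPpos
    omega

end

end CfsgLib.MinIndexOrth
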